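import Groth.Agent.RelGCILib.Syntomic
import Groth.Agent.KRIdeal.Descent
import Groth.Agent.KRIdeal.Smooth

/-!
# Criteria for syntomicity: locally a relative global complete intersection; flat and LCI
-/

set_option autoImplicit false
set_option linter.style.haveILetI false
universe u

open TensorProduct

namespace Groth.Agent.RelGCILib

section Field

variable {k : Type u} [Field k] {A : Type u} [CommRing A] [Algebra k A]

theorem isLCI_of_isLCIOver (h : Synt.IsLCIOver k A) : LCI.IsLCI k A := by
  refine KRIdeal.isLCI_of_span k A {g | Nontrivial (Localization.Away g) ∧ Synt.IsGlobalCI k (Localization.Away g)} ?_ ?_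
  · by_contra hne
    obtain ⟨M, hM, hle⟩ := Ideal.exists_le_maximal _ hne
    obtain ⟨g, hg, hci⟩ := h.2 ⟨M, hM.isPrime⟩
    refine hg (hle (Ideal.subset_span ⟨?_, hci⟩))
    haveI := IsLocalization.isPrime_of_isPrime_disjoint (Submonoid.powers g) (Localization.Away g) M hM.isPrime
      (Set.disjoint_left.2 fun x hx hxM => by
        obtain ⟨n, rfl⟩ := hx
        exact hg (hM.isPrime.mem_of_pow_mem n hxM))
    exact (PrimeSpectrum.nonempty_iff_nontrivial).1 ⟨⟨M.map (algebraMap A (Localization.Away g)), this⟩⟩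
  · rintro g ⟨hn, hci⟩
    exact isLCI_of_isGlobalCI hci

theorem nonempty_relGCI_fiber_equiv {m d : ℕ} (F : Fin d → MvPolynomial (Fin m) k) (p : Ideal k) [p.IsPrime] :
    Nonempty (p.Fiber (Synt.RelGCIRing k m d F) ≃+* Synt.RelGCIRing k m d F) := by
  haveI : p.IsMaximal := by
    rw [(Ideal.eq_bot_or_top p).resolve_right ‹p.IsPrime›.ne_top]
    exact Ideal.bot_isMaximal
  let σ : k ≃ₐ[k] p.ResidueField := AlgEquiv.ofBijective (Algebra.ofId k p.ResidueField)
    ⟨(algebraMap k p.ResidueField).injective, Ideal.algebraMap_residueField_surjective p⟩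
  exact ⟨((Algebra.TensorProduct.congr σ.symm
    (AlgEquiv.refl : Synt.RelGCIRing k m d F ≃ₐ[k] Synt.RelGCIRing k m d F)).trans
      (Algebra.TensorProduct.lid k (Synt.RelGCIRing k m d F))).toRingEquiv⟩

/-- Over a field a relative global complete intersection is a global complete intersection. -/
theorem isGlobalCI_of_isRelGCI {m d : ℕ} (F : Fin d → MvPolynomial (Fin m) k) (h : Synt.IsRelGCI k m d F) :
    Synt.IsGlobalCI k (Synt.RelGCIRing k m d F) := by
  rcases subsingleton_or_nontrivial (Synt.RelGCIRing k m d F) with hs | hn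
  · exact Or.inl hs
  let p : PrimeSpectrum k := ⟨⊥, Ideal.isPrime_bot⟩
  obtain ⟨e⟩ := nonempty_relGCI_fiber_equiv F p.asIdeal
  obtain ⟨hdm, hdim⟩ := h p e.toEquiv.nontrivial
  exact Or.inr ⟨m, d, hdm, Ideal.Quotient.mkₐ k _, F, Ideal.Quotient.mk_surjective, Ideal.mk_ker,
    (ringKrullDim_eq_of_ringEquiv e).symm.trans hdim⟩

end Field

variable (R S : Type u) [CommRing R] [CommRing S] [Algebra R S]

/-- An algebra which is locally a relative global complete intersection is syntomic. -/
theorem isSyntomic_of_forall_exists (h : ∀ (q : Ideal S) [q.IsPrime], ∃ g : S, g ∉ q ∧ ∃ (m d : ℕ)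
    (G : Fin d → MvPolynomial (Fin m) R), Synt.IsRelGCI R m d G ∧
      Nonempty (Localization.Away g ≃ₐ[R] Synt.RelGCIRing R m d G)) : Synt.IsSyntomic R S := by
  let s : Set S := {g | ∃ (m d : ℕ) (G : Fin d → MvPolynomial (Fin m) R), Synt.IsRelGCI R m d G ∧
      Nonempty (Localization.Away g ≃ₐ[R] Synt.RelGCIRing R m d G)}
  have hs : Ideal.span s = ⊤ := by
    by_contra hne
    obtain ⟨M, hM, hle⟩ := Ideal.exists_le_maximal _ hne
    obtain ⟨g, hg, hG⟩ := h M
    exact hg (hle (Ideal.subset_span hG))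
  refine ⟨?_, ?_, fun p => ⟨?_, fun Q => ?_⟩⟩
  · refine Module.flat_of_isLocalized_maximal S S (fun M _ => Localization.AtPrime M)
      (fun M _ => Algebra.linearMap S (Localization.AtPrime M)) ?_
    intro M hM
    obtain ⟨g, hg, m, d, G, hG, ⟨e⟩⟩ := h M
    haveI := flat_relGCIRing G hG
    haveI : Module.Flat R (Localization.Away g) := Module.Flat.of_linearEquiv e.toLinearEquiv
    have hle : Submonoid.powers g ≤ M.primeCompl := Submonoid.powers_le.2 hg
    letI := IsLocalization.localizationAlgebraOfSubmonoidLe (Localization.Away g) (Localization.AtPrime M) _ _ hle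
    haveI := IsLocalization.localization_isScalarTower_of_submonoid_le (Localization.Away g) (Localization.AtPrime M) _ _ hle
    haveI := IsLocalization.isLocalization_of_submonoid_le (Localization.Away g) (Localization.AtPrime M) _ _ hle
    haveI : IsScalarTower R (Localization.Away g) (Localization.AtPrime M) := IsScalarTower.to₁₃₄ R S _ _
    haveI : Module.Flat (Localization.Away g) (Localization.AtPrime M) :=
      IsLocalization.flat _ (M.primeCompl.map (algebraMap S (Localization.Away g)))
    exact Module.Flat.trans R (Localization.Away g) (Localization.AtPrime M)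
  · refine Algebra.FinitePresentation.of_span_eq_top_target s hs fun g hg => ?_
    obtain ⟨m, d, G, -, ⟨e⟩⟩ := hg
    haveI : Algebra.FinitePresentation R (Synt.RelGCIRing R m d G) :=
      Algebra.FinitePresentation.quotient ⟨(Set.finite_range G).toFinset, by simp⟩
    exact Algebra.FinitePresentation.equiv e.symm
  · haveI : Algebra.FiniteType R S := by
      refine (RingHom.finiteType_algebraMap).1 (RingHom.finiteType_ofLocalizationSpanTarget (algebraMap R S) s hs fun g => ?_)
      obtain ⟨m, d, G, -, ⟨e⟩⟩ := g.2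
      rw [← IsScalarTower.algebraMap_eq R S (Localization.Away (g : S)), RingHom.finiteType_algebraMap]
      exact Algebra.FiniteType.equiv inferInstance e.symm
    infer_instance
  · obtain ⟨g, hg, m, d, G, hG, ⟨e⟩⟩ := h (Q.asIdeal.comap Algebra.TensorProduct.includeRight.toRingHom)
    refine ⟨(1 : p.asIdeal.ResidueField) ⊗ₜ[R] g, hg, ?_⟩
    obtain ⟨eF⟩ := nonempty_fiber_away p.asIdeal g (Localization.Away g) _ (Associated.refl _)
    obtain ⟨e'⟩ := nonempty_fibre_congr p.asIdeal e
    refine isGlobalCI_of_equiv (S := p.asIdeal.Fiber (Synt.RelGCIRing R m d G)) (eF.trans e').symm ?_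
    rcases subsingleton_or_nontrivial (p.asIdeal.Fiber (Synt.RelGCIRing R m d G)) with hs | hn
    · exact Or.inl hs
    obtain ⟨hdm, hdim⟩ := hG p hn
    exact Or.inr ⟨m, d, hdm, fibrePres G p.asIdeal, _, fibrePres_surjective G p.asIdeal, ker_fibrePres G p.asIdeal, hdim⟩
where
  nonempty_fibre_congr {R : Type u} [CommRing R] {A B : Type u} [CommRing A] [CommRing B] [Algebra R A] [Algebra R B]
      (p : Ideal R) [p.IsPrime] (e : A ≃ₐ[R] B) : Nonempty (p.Fiber A ≃ₐ[p.ResidueField] p.Fiber B) :=
    ⟨Algebra.TensorProduct.congr AlgEquiv.refl e⟩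

variable {R} in
theorem isLCI_relGCIRing {m d : ℕ} (F : Fin d → MvPolynomial (Fin m) R) (h : Synt.IsRelGCI R m d F) :
    LCI.IsLCI R (Synt.RelGCIRing R m d F) := by
  refine ⟨inferInstance, m, Ideal.Quotient.mkₐ R _, Ideal.Quotient.mk_surjective, ?_⟩
  have hex : KoszulLib.Ex (List.ofFn F) := KRIdeal.ex_of_forall_maximal fun M hM => by
    by_cases hle : Ideal.span (Set.range F) ≤ M
    · refine (KoszulLib.ex_iff _).2 (RegSeq.isKoszulRegularSeq_of_isWeaklyRegular ?_)
      rw [List.map_ofFn]
      exact weaklyRegular_localization F h M hle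
    · refine KRIdeal.ex_of_ofList_eq_top ?_
      obtain ⟨x, hx, hxm⟩ := SetLike.not_le_iff_exists.1 hle
      rw [← Ideal.map_ofList, KRIdeal.ofList_ofFn]
      exact Ideal.eq_top_of_isUnit_mem _ (Ideal.mem_map_of_mem _ hx) (IsLocalization.map_units _ (⟨x, hxm⟩ : M.primeCompl))
  rw [show RingHom.ker (Ideal.Quotient.mkₐ R (Ideal.span (Set.range F))).toRingHom = Ideal.span (Set.range F) from
    Ideal.mk_ker, ← KRIdeal.ofList_ofFn]
  exact KRIdeal.isKRI_of_ex hex

theorem isLCI_of_isSyntomic (h : Synt.IsSyntomic R S) : LCI.IsLCI R S := by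
  refine KRIdeal.isLCI_of_span R S {g | LCI.IsLCI R (Localization.Away g)} ?_ fun g hg => hg
  by_contra hne
  obtain ⟨M, hM, hle⟩ := Ideal.exists_le_maximal _ hne
  obtain ⟨g, hg, m, d, G, hG, ⟨e⟩⟩ := exists_away_isRelGCI_of_isSyntomic R h M
  exact hg (hle (Ideal.subset_span (KRIdeal.isLCI_algEquiv e.symm (isLCI_relGCIRing G hG))))

section Residue

variable {R : Type u} [CommRing R] {n : ℕ} (p : Ideal R) [p.IsPrime] {I : Ideal (MvPolynomial (Fin n) R)}

theorem mem_span_rel_map {A B : Type u} [CommRing A] [CommRing B] {r : ℕ} (ψ : A →+* B) (f v : Fin r → A)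
    (hv : v ∈ Submodule.span A {v : Fin r → A | ∃ i j : Fin r, v = Pi.single i (f j) - Pi.single j (f i)}) :
    (fun i => ψ (v i)) ∈ Submodule.span B {v : Fin r → B | ∃ i j : Fin r,
      v = Pi.single i ((fun l => ψ (f l)) j) - Pi.single j ((fun l => ψ (f l)) i)} := by
  induction hv using Submodule.span_induction with
  | mem w hw =>
    obtain ⟨i, j, rfl⟩ := hw
    refine Submodule.subset_span ⟨i, j, funext fun l => ?_⟩
    simp only [Pi.sub_apply, map_sub, Pi.single_apply, apply_ite ψ, map_zero]
  | zero => simp [← Pi.zero_def]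
  | add v w _ _ hv hw => simpa [Pi.add_def] using add_mem hv hw
  | smul c v _ hv => simpa [Pi.smul_def, smul_eq_mul, map_mul] using Submodule.smul_mem _ (ψ c) hv

set_option maxHeartbeats 1600000 in
/-- H₁-regularity passes to a fibre when the quotient is flat. -/
theorem isH1Regular_residue [Module.Flat R (MvPolynomial (Fin n) R ⧸ I)] (g : MvPolynomial (Fin n) R) {r : ℕ}
    (f : Fin r → MvPolynomial (Fin n) R) (hd : KRIdeal.Data I g f) :
    CAlgX.IsH1Regular fun i => algebraMap _ (Localization.Away (MvPolynomial.map (algebraMap R p.ResidueField) g))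
      (MvPolynomial.map (algebraMap R p.ResidueField) (f i)) := by
  classical
  set φ := MvPolynomial.map (σ := Fin n) (algebraMap R p.ResidueField) with hφ
  let K := Localization.Away (φ g)
  let L := Localization.Away g
  let ψ : L →+* K := IsLocalization.Away.map L K φ g
  have hψ : ∀ x, ψ (algebraMap _ L x) = algebraMap _ K (φ x) := fun x => IsLocalization.map_eq _ x
  let f' : Fin r → K := fun i => algebraMap _ K (φ (f i))
  have hex0 : KoszulLib.Ex (List.ofFn (algebraMap _ L ∘ f)) := by rw [← List.map_ofFn]; exact hd.ex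
  have hH1L : CAlgX.IsH1Regular (algebraMap (MvPolynomial (Fin n) R) L ∘ f) := by
    have h2 := RegSeq.isH1Regular_of_isKoszulRegularSeq ((KoszulLib.ex_iff _).1 hex0)
    have e : (List.ofFn (algebraMap _ L ∘ f)).get = (algebraMap _ L ∘ f) ∘ Fin.cast List.length_ofFn :=
      funext fun j => by simp [Fin.cast]
    rw [e] at h2
    exact (KRIdeal.h1_cast _ _).1 h2
  intro a ha
  obtain ⟨⟨_, k, rfl⟩, hk⟩ := IsLocalization.exist_integer_multiples_of_finite (Submonoid.powers (φ g)) a
  choose b hb using hk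
  choose rr y hrr hy using fun i => exists_clear' p (b i)
  let t : R := ∏ i, rr i
  have hy' : ∀ i, φ (MvPolynomial.C (∏ j ∈ Finset.univ.erase i, rr j) * y i) =
      MvPolynomial.C (algebraMap R p.ResidueField t) * b i := fun i => by
    rw [map_mul, MvPolynomial.map_C, hy, ← mul_assoc, ← map_mul, ← map_mul, Finset.prod_erase_mul _ _ (Finset.mem_univ i)]
  set y' := fun i => MvPolynomial.C (∏ j ∈ Finset.univ.erase i, rr j) * y i with hy'def
  have ht : IsUnit (algebraMap _ K (MvPolynomial.C (algebraMap R p.ResidueField t) * φ g ^ k)) := by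
    rw [map_mul, map_pow]
    refine ((isUnit_C_residue p ?_).map _).mul ((IsLocalization.Away.algebraMap_isUnit (φ g)).pow k)
    exact fun h => by
      obtain ⟨i, -, hi⟩ := (Ideal.IsPrime.prod_mem_iff (hp := ‹p.IsPrime›)).1 h
      exact hrr i hi
  have hya : ∀ i, algebraMap _ K (φ (y' i)) = algebraMap _ K (MvPolynomial.C (algebraMap R p.ResidueField t) * φ g ^ k) * a i := by
    intro i
    rw [show φ (y' i) = _ from hy' i, map_mul, hb, map_mul, Algebra.smul_def, map_pow, mul_assoc]
  -- the relation lifts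
  have hsum : algebraMap _ K (φ (∑ i, y' i * f i)) = 0 := by
    rw [map_sum, map_sum]
    refine (Finset.sum_congr rfl fun i _ => ?_).trans
      ((Finset.mul_sum _ _ (algebraMap _ K (MvPolynomial.C (algebraMap R p.ResidueField t) * φ g ^ k))).symm.trans
        (by rw [ha, mul_zero]))
    rw [map_mul, map_mul, hya, mul_assoc]
  obtain ⟨⟨_, m, rfl⟩, hm⟩ := (IsLocalization.map_eq_zero_iff (Submonoid.powers (φ g)) K _).1 hsum
  have hm' : φ (g ^ m * ∑ i, y' i * f i) = 0 := by rw [map_mul, map_pow]; exact hm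
  have hxI : g ^ m * ∑ i, y' i * f i ∈ I := I.mul_mem_left _ (sum_mem fun i _ => I.mul_mem_left _ (hd.mem i))
  have hpI := mem_mul_of_mem_map_of_flat I p hxI (mem_map_C_of_map_eq_zero p hm')
  have hu : IsUnit (algebraMap _ L g ^ m) := (IsLocalization.Away.algebraMap_isUnit g).pow m
  have hz : ∑ i, algebraMap _ L (y' i) * algebraMap _ L (f i) ∈
      ((p.map (algebraMap R (MvPolynomial (Fin n) R))).map (algebraMap _ L)) •
        Submodule.span L (Set.range (algebraMap (MvPolynomial (Fin n) R) L ∘ f)) := by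
    rw [← Ideal.unit_mul_mem_iff_mem _ hu, smul_eq_mul]
    have h3 := Ideal.mem_map_of_mem (algebraMap _ L) hpI
    rw [Ideal.map_mul, hd.map_eq, Ideal.map_span, ← Set.range_comp, map_mul, map_pow, map_sum] at h3
    simpa [map_mul] using h3
  obtain ⟨z, hzp, hzsum⟩ := (Submodule.mem_ideal_smul_span_iff_exists_sum _ _ _).1 hz
  rw [Finsupp.sum_fintype _ _ (fun i => by simp)] at hzsum
  have hrel := hH1L (fun i => algebraMap _ L (y' i) - z i) (by
    simp only [sub_mul, Finset.sum_sub_distrib, Function.comp_apply]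
    rw [sub_eq_zero, ← hzsum]
    exact Finset.sum_congr rfl fun i _ => by simp)
  have himg : (fun i => ψ (algebraMap _ L (y' i) - z i)) ∈
      Submodule.span K {v : Fin r → K | ∃ i j : Fin r, v = Pi.single i (f' j) - Pi.single j (f' i)} := by
    have h4 := mem_span_rel_map ψ _ _ hrel
    rw [show (fun i => ψ ((algebraMap (MvPolynomial (Fin n) R) L ∘ f) i)) = f' from funext fun i => hψ (f i)] at h4
    exact h4
  have hzero : ∀ i, ψ (z i) = 0 := fun i => by
    have hle : (p.map (algebraMap R (MvPolynomial (Fin n) R))).map (algebraMap _ L) ≤ RingHom.ker ψ := by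
      rw [Ideal.map_le_iff_le_comap, Ideal.map_le_iff_le_comap]
      intro x hx
      show ψ (algebraMap _ L (MvPolynomial.C x)) = 0
      rw [hψ, show φ (MvPolynomial.C x) = MvPolynomial.C (algebraMap R p.ResidueField x) from MvPolynomial.map_C _ x,
        Ideal.algebraMap_residueField_eq_zero.2 hx, map_zero, map_zero]
    exact hle (hzp i)
  have heq : a = (ht.unit⁻¹ : Kˣ).val • fun i => ψ (algebraMap _ L (y' i) - z i) := funext fun i => by
    rw [Pi.smul_apply, map_sub, hzero, sub_zero, hψ, hya, smul_eq_mul, ← mul_assoc, IsUnit.val_inv_mul, one_mul]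
  rw [heq]
  exact Submodule.smul_mem _ _ himg

/-- Koszul regularity of an ideal with flat quotient survives passing to a fibre. -/
theorem at_map_residue [Module.Flat R (MvPolynomial (Fin n) R ⧸ I)] (q : Ideal (MvPolynomial (Fin n) R))
    (hI : KRIdeal.At I q) (Q : Ideal (MvPolynomial (Fin n) p.ResidueField))
    (hQ : Q.comap (MvPolynomial.map (algebraMap R p.ResidueField)) = q) :
    KRIdeal.At (I.map (MvPolynomial.map (algebraMap R p.ResidueField))) Q := by
  classical
  obtain ⟨g, hg, r, f, hd⟩ := hI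
  set φ := MvPolynomial.map (σ := Fin n) (algebraMap R p.ResidueField) with hφ
  let K := Localization.Away (φ g)
  let L := Localization.Away g
  let ψ : L →+* K := IsLocalization.Away.map L K φ g
  have hψ : ∀ x, ψ (algebraMap _ L x) = algebraMap _ K (φ x) := fun x => IsLocalization.map_eq _ x
  let f' : Fin r → K := fun i => algebraMap _ K (φ (f i))
  have hH1 : CAlgX.IsH1Regular f' := isH1Regular_residue p g f hd
  refine ⟨φ g, by rw [← Ideal.mem_comap, hQ]; exact hg, r, φ ∘ f, ⟨fun i => Ideal.mem_map_of_mem _ (hd.mem i), ?_, ?_⟩⟩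
  · haveI : IsNoetherianRing K := IsLocalization.isNoetherianRing (Submonoid.powers (φ g)) K inferInstance
    refine KRIdeal.ex_of_forall_maximal fun M hM => ?_
    rw [List.map_ofFn, List.map_ofFn]
    by_cases hle : ∀ i, f' i ∈ M
    · haveI : IsNoetherianRing (Localization.AtPrime M) := IsLocalization.isNoetherianRing M.primeCompl _ inferInstance
      refine (KoszulLib.ex_iff _).2 (RegSeq.isKoszulRegularSeq_of_isWeaklyRegular ?_)
      haveI : Module.Flat K (Localization.AtPrime M) := inferInstance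
      refine RegSeq.isWeaklyRegular_of_isQuasiRegular r _ (fun i => ?_)
        (S2103.result _ (RegSeq.isH1Regular_of_flat hH1))
      rw [IsLocalRing.jacobson_eq_maximalIdeal ⊥ bot_ne_top]
      exact (IsLocalization.AtPrime.to_map_mem_maximal_iff _ M _).2 (hle i)
    · push Not at hle
      obtain ⟨i, hi⟩ := hle
      refine KRIdeal.ex_of_ofList_eq_top (Ideal.eq_top_of_isUnit_mem _ ?_
        (IsLocalization.map_units (Localization.AtPrime M) (⟨f' i, hi⟩ : M.primeCompl)))
      exact Ideal.subset_span (List.mem_ofFn.2 ⟨i, rfl⟩)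
  · have h1 := congrArg (Ideal.map ψ) hd.map_eq
    rw [Ideal.map_map, Ideal.map_map,
      show ψ.comp (algebraMap (MvPolynomial (Fin n) R) L) = (algebraMap _ K).comp φ from RingHom.ext hψ,
      ← Ideal.map_map, ← Ideal.map_map, Ideal.map_span φ, ← Set.range_comp] at h1
    exact h1

end Residue

/-- Flat local complete intersection algebras are syntomic. -/
theorem isSyntomic_of_flat_isLCI [Module.Flat R S] (h : LCI.IsLCI R S) : Synt.IsSyntomic R S := by
  haveI : Algebra.FinitePresentation R S := by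
    obtain ⟨-, n, f, hf, hk⟩ := h
    exact Algebra.FinitePresentation.of_surjective hf (KRIdeal.isKRI_fg hk)
  obtain ⟨-, n, f, hf, hk⟩ := h
  letI : Algebra (MvPolynomial (Fin n) R) S := f.toRingHom.toAlgebra
  haveI : IsScalarTower R (MvPolynomial (Fin n) R) S := IsScalarTower.of_algebraMap_eq fun r => (f.commutes r).symm
  haveI : Module.Flat R (MvPolynomial (Fin n) R ⧸ RingHom.ker f.toRingHom) :=
    Module.Flat.of_linearEquiv (Ideal.quotientKerAlgEquivOfSurjective hf).toLinearEquiv
  refine isSyntomic_of_forall_exists R S fun q _ => ?_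
  haveI : Module.Flat R (Localization.AtPrime q) := Module.Flat.trans R S _
  let p := q.comap (algebraMap R S)
  obtain ⟨α, hα, hker, hαmap⟩ := exists_fiber_pres p f hf
  let pp : PrimeSpectrum R := ⟨p, inferInstance⟩
  let Q' := PrimeSpectrum.preimageOrderIsoFiber R S pp ⟨⟨q, inferInstance⟩, rfl⟩
  have hQ' : Q'.asIdeal.comap Algebra.TensorProduct.includeRight.toRingHom = q :=
    congrArg (fun w => w.1.asIdeal) ((PrimeSpectrum.preimageOrderIsoFiber R S pp).symm_apply_apply ⟨⟨q, inferInstance⟩, rfl⟩)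
  let Q := Q'.asIdeal.comap α.toRingHom
  haveI : Q.IsPrime := inferInstance
  have hQ : Q.comap (MvPolynomial.map (algebraMap R p.ResidueField)) = q.comap (algebraMap (MvPolynomial (Fin n) R) S) :=
    Ideal.ext fun z => by
      show α (MvPolynomial.map (algebraMap R p.ResidueField) z) ∈ Q'.asIdeal ↔ f z ∈ q
      rw [hαmap]; exact SetLike.ext_iff.1 hQ' (f z)
  refine exists_away_isRelGCI hf (KRIdeal.isKRI_fg hk) q p rfl Q hQ (at_map_residue p _ ?_ Q hQ)
  exact (KRIdeal.isKRI_iff _).1 hk _ (fun y hy => by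
    show f y ∈ q
    rw [show f y = 0 from hy]; exact zero_mem _)

theorem isSyntomic_iff_flat_and_isLCI : Synt.IsSyntomic R S ↔ Module.Flat R S ∧ LCI.IsLCI R S :=
  ⟨fun h => ⟨h.1, isLCI_of_isSyntomic R S h⟩, fun ⟨_, h⟩ => isSyntomic_of_flat_isLCI R S h⟩

/-- Smooth algebras are syntomic. -/
theorem isSyntomic_of_smooth [Algebra.Smooth R S] : Synt.IsSyntomic R S :=
  isSyntomic_of_flat_isLCI R S
    (KRIdeal.ringLCI_algebraMap.1 (KRIdeal.ringLCI_of_smooth (RingHom.smooth_algebraMap.2 inferInstance)))

theorem isLCIOver_of_isSyntomic (k A : Type u) [Field k] [CommRing A] [Algebra k A] (h : Synt.IsSyntomic k A) :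
    Synt.IsLCIOver k A := by
  haveI := h.2.1
  refine ⟨inferInstance, fun Q => ?_⟩
  obtain ⟨g, hg, m, d, G, hG, ⟨e⟩⟩ := exists_away_isRelGCI_of_isSyntomic k h Q.asIdeal
  exact ⟨g, hg, isGlobalCI_of_equiv e.symm (isGlobalCI_of_isRelGCI G hG)⟩

end Groth.Agent.RelGCILib
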