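import Groth.Agent.RelGCILib.Criterion
import Groth.Agent.KRIdeal.Koszul
import Groth.Agent.KRIdeal.Immersion
import Groth.Agent.S9758
import Mathlib.AlgebraicGeometry.Fiber

/-!
# Syntomic morphisms of schemes
-/

set_option autoImplicit false
set_option linter.style.haveILetI false
universe u

open CategoryTheory AlgebraicGeometry Limits TensorProduct

namespace Groth.Agent.RelGCILib

variable {X S : Scheme.{u}} (f : X ⟶ S)

theorem flat_and_schLCI_of_isSyntomicMor (h : Synt.IsSyntomicMor f) : Flat f ∧ KRIdeal.SchLCI f :=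
  ⟨((S9758.result f).2 h).1, KRIdeal.schLCI_of_isKoszulAt f ((S9758.result f).2 h).2⟩

/-- Flatness and LCI on an affine chart, from the same on a bigger open. -/
theorem appLE_of_ι {P : MorphismProperty Scheme.{u}} {Q : ∀ {R S : Type u} [CommRing R] [CommRing S], (R →+* S) → Prop}
    [HasRingHomProperty P Q] (W : X.Opens) (hP : P (W.ι ≫ f)) {U : X.Opens} (hU : IsAffineOpen U) (hUW : U ≤ W)
    {V : S.Opens} (hV : IsAffineOpen V) (e : U ≤ f ⁻¹ᵁ V) : Q (f.appLE V U e).hom := by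
  have hU' : IsAffineOpen (W.ι ⁻¹ᵁ U) := hU.preimage_of_isOpenImmersion W.ι (by rwa [Scheme.Opens.opensRange_ι])
  have himg : W.ι ''ᵁ (W.ι ⁻¹ᵁ U) = U := by
    rw [Scheme.Hom.image_preimage_eq_opensRange_inf, Scheme.Opens.opensRange_ι, inf_eq_right.2 hUW]
  have e' : W.ι ⁻¹ᵁ U ≤ (W.ι ≫ f) ⁻¹ᵁ V := fun x hx => e hx
  have h1 := HasRingHomProperty.appLE P (W.ι ≫ f) hP ⟨V, hV⟩ ⟨_, hU'⟩ e'
  have heq : (W.ι ≫ f).appLE V (W.ι ⁻¹ᵁ U) e' = f.appLE V U e ≫ X.presheaf.map (eqToHom himg).op := by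
    rw [Scheme.Hom.comp_appLE, Scheme.Opens.ι_appLE, Scheme.Hom.appLE, Category.assoc, ← Functor.map_comp]
    rfl
  rw [show ((W.ι ≫ f).appLE V (W.ι ⁻¹ᵁ U) e').hom = (f.appLE V U e ≫ X.presheaf.map (eqToHom himg).op).hom from
    congrArg _ heq] at h1
  exact ((HasRingHomProperty.isLocal_ringHomProperty P (Q := Q)).respectsIso.cancel_right_isIso _ _).1 h1

/-- The charts of a morphism syntomic at a point. -/
theorem isSyntomic_appLE_of_isSyntomicAt {U₀ : X.affineOpens} {V₀ : S.affineOpens} (e₀ : U₀.1 ≤ f ⁻¹ᵁ V₀.1)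
    (h₀ : letI := (f.appLE V₀.1 U₀.1 e₀).hom.toAlgebra; Synt.IsSyntomic Γ(S, V₀.1) Γ(X, U₀.1))
    {U : X.Opens} (hU : IsAffineOpen U) (hU₀ : U ≤ U₀.1) {V : S.Opens} (hV : IsAffineOpen V) (e : U ≤ f ⁻¹ᵁ V) :
    letI := (f.appLE V U e).hom.toAlgebra
    Synt.IsSyntomic Γ(S, V) Γ(X, U) := by
  have hs : Synt.IsSyntomicMor (U₀.1.ι ≫ f) := fun x => by
    haveI : IsAffine U₀.1.toScheme := U₀.2
    have e' : (⊤ : U₀.1.toScheme.Opens) ≤ (U₀.1.ι ≫ f) ⁻¹ᵁ V₀.1 := fun y _ => e₀ y.2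
    refine ⟨⟨⊤, isAffineOpen_top _⟩, V₀, e', trivial, ?_⟩
    have heq : (U₀.1.ι ≫ f).appLE V₀.1 ⊤ e' = f.appLE V₀.1 U₀.1 e₀ ≫ U₀.1.topIso.inv := by
      rw [Scheme.Hom.comp_appLE, Scheme.Opens.ι_appLE, Scheme.Hom.appLE, Category.assoc, Scheme.Opens.topIso_inv]
      exact congrArg _ ((congrArg X.presheaf.map (Subsingleton.elim _ _)).trans (X.presheaf.map_comp _ _))
    letI := (f.appLE V₀.1 U₀.1 e₀).hom.toAlgebra
    letI := ((U₀.1.ι ≫ f).appLE V₀.1 ⊤ e').hom.toAlgebra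
    let ε : Γ(X, U₀.1) ≃ₐ[Γ(S, V₀.1)] Γ(U₀.1.toScheme, ⊤) :=
      AlgEquiv.ofRingEquiv (f := U₀.1.topIso.symm.commRingCatIsoToRingEquiv) fun r => by
        show U₀.1.topIso.inv.hom ((f.appLE V₀.1 U₀.1 e₀).hom r) = ((U₀.1.ι ≫ f).appLE V₀.1 ⊤ e').hom r
        rw [heq]; rfl
    exact isSyntomic_of_equiv ε h₀
  obtain ⟨hflat, hlci⟩ := flat_and_schLCI_of_isSyntomicMor _ hs
  letI := (f.appLE V U e).hom.toAlgebra
  haveI : Module.Flat Γ(S, V) Γ(X, U) := appLE_of_ι (P := @Flat) f U₀.1 hflat hU hU₀ hV e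
  exact isSyntomic_of_flat_isLCI _ _ (appLE_of_ι (P := @KRIdeal.SchLCI) f U₀.1 hlci hU hU₀ hV e)
where
  isSyntomic_of_equiv {R A A' : Type u} [CommRing R] [CommRing A] [CommRing A'] [Algebra R A] [Algebra R A']
      (e : A ≃ₐ[R] A') (h : Synt.IsSyntomic R A) : Synt.IsSyntomic R A' := by
    haveI := h.1
    haveI : Module.Flat R A' := Module.Flat.of_linearEquiv e.symm.toLinearEquiv
    exact isSyntomic_of_flat_isLCI R A' (KRIdeal.isLCI_algEquiv e (isLCI_of_isSyntomic R A h))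

/-- The fibre rings of a morphism with syntomic scheme fibres. -/
theorem isLCIOver_fibre (hfib : ∀ s : S, Synt.IsSyntomicMor (f.fiberToSpecResidueField s))
    {U : X.Opens} (hU : IsAffineOpen U) {V : S.Opens} (hV : IsAffineOpen V) (e : U ≤ f ⁻¹ᵁ V)
    (p : PrimeSpectrum Γ(S, V)) :
    letI := (f.appLE V U e).hom.toAlgebra
    Synt.IsLCIOver p.asIdeal.ResidueField (p.asIdeal.Fiber Γ(X, U)) := by
  letI := (f.appLE V U e).hom.toAlgebra
  let K := p.asIdeal.ResidueField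
  let B := Γ(X, U)
  let α : Γ(S, V) ⟶ CommRingCat.of K := CommRingCat.ofHom (algebraMap Γ(S, V) K)
  let σ : Spec (CommRingCat.of K) ⟶ S := Spec.map α ≫ hV.fromSpec
  let s := σ (IsLocalRing.closedPoint K)
  let ψ := Spec.map (S.descResidueField (Scheme.stalkClosedPointTo σ))
  have hψ : ψ ≫ S.fromSpecResidueField s = σ := Scheme.descResidueField_stalkClosedPointTo_fromSpecResidueField K S σ
  haveI : Flat ψ := by
    refine (HasRingHomProperty.Spec_iff (P := @Flat)).2 ?_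
    letI := (S.descResidueField (Scheme.stalkClosedPointTo σ)).hom.toAlgebra
    exact (inferInstance : Module.Flat (S.residueField s) K)
  -- the fibre over `K`
  have hb : IsPullback (pullback.fst f σ)
      (pullback.snd f σ) f (ψ ≫ S.fromSpecResidueField s) := hψ.symm ▸ IsPullback.of_hasPullback f σ
  let t : pullback f σ ⟶ pullback f (S.fromSpecResidueField s) := pullback.lift (pullback.fst f σ) (pullback.snd f σ ≫ ψ) (by
    rw [Category.assoc, hψ, pullback.condition])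
  have hsq : IsPullback t (pullback.snd f σ) (f.fiberToSpecResidueField s) ψ :=
    IsPullback.of_right (h₁₂ := pullback.fst _ _) (v₁₃ := f) (h₂₂ := S.fromSpecResidueField s)
      (by rw [show t ≫ pullback.fst _ _ = pullback.fst f σ from pullback.lift_fst _ _ _]; exact hb)
      (pullback.lift_snd _ _ _) (IsPullback.of_hasPullback _ _)
  have h2 : KRIdeal.SchLCI (pullback.snd f σ) :=
    KRIdeal.schLCI_baseChange hsq (flat_and_schLCI_of_isSyntomicMor _ (hfib s)).2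
  -- the chart
  let φ : Γ(S, V) ⟶ B := CommRingCat.ofHom (algebraMap Γ(S, V) B)
  have hφ : Spec.map φ ≫ hV.fromSpec = hU.fromSpec ≫ f :=
    IsAffineOpen.SpecMap_appLE_fromSpec f hV hU e
  let a : Spec (CommRingCat.of (K ⊗[Γ(S, V)] B)) ⟶ Spec B :=
    Spec.map (CommRingCat.ofHom (Algebra.TensorProduct.includeRight : B →ₐ[Γ(S, V)] K ⊗[Γ(S, V)] B).toRingHom)
  let b : Spec (CommRingCat.of (K ⊗[Γ(S, V)] B)) ⟶ Spec (CommRingCat.of K) :=
    Spec.map (CommRingCat.ofHom (Algebra.TensorProduct.includeLeftRingHom : K →+* K ⊗[Γ(S, V)] B))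
  have h3 : IsPullback b a (Spec.map α) (Spec.map φ) :=
    isPullback_SpecMap_of_isPushout _ _ _ _ (CommRingCat.isPushout_tensorProduct Γ(S, V) K B)
  have h4 : IsPullback a b (hU.fromSpec ≫ f) σ := by
    rw [← hφ]
    exact IsPullback.of_isLimit (PullbackCone.isLimitOfCompMono (Spec.map φ) (Spec.map α) hV.fromSpec _ h3.flip.isLimit)
  have h5 : IsPullback (pullback.fst hU.fromSpec (pullback.fst f σ))
      (pullback.snd hU.fromSpec (pullback.fst f σ) ≫ pullback.snd f σ) (hU.fromSpec ≫ f) σ :=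
    (IsPullback.of_hasPullback hU.fromSpec (pullback.fst f σ)).paste_vert (IsPullback.of_hasPullback f σ)
  let e₅ := h4.isoIsPullback _ _ h5
  have h6 : KRIdeal.SchLCI b := by
    rw [show b = e₅.hom ≫ pullback.snd hU.fromSpec (pullback.fst f σ) ≫ pullback.snd f σ from
      (h4.isoIsPullback_hom_snd _ _ h5).symm, MorphismProperty.cancel_left_of_respectsIso @KRIdeal.SchLCI]
    exact IsZariskiLocalAtSource.comp h2 _
  have h7 : KRIdeal.RingLCI (Algebra.TensorProduct.includeLeftRingHom : K →+* K ⊗[Γ(S, V)] B) :=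
    (HasRingHomProperty.Spec_iff (P := @KRIdeal.SchLCI)).1 h6
  exact isLCIOver_of_isSyntomic K _ (isSyntomic_of_flat_isLCI K _ (KRIdeal.ringLCI_algebraMap.1 h7))

theorem isSyntomicMor_of_fibres [Flat f] [LocallyOfFinitePresentation f]
    (hfib : ∀ s : S, Synt.IsSyntomicMor (f.fiberToSpecResidueField s)) : Synt.IsSyntomicMor f := by
  intro x
  obtain ⟨_, ⟨V, hV, rfl⟩, hxV, -⟩ :=
    S.isBasis_affineOpens.exists_subset_of_mem_open (Set.mem_univ (f.base x)) isOpen_univ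
  obtain ⟨_, ⟨U, hU, rfl⟩, hxU, hUV⟩ :=
    X.isBasis_affineOpens.exists_subset_of_mem_open (show x ∈ (f ⁻¹ᵁ V : Set X) from hxV) (f ⁻¹ᵁ V).2
  refine ⟨⟨U, hU⟩, ⟨V, hV⟩, hUV, hxU, ?_⟩
  letI := (f.appLE V U hUV).hom.toAlgebra
  exact ⟨HasRingHomProperty.appLE @Flat f inferInstance ⟨V, hV⟩ ⟨U, hU⟩ hUV,
    HasRingHomProperty.appLE @LocallyOfFinitePresentation f inferInstance ⟨V, hV⟩ ⟨U, hU⟩ hUV,
    fun p => isLCIOver_fibre f hfib hU hV hUV p⟩

/-- The iff of standard syntomic neighbourhoods. -/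
theorem isSyntomicAt_iff_exists_isStandardSyntomic (x : X) (V : S.affineOpens) (hV : f.base x ∈ V.1) :
    Synt.IsSyntomicAt f x ↔
      ∃ (U : X.affineOpens) (e : U.1 ≤ f ⁻¹ᵁ V.1), x ∈ U.1 ∧ Synt.IsStandardSyntomic (f.resLE V.1 U.1 e) := by
  constructor
  · rintro ⟨U₀, V₀, e₀, hx₀, h₀⟩
    obtain ⟨_, ⟨U₁, hU₁, rfl⟩, hxU₁, hU₁W⟩ :=
      X.isBasis_affineOpens.exists_subset_of_mem_open (show x ∈ ((U₀.1 ⊓ f ⁻¹ᵁ V.1 : X.Opens) : Set X) from ⟨hx₀, hV⟩)
        (U₀.1 ⊓ f ⁻¹ᵁ V.1).2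
    have e₁ : U₁ ≤ f ⁻¹ᵁ V.1 := fun y hy => (hU₁W hy).2
    have h₁ := isSyntomic_appLE_of_isSyntomicAt f e₀ h₀ hU₁ (fun y hy => (hU₁W hy).1) V.2 e₁
    letI := (f.appLE V.1 U₁ e₁).hom.toAlgebra
    obtain ⟨g, hg, m, d, G, hG, ⟨eG⟩⟩ :=
      exists_away_isRelGCI_of_isSyntomic Γ(S, V.1) h₁ (hU₁.primeIdealOf ⟨x, hxU₁⟩).asIdeal
    have hxg : x ∈ X.basicOpen g := by
      have h2 : hU₁.primeIdealOf ⟨x, hxU₁⟩ ∈ PrimeSpectrum.basicOpen g := hg
      rw [← hU₁.fromSpec_preimage_basicOpen] at h2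
      have h3 : hU₁.fromSpec (hU₁.primeIdealOf ⟨x, hxU₁⟩) ∈ X.basicOpen g := h2
      rwa [IsAffineOpen.fromSpec_primeIdealOf] at h3
    have e₂ : X.basicOpen g ≤ f ⁻¹ᵁ V.1 := (X.basicOpen_le g).trans e₁
    refine ⟨⟨X.basicOpen g, hU₁.basicOpen g⟩, e₂, hxg, ?_⟩
    haveI : IsLocalization.Away g Γ(X, X.basicOpen g) := hU₁.isLocalization_basicOpen g
    letI := (f.appLE V.1 (X.basicOpen g) e₂).hom.toAlgebra
    haveI : IsScalarTower Γ(S, V.1) Γ(X, U₁) Γ(X, X.basicOpen g) := IsScalarTower.of_algebraMap_eq fun r => by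
      show (f.appLE V.1 (X.basicOpen g) e₂).hom r =
        (f.appLE V.1 U₁ e₁ ≫ X.presheaf.map (homOfLE (X.basicOpen_le g)).op).hom r
      rw [Scheme.Hom.appLE_map]
    let εA : Γ(X, X.basicOpen g) ≃ₐ[Γ(S, V.1)] Synt.RelGCIRing Γ(S, V.1) m d G :=
      ((IsLocalization.algEquiv (Submonoid.powers g) _ (Localization.Away g)).restrictScalars Γ(S, V.1)).trans eG
    haveI : IsAffine (X.basicOpen g).toScheme := hU₁.basicOpen g
    haveI : IsAffine V.1.toScheme := V.2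
    refine ⟨Γ(S, V.1), inferInstance, m, d, G, hG, ?_⟩
    let εC : CommRingCat.of (Synt.RelGCIRing Γ(S, V.1) m d G) ≅ Γ(X, X.basicOpen g) :=
      εA.symm.toRingEquiv.toCommRingCatIso
    refine ⟨(hU₁.basicOpen g).isoSpec ≪≫ Scheme.Spec.mapIso εC.op, V.2.isoSpec, ?_⟩
    have hcomp : CommRingCat.ofHom (algebraMap Γ(S, V.1) (Synt.RelGCIRing Γ(S, V.1) m d G)) ≫ εC.hom =
        f.appLE V.1 (X.basicOpen g) e₂ := CommRingCat.hom_ext (RingHom.ext fun r => εA.symm.commutes r)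
    show ((hU₁.basicOpen g).isoSpec.hom ≫ Spec.map εC.hom) ≫ Spec.map _ = _
    rw [Category.assoc, ← Spec.map_comp, hcomp, ← cancel_mono V.2.fromSpec, Category.assoc,
      IsAffineOpen.SpecMap_appLE_fromSpec f V.2 (hU₁.basicOpen g) e₂, IsAffineOpen.isoSpec_hom_fromSpec_assoc,
      Category.assoc, IsAffineOpen.isoSpec_hom_fromSpec, Scheme.Hom.resLE_comp_ι]
  · rintro ⟨U, e, hx, R, _, n, c, F, hF, e₁, e₂, hcomm⟩
    refine ⟨U, V, e, hx, ?_⟩
    haveI : IsAffine U.1.toScheme := U.2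
    haveI : IsAffine V.1.toScheme := V.2
    have hsyn := isSyntomic_relGCIRing F hF
    have hflat : Flat (f.resLE V.1 U.1 e) := by
      rw [← MorphismProperty.cancel_right_of_respectsIso @Flat _ e₂.hom, ← hcomm,
        MorphismProperty.cancel_left_of_respectsIso @Flat, HasRingHomProperty.Spec_iff (P := @Flat)]
      exact RingHom.flat_algebraMap_iff.2 hsyn.1
    have hlci : KRIdeal.SchLCI (f.resLE V.1 U.1 e) := by
      rw [← MorphismProperty.cancel_right_of_respectsIso @KRIdeal.SchLCI _ e₂.hom, ← hcomm,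
        MorphismProperty.cancel_left_of_respectsIso @KRIdeal.SchLCI, HasRingHomProperty.Spec_iff (P := @KRIdeal.SchLCI)]
      exact KRIdeal.ringLCI_algebraMap.2 (isLCI_of_isSyntomic _ _ hsyn)
    letI := (f.appLE V.1 U.1 e).hom.toAlgebra
    haveI : Module.Flat Γ(S, V.1) Γ(X, U.1) := by
      have h1 : Flat (U.1.ι ≫ f) := by rw [← Scheme.Hom.resLE_comp_ι f e]; haveI := hflat; infer_instance
      exact appLE_of_ι (P := @Flat) f U.1 h1 U.2 le_rfl V.2 e
    have h1 : KRIdeal.SchLCI (U.1.ι ≫ f) := by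
      rw [← Scheme.Hom.resLE_comp_ι f e]
      exact MorphismProperty.comp_mem _ _ _ hlci (KRIdeal.schLCI_of_smooth _)
    exact isSyntomic_of_flat_isLCI _ _ (appLE_of_ι (P := @KRIdeal.SchLCI) f U.1 h1 U.2 le_rfl V.2 e)

end Groth.Agent.RelGCILib
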