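import Groth.Agent.S2044

/-!
# Idempotent matrices lift to étale neighbourhoods

The construction is the one used in the proof of the lifting of finite projective modules (S2044).
-/

set_option autoImplicit false
universe u

open Polynomial

namespace Groth.Agent.RelGCILib

/-- An idempotent matrix modulo `I` lifts to an idempotent matrix on an étale neighbourhood of `V(I)`. -/
theorem exists_etale_idempotent {A : Type u} [CommRing A] (I : Ideal A) {n : ℕ} (M : Matrix (Fin n) (Fin n) A)
    (hM2 : ∀ i j, (M * M - M) i j ∈ I) :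
    ∃ (A' : Type u) (_ : CommRing A') (_ : Algebra A A'), Algebra.Etale A A' ∧
      Function.Bijective (algebraMap (A ⧸ I) (A' ⧸ I.map (algebraMap A A'))) ∧
      ∃ e : Matrix (Fin n) (Fin n) A', IsIdempotentElem e ∧
        ∀ i j, e i j - algebraMap A A' (M i j) ∈ I.map (algebraMap A A') := by
  classical
  obtain ⟨q, N, hq, hN, hq0, hqmap⟩ := S2044.exists_monic_matrix I M hM2
  have hP : (q.comp (X * (X - C 1))).Monic := by
    nontriviality A
    refine hq.comp (monic_X.mul (monic_X_sub_C 1)) ?_
    rw [monic_X.natDegree_mul (monic_X_sub_C 1), natDegree_X, natDegree_X_sub_C]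
    omega
  have hPmap : (q.comp (X * (X - C 1))).map (Ideal.Quotient.mk I) = X ^ N * (X - C 1) ^ N := by
    rw [Polynomial.map_comp, hqmap, X_pow_comp, Polynomial.map_mul, map_X, Polynomial.map_sub, map_X,
      map_C, map_one, mul_pow]
  obtain ⟨A', i1, i2, hA', hbij, v, hv⟩ := EtAlgLib.exists_etale_idem I _ hP N hN hPmap
  let x : Matrix (Fin n) (Fin n) A' := (Algebra.ofId A A').mapMatrix M
  have hx : aeval x ((q.comp (X * (X - C 1))).map (algebraMap A A')) = 0 := by
    rw [aeval_map_algebraMap, aeval_algHom_apply, aeval_comp, map_mul, map_sub, aeval_X, aeval_C,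
      map_one, mul_sub, mul_one, hq0, map_zero]
  let e := aeval x v
  have he : IsIdempotentElem e := (hv _ x hx).1
  let J := I.map (algebraMap A A')
  let ρ : Matrix (Fin n) (Fin n) A' →ₐ[A'] Matrix (Fin n) (Fin n) (A' ⧸ J) :=
    (Ideal.Quotient.mkₐ A' J).mapMatrix
  have hρe : ρ e = ρ x := by
    rw [show ρ e = aeval (ρ x) v from (aeval_algHom_apply ρ x v).symm]
    refine (hv _ (ρ x) (by rw [aeval_algHom_apply, hx, map_zero])).2 ?_ fun a ha => ?_
    · have h1 : ρ (x * x - x) = 0 := Matrix.ext fun i j => by
        show Ideal.Quotient.mk J ((x * x - x) i j) = 0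
        rw [Ideal.Quotient.eq_zero_iff_mem,
          show x * x - x = (Algebra.ofId A A').mapMatrix (M * M - M) by rw [map_sub, map_mul]]
        exact Ideal.mem_map_of_mem _ (hM2 i j)
      rw [map_sub, map_mul, sub_eq_zero] at h1
      exact h1
    · refine Matrix.ext fun i j => ?_
      have : algebraMap A' (A' ⧸ J) (algebraMap A A' a) = 0 :=
        Ideal.Quotient.eq_zero_iff_mem.2 (Ideal.mem_map_of_mem _ ha)
      rw [Matrix.algebraMap_eq_diagonal, Matrix.zero_apply, Matrix.diagonal_apply]
      split_ifs with hij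
      · exact this
      · rfl
  exact ⟨A', i1, i2, hA', hbij, e, he, fun i j =>
    Ideal.Quotient.eq.1 (congrFun (congrFun hρe i) j)⟩

end Groth.Agent.RelGCILib
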