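import Groth.Agent.RelGCILib.Fibre
import Mathlib.RingTheory.Smooth.Local
import Mathlib.RingTheory.Etale.Kaehler
import Mathlib.RingTheory.Kaehler.Polynomial
import Mathlib.RingTheory.RingHom.Surjective
import Mathlib.RingTheory.Smooth.Locus
import Mathlib.LinearAlgebra.Matrix.NonsingularInverse

/-!
# The Jacobian criterion for relative global complete intersections
-/

set_option autoImplicit false
set_option linter.style.haveILetI false
universe u

open TensorProduct KaehlerDifferential

namespace Groth.Agent.RelGCILib

/-- Independent columns give a nonzero maximal minor and conversely. -/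
theorem exists_minor_iff {K : Type u} [Field K] {n c : ℕ} (M : Fin n → Fin c → K) :
    (∃ I : Fin c ↪ Fin n, Matrix.det (Matrix.of fun j i => M (I i) j) ≠ 0) ↔
      ∀ v : Fin c → K, (∀ i, ∑ j, v j * M i j = 0) → v = 0 := by
  constructor
  · rintro ⟨I, hI⟩ v hv
    refine Matrix.eq_zero_of_vecMul_eq_zero hI ?_
    ext i
    simp [Matrix.vecMul, dotProduct, hv (I i)]
  · intro h
    have htop : Submodule.span K (Set.range M) = ⊤ := by
      by_contra hne
      obtain ⟨φ, hφ, hφ'⟩ := Submodule.exists_dual_map_eq_bot_of_lt_top (lt_top_iff_ne_top.2 hne) inferInstance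
      refine hφ (LinearMap.ext fun w => ?_)
      have hzero := h (fun j => φ (Pi.single j 1)) fun i => by
        have h1 : φ (M i) = 0 := by
          have := Submodule.mem_map_of_mem (f := φ) (Submodule.subset_span (R := K) (Set.mem_range_self (f := M) i))
          rwa [hφ', Submodule.mem_bot] at this
        rw [← h1]
        conv_rhs => rw [← Finset.univ_sum_single (M i), map_sum]
        refine Finset.sum_congr rfl fun j _ => ?_
        rw [show Pi.single j (M i j) = M i j • (Pi.single j (1 : K) : Fin c → K) by simp [← Pi.single_smul'], map_smul,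
          smul_eq_mul, mul_comm]
      rw [← Finset.univ_sum_single w, map_sum, LinearMap.zero_apply]
      refine Finset.sum_eq_zero fun j _ => ?_
      rw [show Pi.single j (w j) = w j • (Pi.single j (1 : K) : Fin c → K) by simp [← Pi.single_smul'], map_smul]
      simp [show φ (Pi.single j 1) = 0 from congrFun hzero j]
    obtain ⟨f, hf, -, hfi⟩ := Submodule.exists_fun_fin_finrank_span_eq K (Set.range M)
    have hr : Module.finrank K (Submodule.span K (Set.range M)) = c := by rw [htop, finrank_top, Module.finrank_fin_fun]
    choose I hI using hf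
    let I' : Fin c → Fin n := fun i => I (Fin.cast hr.symm i)
    have hI' : ∀ i, M (I' i) = f (Fin.cast hr.symm i) := fun i => hI _
    refine ⟨⟨I', fun a b hab => ?_⟩, ?_⟩
    · exact Fin.cast_injective _ (hfi.injective (by rw [← hI', ← hI', hab]))
    · have h2 : IsUnit (Matrix.of fun j i => M (I' i) j) := by
        rw [← Matrix.linearIndependent_cols_iff_isUnit]
        have : (Matrix.of fun j i => M (I' i) j).col = fun i => f (Fin.cast hr.symm i) := funext fun i => hI' i
        rw [this]
        exact hfi.comp _ (Fin.cast_injective _)
      exact ((Matrix.isUnit_iff_isUnit_det _).1 h2).ne_zero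

variable {R : Type u} [CommRing R] {n c : ℕ}

/-- A basis of the differentials of a localised polynomial ring, computing partial derivatives. -/
theorem exists_basis_kaehler (M : Submonoid (MvPolynomial (Fin n) R)) :
    ∃ b : Module.Basis (Fin n) (Localization M) (Ω[Localization M⁄R]), ∀ (f : MvPolynomial (Fin n) R) (i : Fin n),
      b.repr (D R (Localization M) (algebraMap _ _ f)) i = algebraMap _ _ (MvPolynomial.pderiv i f) := by
  haveI : Algebra.FormallyEtale (MvPolynomial (Fin n) R) (Localization M) := Algebra.FormallyEtale.of_isLocalization M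
  let e := tensorKaehlerEquivOfFormallyEtale R (MvPolynomial (Fin n) R) (Localization M)
  refine ⟨((mvPolynomialBasis R (Fin n)).baseChange (Localization M)).map e, fun f i => ?_⟩
  rw [Module.Basis.map_repr, LinearEquiv.trans_apply, tensorKaehlerEquivOfFormallyEtale_symm_D_algebraMap,
    Module.Basis.baseChange_repr_tmul, mvPolynomialBasis_repr_apply, Algebra.smul_def, mul_one]

variable (F : Fin c → MvPolynomial (Fin n) R)

/-- The Jacobian criterion for a presentation by a locally regular sequence. -/
theorem formallySmooth_atPrime_iff_of_regular {S : Type u} [CommRing S] [Algebra R S]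
    [Algebra (MvPolynomial (Fin n) R) S] [IsScalarTower R (MvPolynomial (Fin n) R) S]
    (hφ : Function.Surjective (algebraMap (MvPolynomial (Fin n) R) S))
    (hkerφ : RingHom.ker (algebraMap (MvPolynomial (Fin n) R) S) = Ideal.span (Set.range F))
    (hxreg : ∀ (P : Ideal (MvPolynomial (Fin n) R)) (_ : P.IsPrime), Ideal.span (Set.range F) ≤ P →
      RingTheory.Sequence.IsWeaklyRegular (Localization.AtPrime P) (List.ofFn fun j => algebraMap _ (Localization.AtPrime P) (F j)))
    (q : Ideal S) [q.IsPrime] :
    Algebra.FormallySmooth R (Localization.AtPrime q) ↔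
      ∀ v : Fin c → q.ResidueField, (∀ i, ∑ j, v j *
        algebraMap S q.ResidueField (algebraMap (MvPolynomial (Fin n) R) S (MvPolynomial.pderiv i (F j))) = 0) → v = 0 := by
  set q' := q.comap (algebraMap (MvPolynomial (Fin n) R) S) with hq'def
  haveI : q'.IsPrime := inferInstance
  have hIq : Ideal.span (Set.range F) ≤ q' := fun x hx => by
    show algebraMap (MvPolynomial (Fin n) R) S x ∈ q
    rw [show algebraMap (MvPolynomial (Fin n) R) S x = 0 by rwa [← hkerφ, RingHom.mem_ker] at hx]
    exact q.zero_mem
  let π : (Localization.AtPrime q') →+* (Localization.AtPrime q) := Localization.localRingHom q' q (algebraMap (MvPolynomial (Fin n) R) S) rfl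
  letI : Algebra (Localization.AtPrime q') (Localization.AtPrime q) := π.toAlgebra
  have hπ : ∀ x, algebraMap (Localization.AtPrime q') (Localization.AtPrime q) (algebraMap _ (Localization.AtPrime q') x) = algebraMap S (Localization.AtPrime q) (algebraMap (MvPolynomial (Fin n) R) S x) :=
    fun x => Localization.localRingHom_to_map q' q _ rfl x
  haveI : IsScalarTower R (Localization.AtPrime q') (Localization.AtPrime q) := IsScalarTower.of_algebraMap_eq fun r => by
    rw [IsScalarTower.algebraMap_apply R (MvPolynomial (Fin n) R) (Localization.AtPrime q'), hπ,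
      IsScalarTower.algebraMap_apply R S (Localization.AtPrime q), IsScalarTower.algebraMap_apply R (MvPolynomial (Fin n) R) S]
  haveI : Algebra.FormallySmooth R (Localization.AtPrime q') := by
    haveI : Algebra.FormallySmooth (MvPolynomial (Fin n) R) (Localization.AtPrime q') := Algebra.FormallySmooth.of_isLocalization q'.primeCompl
    exact Algebra.FormallySmooth.comp R (MvPolynomial (Fin n) R) (Localization.AtPrime q')
  obtain ⟨b, hb⟩ := exists_basis_kaehler (R := R) q'.primeCompl
  haveI : Module.Free (Localization.AtPrime q') (Ω[(Localization.AtPrime q')⁄R]) := Module.Free.of_basis b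
  haveI : Module.Finite (Localization.AtPrime q') (Ω[(Localization.AtPrime q')⁄R]) := Module.Finite.of_basis b
  have hsurj : Function.Surjective (algebraMap (Localization.AtPrime q') (Localization.AtPrime q)) :=
    RingHom.surjective_localRingHom_of_surjective _ hφ q
  have hker : RingHom.ker (algebraMap (Localization.AtPrime q') (Localization.AtPrime q)) = (Ideal.span (Set.range F)).map (algebraMap _ (Localization.AtPrime q')) := by
    refine le_antisymm (fun x hx => ?_) (Ideal.map_le_iff_le_comap.2 fun a ha => ?_)
    · obtain ⟨⟨a, s⟩, rfl⟩ := IsLocalization.mk'_surjective q'.primeCompl x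
      rw [RingHom.mem_ker] at hx
      have h1 : algebraMap (Localization.AtPrime q') (Localization.AtPrime q) (algebraMap _ (Localization.AtPrime q') a) = 0 := by
        rw [← IsLocalization.mk'_spec (Localization.AtPrime q') a s, map_mul, hx, zero_mul]
      rw [hπ] at h1
      obtain ⟨⟨t, ht⟩, hts⟩ := (IsLocalization.map_eq_zero_iff q.primeCompl (Localization.AtPrime q) _).1 h1
      obtain ⟨t, rfl⟩ := hφ t
      rw [← map_mul, ← RingHom.mem_ker, hkerφ] at hts
      have h2 : algebraMap _ (Localization.AtPrime q') (t * a) ∈ (Ideal.span (Set.range F)).map (algebraMap _ (Localization.AtPrime q')) := Ideal.mem_map_of_mem _ hts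
      rw [map_mul, Ideal.unit_mul_mem_iff_mem _ (IsLocalization.map_units (Localization.AtPrime q') (⟨t, ht⟩ : q'.primeCompl))] at h2
      exact IsLocalization.mk'_mem_iff.2 h2
    · rw [Ideal.mem_comap, RingHom.mem_ker, hπ, show algebraMap (MvPolynomial (Fin n) R) S a = 0 by rwa [← hkerφ, RingHom.mem_ker] at ha, map_zero]
  have hfg : (RingHom.ker (algebraMap (Localization.AtPrime q') (Localization.AtPrime q))).FG := by
    rw [hker]
    exact Ideal.FG.map ⟨(Set.finite_range F).toFinset, by simp⟩ _
  have hxreg' := hxreg q' inferInstance hIq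
  rw [Algebra.FormallySmooth.iff_injective_cotangentComplexBaseChange_residueField (Localization.AtPrime q') hsurj hfg]
  have hK : ∀ x, algebraMap (Localization.AtPrime q') (IsLocalRing.ResidueField (Localization.AtPrime q)) (algebraMap _ (Localization.AtPrime q') x) =
      algebraMap S (IsLocalRing.ResidueField (Localization.AtPrime q)) (algebraMap (MvPolynomial (Fin n) R) S x) := fun x => by
    rw [IsScalarTower.algebraMap_apply (Localization.AtPrime q') (Localization.AtPrime q) (IsLocalRing.ResidueField (Localization.AtPrime q)), hπ, ← IsScalarTower.algebraMap_apply]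
  let x : Fin c → (Localization.AtPrime q') := fun j => algebraMap _ (Localization.AtPrime q') (F j)
  have hkerx : RingHom.ker (algebraMap (Localization.AtPrime q') (Localization.AtPrime q)) = Ideal.span (Set.range x) := by
    rw [hker, Ideal.map_span, ← Set.range_comp]; rfl
  let gen : Fin c → (IsLocalRing.ResidueField (Localization.AtPrime q)) ⊗[(Localization.AtPrime q')] RingHom.ker (algebraMap (Localization.AtPrime q') (Localization.AtPrime q)) := fun j =>
    1 ⊗ₜ ⟨x j, hkerx ▸ Ideal.subset_span (Set.mem_range_self j)⟩
  let bK : Module.Basis (Fin n) (IsLocalRing.ResidueField (Localization.AtPrime q)) ((IsLocalRing.ResidueField (Localization.AtPrime q)) ⊗[(Localization.AtPrime q')] Ω[(Localization.AtPrime q')⁄R]) := b.baseChange (IsLocalRing.ResidueField (Localization.AtPrime q))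
  have himg : ∀ (j : Fin c) (i : Fin n), bK.repr (cotangentComplexBaseChange R (Localization.AtPrime q) (Localization.AtPrime q') (IsLocalRing.ResidueField (Localization.AtPrime q)) (gen j)) i =
      algebraMap S (IsLocalRing.ResidueField (Localization.AtPrime q)) (algebraMap (MvPolynomial (Fin n) R) S (MvPolynomial.pderiv i (F j))) := fun j i => by
    rw [cotangentComplexBaseChange_tmul, one_smul, ← hK, ← hb (F j) i]
    show (b.baseChange (IsLocalRing.ResidueField (Localization.AtPrime q))).repr ((1 : (IsLocalRing.ResidueField (Localization.AtPrime q))) ⊗ₜ[(Localization.AtPrime q')] D R (Localization.AtPrime q') (x j)) i = _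
    rw [Module.Basis.baseChange_repr_tmul, Algebra.smul_def, mul_one]
  have hcomb : ∀ (v : Fin c → (IsLocalRing.ResidueField (Localization.AtPrime q))) (i : Fin n), bK.repr (cotangentComplexBaseChange R (Localization.AtPrime q) (Localization.AtPrime q') (IsLocalRing.ResidueField (Localization.AtPrime q)) (∑ j, v j • gen j)) i =
      ∑ j, v j * algebraMap S (IsLocalRing.ResidueField (Localization.AtPrime q)) (algebraMap (MvPolynomial (Fin n) R) S (MvPolynomial.pderiv i (F j))) := fun v i => by
    simp only [map_sum, map_smul, Finsupp.coe_finsetSum, Finset.sum_apply, Finsupp.coe_smul, Pi.smul_apply, smul_eq_mul, himg]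
  have hspan : ∀ z : (IsLocalRing.ResidueField (Localization.AtPrime q)) ⊗[(Localization.AtPrime q')] RingHom.ker (algebraMap (Localization.AtPrime q') (Localization.AtPrime q)), ∃ v : Fin c → (IsLocalRing.ResidueField (Localization.AtPrime q)), z = ∑ j, v j • gen j := by
    intro z
    induction z using TensorProduct.induction_on with
    | zero => exact ⟨0, by simp⟩
    | add z z' hz hz' =>
      obtain ⟨v, rfl⟩ := hz; obtain ⟨w, rfl⟩ := hz'
      exact ⟨v + w, by simp [add_smul, Finset.sum_add_distrib]⟩
    | tmul k y =>
      have hy : (y : (Localization.AtPrime q')) ∈ Ideal.span (Set.range x) := by rw [← hkerx]; exact y.2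
      obtain ⟨a, ha⟩ := (Submodule.mem_span_range_iff_exists_fun _).1 hy
      refine ⟨fun j => a j • k, ?_⟩
      have : y = ∑ j, a j • (⟨x j, hkerx ▸ Ideal.subset_span (Set.mem_range_self j)⟩ : RingHom.ker (algebraMap (Localization.AtPrime q') (Localization.AtPrime q))) := by
        ext; simp [← ha]
      rw [this, TensorProduct.tmul_sum]
      refine Finset.sum_congr rfl fun j _ => ?_
      rw [TensorProduct.tmul_smul, TensorProduct.smul_tmul', TensorProduct.smul_tmul', smul_eq_mul, mul_one]
  constructor
  · intro hinj v hv
    have h0 : ∑ j, v j • gen j = 0 := hinj (bK.repr.injective (Finsupp.ext fun i => by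
      rw [hcomb, map_zero, map_zero]; exact hv i))
    -- the generators are independent
    obtain ⟨β, hβ⟩ := S12482.result (Localization.AtPrime q') c x hxreg'
    have hle : ∀ a ∈ Ideal.span (Set.range x), algebraMap (Localization.AtPrime q') (IsLocalRing.ResidueField (Localization.AtPrime q)) a = 0 := fun a ha => by
      rw [IsScalarTower.algebraMap_apply (Localization.AtPrime q') (Localization.AtPrime q) (IsLocalRing.ResidueField (Localization.AtPrime q)), show algebraMap (Localization.AtPrime q') (Localization.AtPrime q) a = 0 by rwa [← RingHom.mem_ker, hkerx], map_zero]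
    let lK : ((Localization.AtPrime q') ⧸ Ideal.span (Set.range x)) →ₗ[(Localization.AtPrime q')] (IsLocalRing.ResidueField (Localization.AtPrime q)) := Submodule.liftQ _ (Algebra.linearMap (Localization.AtPrime q') (IsLocalRing.ResidueField (Localization.AtPrime q))) hle
    funext j
    let φ : RingHom.ker (algebraMap (Localization.AtPrime q') (Localization.AtPrime q)) →ₗ[(Localization.AtPrime q')] (IsLocalRing.ResidueField (Localization.AtPrime q)) :=
      lK ∘ₗ (β.coord j).restrictScalars (Localization.AtPrime q') ∘ₗ (Ideal.span (Set.range x)).toCotangent ∘ₗ Submodule.inclusion hkerx.le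
    have h1 := congrArg (LinearMap.liftBaseChange (IsLocalRing.ResidueField (Localization.AtPrime q)) φ) h0
    rw [map_zero, map_sum] at h1
    have h2 : ∀ k, LinearMap.liftBaseChange (IsLocalRing.ResidueField (Localization.AtPrime q)) φ (v k • gen k) = v k * (if k = j then 1 else 0) := fun k => by
      rw [map_smul, LinearMap.liftBaseChange_tmul, one_smul, smul_eq_mul]
      congr 1
      show lK (β.coord j ((Ideal.span (Set.range x)).toCotangent ⟨x k, _⟩)) = _
      rw [← hβ, Module.Basis.coord_apply, Module.Basis.repr_self, Finsupp.single_apply]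
      split_ifs with hkj
      · exact map_one (algebraMap (Localization.AtPrime q') (IsLocalRing.ResidueField (Localization.AtPrime q)))
      · exact map_zero lK
    simp only [h2, mul_ite, mul_one, mul_zero, Finset.sum_ite_eq', Finset.mem_univ, if_true] at h1
    exact h1
  · intro hv
    rw [injective_iff_map_eq_zero]
    intro z hz
    obtain ⟨v, rfl⟩ := hspan z
    have : v = 0 := hv v fun i => by
      rw [← hcomb, hz, map_zero, Finsupp.zero_apply]
    simp [this]

theorem weaklyRegular_localization (hF : Synt.IsRelGCI R n c F) (P : Ideal (MvPolynomial (Fin n) R)) [P.IsPrime]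
    (hIP : Ideal.span (Set.range F) ≤ P) :
    RingTheory.Sequence.IsWeaklyRegular (Localization.AtPrime P) (List.ofFn fun j => algebraMap _ (Localization.AtPrime P) (F j)) := by
  have hFP : ∀ y ∈ List.ofFn F, y ∈ P := fun y hy => by
    obtain ⟨j, rfl⟩ := List.mem_ofFn.1 hy
    exact hIP (Ideal.subset_span (Set.mem_range_self j))
  let eT : LocalizedModule P.primeCompl (MvPolynomial (Fin n) R) ≃ₗ[MvPolynomial (Fin n) R] Localization.AtPrime P :=
    IsLocalizedModule.iso P.primeCompl (Algebra.linearMap (MvPolynomial (Fin n) R) (Localization.AtPrime P))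
  haveI : Module.Flat R (Localization.AtPrime P) := Module.Flat.trans R (MvPolynomial (Fin n) R) _
  obtain ⟨hreg, -⟩ := FibreReg.regular_and_flat_list (A := R) P (MvPolynomial (Fin n) R) (List.ofFn F) hFP
    (Module.Flat.of_linearEquiv (eT.restrictScalars R)) (isRegular_fibre F hF P hIP)
  rw [show (List.ofFn fun j => algebraMap _ (Localization.AtPrime P) (F j)) =
    (List.ofFn F).map (algebraMap _ (Localization.AtPrime P)) by rw [List.map_ofFn]; rfl]
  exact (RingTheory.Sequence.isWeaklyRegular_map_algebraMap_iff _ _ (List.ofFn F)).2
    ((eT.isWeaklyRegular_congr _).1 hreg.toIsWeaklyRegular)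

end Groth.Agent.RelGCILib
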