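import Groth.Agent.RelGCILib.Local
import Groth.Agent.RelGCILib.Jacobian
import Groth.Agent.KRIdeal.Pres
import Groth.Agent.KRIdeal.Seq

/-!
# Syntomic algebras are locally relative global complete intersections
-/

set_option autoImplicit false
set_option linter.style.haveILetI false
universe u

open TensorProduct

namespace Groth.Agent.RelGCILib

/-- Global complete intersections over fields are local complete intersections. -/
theorem isLCI_of_isGlobalCI {k A : Type u} [Field k] [CommRing A] [Algebra k A] [Nontrivial A]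
    (h : Synt.IsGlobalCI k A) : LCI.IsLCI k A := by
  rcases h with h | ⟨m, c, hcm, φ, r, hφ, hker, hdim⟩
  · exact absurd h (not_subsingleton A)
  refine ⟨Algebra.FiniteType.of_surjective φ hφ, m, φ, hφ, ?_⟩
  have hrel : Synt.IsRelGCI k m c r := fun p _ => by
    refine ⟨hcm, Eq.trans ?_ hdim⟩
    haveI : p.asIdeal.IsMaximal := by
      rw [(Ideal.eq_bot_or_top p.asIdeal).resolve_right p.isPrime.ne_top]
      exact Ideal.bot_isMaximal
    let σ : k ≃ₐ[k] p.asIdeal.ResidueField := AlgEquiv.ofBijective (Algebra.ofId k p.asIdeal.ResidueField)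
      ⟨(algebraMap k p.asIdeal.ResidueField).injective, Ideal.algebraMap_residueField_surjective p.asIdeal⟩
    let e : (MvPolynomial (Fin m) k ⧸ Ideal.span (Set.range r)) ≃ₐ[k] A :=
      (Ideal.quotientEquivAlgOfEq k hker.symm).trans (Ideal.quotientKerAlgEquivOfSurjective hφ)
    exact ringKrullDim_eq_of_ringEquiv
      ((((Algebra.TensorProduct.congr σ.symm (AlgEquiv.refl : Synt.RelGCIRing k m c r ≃ₐ[k] Synt.RelGCIRing k m c r))).trans
        (Algebra.TensorProduct.lid k (Synt.RelGCIRing k m c r))).trans e).toRingEquiv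
  have hex : KoszulLib.Ex (List.ofFn r) := KRIdeal.ex_of_forall_maximal fun M hM => by
    by_cases hle : Ideal.span (Set.range r) ≤ M
    · refine (KoszulLib.ex_iff _).2 (RegSeq.isKoszulRegularSeq_of_isWeaklyRegular ?_)
      rw [List.map_ofFn]
      exact weaklyRegular_localization r hrel M hle
    · refine KRIdeal.ex_of_ofList_eq_top ?_
      obtain ⟨x, hx, hxm⟩ := SetLike.not_le_iff_exists.1 hle
      rw [← Ideal.map_ofList, KRIdeal.ofList_ofFn]
      exact Ideal.eq_top_of_isUnit_mem _ (Ideal.mem_map_of_mem _ hx) (IsLocalization.map_units _ (⟨x, hxm⟩ : M.primeCompl))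
  rw [hker, ← KRIdeal.ofList_ofFn]
  exact KRIdeal.isKRI_of_ex hex

variable {R S : Type u} [CommRing R] [CommRing S] [Algebra R S] (p : Ideal R) [p.IsPrime]

/-- The fibre of a basic open. -/
theorem nonempty_fiber_away (s : S) (C : Type u) [CommRing C] [Algebra R C] [Algebra S C] [IsScalarTower R S C]
    [IsLocalization.Away s C] (g : p.Fiber S) (hg : Associated g ((1 : p.ResidueField) ⊗ₜ[R] s)) :
    Nonempty (Localization.Away g ≃ₐ[p.ResidueField] p.Fiber C) := by
  haveI : IsLocalization.Away ((1 : p.ResidueField) ⊗ₜ[R] s : p.Fiber S) (Localization.Away g) :=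
    IsLocalization.Away.of_associated hg
  let m : p.Fiber S →ₐ[p.ResidueField] p.Fiber C :=
    Algebra.TensorProduct.map (AlgHom.id _ _) (IsScalarTower.toAlgHom R S C)
  have hu : IsUnit (m ((1 : p.ResidueField) ⊗ₜ[R] s)) := by
    show IsUnit ((1 : p.ResidueField) ⊗ₜ[R] algebraMap S C s : p.Fiber C)
    exact (IsLocalization.Away.algebraMap_isUnit s).map (Algebra.TensorProduct.includeRight : C →ₐ[R] p.Fiber C)
  let f : Localization.Away g →ₐ[p.ResidueField] p.Fiber C :=
    IsLocalization.liftAlgHom (M := Submonoid.powers ((1 : p.ResidueField) ⊗ₜ[R] s : p.Fiber S)) (f := m)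
      (by rintro ⟨_, k, rfl⟩; rw [map_pow]; exact hu.pow k)
  let i₀ : S →ₐ[R] Localization.Away g :=
    ((Algebra.algHom p.ResidueField (p.Fiber S) (Localization.Away g)).restrictScalars R).comp
      Algebra.TensorProduct.includeRight
  have hu₀ : IsUnit (i₀ s) := IsLocalization.Away.algebraMap_isUnit ((1 : p.ResidueField) ⊗ₜ[R] s : p.Fiber S)
  let i₁ : C →ₐ[R] Localization.Away g :=
    IsLocalization.liftAlgHom (M := Submonoid.powers s) (f := i₀) (by rintro ⟨_, k, rfl⟩; rw [map_pow]; exact hu₀.pow k)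
  let b : p.Fiber C →ₐ[p.ResidueField] Localization.Away g :=
    Algebra.TensorProduct.lift (Algebra.ofId _ _) i₁ fun _ _ => Commute.all _ _
  have hf : ∀ x, f (algebraMap (p.Fiber S) (Localization.Away g) x) = m x := fun x => IsLocalization.lift_eq _ x
  have hi : ∀ x, i₁ (algebraMap S C x) = i₀ x := fun x => IsLocalization.lift_eq _ x
  refine ⟨AlgEquiv.ofAlgHom f b ?_ ?_⟩
  · refine Algebra.TensorProduct.ext (Subsingleton.elim _ _) (IsLocalization.algHom_ext (Submonoid.powers s) ?_)
    refine AlgHom.ext fun x => ?_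
    show f (b (1 ⊗ₜ[R] algebraMap S C x)) = 1 ⊗ₜ[R] algebraMap S C x
    rw [show b ((1 : p.ResidueField) ⊗ₜ[R] algebraMap S C x) = i₀ x by simp [b, hi]]
    show f (algebraMap (p.Fiber S) (Localization.Away g) (1 ⊗ₜ[R] x)) = _
    rw [hf]; rfl
  · refine IsLocalization.algHom_ext (Submonoid.powers ((1 : p.ResidueField) ⊗ₜ[R] s : p.Fiber S))
      (Algebra.TensorProduct.ext (Subsingleton.elim _ _) (AlgHom.ext fun x => ?_))
    show b (f (algebraMap (p.Fiber S) (Localization.Away g) (1 ⊗ₜ[R] x))) = algebraMap (p.Fiber S) (Localization.Away g) (1 ⊗ₜ[R] x)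
    rw [hf]
    show b (1 ⊗ₜ[R] algebraMap S C x) = _
    simp [b, hi]; rfl

/-- The presentation of a fibre induced by a presentation. -/
theorem exists_fiber_pres {n : ℕ} (π : MvPolynomial (Fin n) R →ₐ[R] S) (hπ : Function.Surjective π) :
    ∃ α : MvPolynomial (Fin n) p.ResidueField →ₐ[p.ResidueField] p.Fiber S, Function.Surjective α ∧
      RingHom.ker α.toRingHom = (RingHom.ker π.toRingHom).map (MvPolynomial.map (algebraMap R p.ResidueField)) ∧
      ∀ z, α (MvPolynomial.map (algebraMap R p.ResidueField) z) = (1 : p.ResidueField) ⊗ₜ[R] π z := by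
  let α : MvPolynomial (Fin n) p.ResidueField →ₐ[p.ResidueField] p.Fiber S :=
    MvPolynomial.aeval fun i => (1 : p.ResidueField) ⊗ₜ[R] π (MvPolynomial.X i)
  have hα : ∀ z, α (MvPolynomial.map (algebraMap R p.ResidueField) z) = (1 : p.ResidueField) ⊗ₜ[R] π z := by
    intro z
    show ((α.restrictScalars R).comp (MvPolynomial.mapAlgHom (Algebra.ofId R p.ResidueField))) z =
      (Algebra.TensorProduct.includeRight.comp π) z
    refine DFunLike.congr_fun (MvPolynomial.algHom_ext fun i => ?_) z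
    simp [α]
  have hsurj : Function.Surjective α := fun y => by
    induction y using TensorProduct.induction_on with
    | zero => exact ⟨0, map_zero _⟩
    | add a b ha hb =>
      obtain ⟨a', ha'⟩ := ha; obtain ⟨b', hb'⟩ := hb
      exact ⟨a' + b', by rw [map_add, ha', hb']⟩
    | tmul k z =>
      obtain ⟨z, rfl⟩ := hπ z
      exact ⟨k • MvPolynomial.map (algebraMap R p.ResidueField) z, by
        rw [map_smul, hα, TensorProduct.smul_tmul', smul_eq_mul, mul_one]⟩
  set J := (RingHom.ker π.toRingHom).map (MvPolynomial.map (algebraMap R p.ResidueField))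
  refine ⟨α, hsurj, le_antisymm (fun y hy => ?_) (Ideal.map_le_iff_le_comap.2 fun z hz => ?_), hα⟩
  · let f₀ : MvPolynomial (Fin n) R →ₐ[R] MvPolynomial (Fin n) p.ResidueField ⧸ J :=
      (Ideal.Quotient.mkₐ R J).comp (MvPolynomial.mapAlgHom (Algebra.ofId R p.ResidueField))
    have hkill : ∀ a ∈ RingHom.ker π.toRingHom, f₀ a = 0 := fun a ha =>
      Ideal.Quotient.eq_zero_iff_mem.2 (Ideal.mem_map_of_mem _ ha)
    let f₁ : S →ₐ[R] MvPolynomial (Fin n) p.ResidueField ⧸ J :=
      (Ideal.Quotient.liftₐ (RingHom.ker π.toRingHom) f₀ hkill).comp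
        (Ideal.quotientKerAlgEquivOfSurjective hπ).symm.toAlgHom
    have hf₁ : ∀ z, f₁ (π z) = f₀ z := fun z => by
      have : (Ideal.quotientKerAlgEquivOfSurjective hπ).symm (π z) = Ideal.Quotient.mk _ z :=
        (AlgEquiv.symm_apply_eq _).2 rfl
      exact (congrArg (Ideal.Quotient.liftₐ (RingHom.ker π.toRingHom) f₀ hkill) this).trans rfl
    let g : p.Fiber S →ₐ[p.ResidueField] MvPolynomial (Fin n) p.ResidueField ⧸ J :=
      Algebra.TensorProduct.lift (Algebra.ofId p.ResidueField _) f₁ fun _ _ => Commute.all _ _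
    have hg : g.comp α = Ideal.Quotient.mkₐ p.ResidueField J :=
      MvPolynomial.algHom_ext fun i => by simp [g, α, hf₁, f₀]
    have h0 := DFunLike.congr_fun hg y
    rw [AlgHom.comp_apply, show α y = 0 from hy, map_zero, Ideal.Quotient.mkₐ_eq_mk] at h0
    exact Ideal.Quotient.eq_zero_iff_mem.1 h0.symm
  · show α _ = 0
    rw [hα, show π z = 0 from hz, TensorProduct.tmul_zero]

/-- The core theorem with a local complete intersection fibre. -/
theorem exists_away_isRelGCI_of_isLCI_fiber [Algebra.FinitePresentation R S] (q : Ideal S) [q.IsPrime]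
    [Module.Flat R (Localization.AtPrime q)] (hp : q.comap (algebraMap R S) = p)
    (hlci : LCI.IsLCI p.ResidueField (p.Fiber S)) :
    ∃ g : S, g ∉ q ∧ ∃ (m d : ℕ) (G : Fin d → MvPolynomial (Fin m) R), Synt.IsRelGCI R m d G ∧
      Nonempty (Localization.Away g ≃ₐ[R] Synt.RelGCIRing R m d G) := by
  obtain ⟨n, π, hπ, hI⟩ := Algebra.FinitePresentation.out (R := R) (A := S)
  letI : Algebra (MvPolynomial (Fin n) R) S := π.toRingHom.toAlgebra
  haveI : IsScalarTower R (MvPolynomial (Fin n) R) S := IsScalarTower.of_algebraMap_eq fun r => (π.commutes r).symm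
  obtain ⟨α, hα, hker, hαmap⟩ := exists_fiber_pres p π hπ
  let pp : PrimeSpectrum R := ⟨p, inferInstance⟩
  let Q' := PrimeSpectrum.preimageOrderIsoFiber R S pp ⟨⟨q, inferInstance⟩, PrimeSpectrum.ext hp⟩
  have hQ' : Q'.asIdeal.comap Algebra.TensorProduct.includeRight.toRingHom = q :=
    congrArg (fun w => w.1.asIdeal) ((PrimeSpectrum.preimageOrderIsoFiber R S pp).symm_apply_apply
      ⟨⟨q, inferInstance⟩, PrimeSpectrum.ext hp⟩)
  let Q := Q'.asIdeal.comap α.toRingHom
  haveI : Q.IsPrime := inferInstance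
  refine exists_away_isRelGCI hπ hI q p hp Q (Ideal.ext fun z => ?_) ?_
  · show α (MvPolynomial.map (algebraMap R p.ResidueField) z) ∈ Q'.asIdeal ↔ π z ∈ q
    rw [hαmap, ← hQ']; rfl
  · have h1 := (KRIdeal.isKRI_iff _).1 (KRIdeal.isKRI_ker_of_isLCI hlci α hα) Q (fun y hy => by
      show α y ∈ Q'.asIdeal
      rw [show α y = 0 from hy]; exact zero_mem _)
    rw [hker] at h1
    exact h1

variable (R) in
/-- Syntomic algebras are locally relative global complete intersections. -/
theorem exists_away_isRelGCI_of_isSyntomic (h : Synt.IsSyntomic R S) (q : Ideal S) [q.IsPrime] :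
    ∃ g : S, g ∉ q ∧ ∃ (m d : ℕ) (G : Fin d → MvPolynomial (Fin m) R), Synt.IsRelGCI R m d G ∧
      Nonempty (Localization.Away g ≃ₐ[R] Synt.RelGCIRing R m d G) := by
  obtain ⟨hflat, hfp, hlci⟩ := h
  let p := q.comap (algebraMap R S)
  let pp : PrimeSpectrum R := ⟨p, inferInstance⟩
  let Q := PrimeSpectrum.preimageOrderIsoFiber R S pp ⟨⟨q, inferInstance⟩, rfl⟩
  have hQ : Q.asIdeal.comap Algebra.TensorProduct.includeRight.toRingHom = q :=
    congrArg (fun w => w.1.asIdeal) ((PrimeSpectrum.preimageOrderIsoFiber R S pp).symm_apply_apply ⟨⟨q, inferInstance⟩, rfl⟩)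
  obtain ⟨g', hg', hci⟩ := (hlci pp).2 Q
  obtain ⟨r, hr, s, hs⟩ := Ideal.Fiber.exists_smul_eq_one_tmul p g'
  have hru : IsUnit (algebraMap R (p.Fiber S) r) := by
    rw [IsScalarTower.algebraMap_apply R p.ResidueField (p.Fiber S)]
    exact (isUnit_iff_ne_zero.2 fun h0 => hr (Ideal.algebraMap_residueField_eq_zero.1 h0)).map _
  have hs' : (1 : p.ResidueField) ⊗ₜ[R] s = g' * algebraMap R (p.Fiber S) r := by
    rw [← hs, Algebra.smul_def, mul_comm]
  have hsq : s ∉ q := fun hsq => by
    rw [← hQ] at hsq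
    have h2 : g' * algebraMap R (p.Fiber S) r ∈ Q.asIdeal := hs' ▸ hsq
    exact hg' ((Ideal.mul_unit_mem_iff_mem _ hru).1 h2)
  let C := Localization.Away s
  obtain ⟨eF⟩ := nonempty_fiber_away p s C g' (hs' ▸ associated_mul_unit_right g' _ hru)
  let qC : Ideal C := q.map (algebraMap S C)
  have hdisj : Disjoint (Submonoid.powers s : Set S) (q : Set S) := Set.disjoint_left.2 fun x hx hxq => by
    obtain ⟨k, rfl⟩ := hx
    exact hsq (‹q.IsPrime›.mem_of_pow_mem k hxq)
  haveI : qC.IsPrime := IsLocalization.isPrime_of_isPrime_disjoint _ _ q inferInstance hdisj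
  have hqC : qC.comap (algebraMap S C) = q := IsLocalization.under_map_of_isPrime_disjoint _ _ ‹q.IsPrime› hdisj
  have hpC : qC.comap (algebraMap R C) = p := by
    rw [IsScalarTower.algebraMap_eq R S C, ← Ideal.comap_comap, hqC]
  haveI : Algebra.FinitePresentation R C := Algebra.FinitePresentation.trans R S C
  haveI : Module.Flat R C := Module.Flat.trans R S C
  haveI : Module.Flat R (Localization.AtPrime qC) := Module.Flat.trans R C _
  haveI : Nontrivial (p.Fiber C) := by
    rw [← PrimeSpectrum.nonempty_iff_nontrivial]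
    exact ⟨PrimeSpectrum.preimageHomeomorphFiber R C pp ⟨⟨qC, inferInstance⟩, PrimeSpectrum.ext hpC⟩⟩
  obtain ⟨g₁, hg₁, m, d, G, hG, ⟨eG⟩⟩ := exists_away_isRelGCI_of_isLCI_fiber p qC hpC
    (isLCI_of_isGlobalCI (isGlobalCI_of_equiv eF hci))
  obtain ⟨g, hg, ⟨e⟩⟩ := exists_away_away (R := R) q s (AlgEquiv.refl) g₁ (fun a ha => Ideal.mem_map_of_mem _ ha) qC hg₁
  exact ⟨g, hg, m, d, G, hG, ⟨e.trans eG⟩⟩

end Groth.Agent.RelGCILib
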