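import Groth.Agent.RelGCILib.Reduction
import Groth.Agent.RelGCILib.Syntomic

/-!
# Lifting relative global complete intersections from a closed subscheme of the base
-/

set_option autoImplicit false
set_option linter.style.haveILetI false
universe u

open MvPolynomial

namespace Groth.Agent.RelGCILib

variable {R : Type u} [CommRing R] (I : Ideal R)

theorem nonempty_reduction_equiv {n c : ℕ} (F : Fin c → MvPolynomial (Fin n) R) :
    Nonempty ((Synt.RelGCIRing R n c F ⧸ I.map (algebraMap R (Synt.RelGCIRing R n c F))) ≃ₐ[R]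
      Synt.RelGCIRing (R ⧸ I) n c (fun i => MvPolynomial.map (Ideal.Quotient.mk I) (F i))) := by
  set G := fun i => MvPolynomial.map (Ideal.Quotient.mk I) (F i)
  let f : MvPolynomial (Fin n) R →ₐ[R] Synt.RelGCIRing (R ⧸ I) n c G :=
    ((Ideal.Quotient.mkₐ (R ⧸ I) (Ideal.span (Set.range G))).restrictScalars R).comp
      (MvPolynomial.mapAlgHom (Algebra.ofId R (R ⧸ I)))
  have hm : ∀ z, f z = Ideal.Quotient.mk _ (MvPolynomial.map (Ideal.Quotient.mk I) z) := fun z => rfl
  have hsm : Function.Surjective (MvPolynomial.map (σ := Fin n) (Ideal.Quotient.mk I)) :=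
    MvPolynomial.map_surjective _ Ideal.Quotient.mk_surjective
  let ρ : Synt.RelGCIRing R n c F →ₐ[R] Synt.RelGCIRing (R ⧸ I) n c G := Ideal.Quotient.liftₐ _ f fun a ha => by
    rw [hm, Ideal.Quotient.eq_zero_iff_mem]
    have h1 := Ideal.mem_map_of_mem (MvPolynomial.map (σ := Fin n) (Ideal.Quotient.mk I)) ha
    rw [Ideal.map_span, ← Set.range_comp] at h1
    exact h1
  have hρ : ∀ z, ρ (Ideal.Quotient.mk _ z) = f z := fun z => rfl
  have hsurj : Function.Surjective ρ := fun y => by
    obtain ⟨y, rfl⟩ := Ideal.Quotient.mk_surjective y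
    obtain ⟨z, rfl⟩ := hsm y
    exact ⟨Ideal.Quotient.mk _ z, rfl⟩
  have hker : RingHom.ker ρ = I.map (algebraMap R (Synt.RelGCIRing R n c F)) := by
    refine le_antisymm (fun y hy => ?_) (Ideal.map_le_iff_le_comap.2 fun r hr => ?_)
    · obtain ⟨z, rfl⟩ := Ideal.Quotient.mk_surjective y
      have h1 : MvPolynomial.map (Ideal.Quotient.mk I) z ∈ Ideal.span (Set.range G) :=
        Ideal.Quotient.eq_zero_iff_mem.1 hy
      rw [show G = MvPolynomial.map (Ideal.Quotient.mk I) ∘ F from rfl, Set.range_comp, ← Ideal.map_span] at h1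
      obtain ⟨w, hw, he⟩ := (Ideal.mem_map_iff_of_surjective _ hsm).1 h1
      have h2 : z - w ∈ I.map (MvPolynomial.C (σ := Fin n)) := by
        refine MvPolynomial.mem_map_C_iff.2 fun m => ?_
        rw [← Ideal.Quotient.eq_zero_iff_mem, ← MvPolynomial.coeff_map, map_sub, he, sub_self, MvPolynomial.coeff_zero]
      have h3 := Ideal.mem_map_of_mem (Ideal.Quotient.mk (Ideal.span (Set.range F))) h2
      rw [Ideal.map_map, map_sub, Ideal.Quotient.eq_zero_iff_mem.2 hw, sub_zero] at h3
      exact h3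
    · show ρ (algebraMap R _ r) = 0
      rw [AlgHom.commutes, IsScalarTower.algebraMap_apply R (R ⧸ I), Ideal.Quotient.algebraMap_eq,
        Ideal.Quotient.eq_zero_iff_mem.2 hr, map_zero]
  exact ⟨(Ideal.quotientEquivAlgOfEq R hker.symm).trans (Ideal.quotientKerAlgEquivOfSurjective hsurj)⟩

theorem nonempty_quotient_away_equiv {T : Type u} [CommRing T] [Algebra R T] (g : T)
    (hg : Ideal.Quotient.mk (I.map (algebraMap R T)) g = 1) :
    Nonempty ((Localization.Away g ⧸ I.map (algebraMap R (Localization.Away g))) ≃ₐ[R]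
      (T ⧸ I.map (algebraMap R T))) := by
  let a : Localization.Away g →ₐ[R] T ⧸ I.map (algebraMap R T) :=
    IsLocalization.liftAlgHom (M := Submonoid.powers g) (f := Ideal.Quotient.mkₐ R _) (by
      rintro ⟨_, k, rfl⟩
      rw [map_pow, Ideal.Quotient.mkₐ_eq_mk, hg]
      exact isUnit_one.pow k)
  have ha : ∀ x, a (algebraMap T _ x) = Ideal.Quotient.mk _ x := fun x => IsLocalization.lift_eq _ x
  let a' : (Localization.Away g ⧸ I.map (algebraMap R (Localization.Away g))) →ₐ[R] T ⧸ I.map (algebraMap R T) :=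
    Ideal.Quotient.liftₐ _ a fun x hx => (Ideal.map_le_iff_le_comap.2 (fun r hr => by
      show a (algebraMap R _ r) = 0
      rw [IsScalarTower.algebraMap_apply R T (Localization.Away g), ha, Ideal.Quotient.eq_zero_iff_mem]
      exact Ideal.mem_map_of_mem _ hr) : I.map (algebraMap R (Localization.Away g)) ≤ RingHom.ker a.toRingHom) hx
  let b : (T ⧸ I.map (algebraMap R T)) →ₐ[R] Localization.Away g ⧸ I.map (algebraMap R (Localization.Away g)) :=
    Ideal.Quotient.liftₐ _ ((Ideal.Quotient.mkₐ R _).comp (IsScalarTower.toAlgHom R T _)) fun x hx => by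
      refine Ideal.Quotient.eq_zero_iff_mem.2 ?_
      rw [IsScalarTower.algebraMap_eq R T (Localization.Away g), ← Ideal.map_map]
      exact Ideal.mem_map_of_mem _ hx
  refine ⟨AlgEquiv.ofAlgHom a' b (Ideal.Quotient.algHom_ext _ (AlgHom.ext fun x => ?_))
    (Ideal.Quotient.algHom_ext _ (IsLocalization.algHom_ext (Submonoid.powers g) (AlgHom.ext fun x => ?_)))⟩
  · exact ha x
  · show b (a (algebraMap T _ x)) = _
    rw [ha]; rfl

/-- A syntomic algebra over `R ⧸ I` is covered by reductions of relative global complete intersections over `R`. -/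
theorem exists_lift {A : Type u} [CommRing A] [Algebra R A] [Algebra (R ⧸ I) A] [IsScalarTower R (R ⧸ I) A]
    (h : Synt.IsSyntomic (R ⧸ I) A) (q : Ideal A) [q.IsPrime] :
    ∃ g : A, g ∉ q ∧ ∃ (n c : ℕ) (F : Fin c → MvPolynomial (Fin n) R), Synt.IsRelGCI R n c F ∧
      Nonempty (Localization.Away g ≃ₐ[R]
        (Synt.RelGCIRing R n c F ⧸ I.map (algebraMap R (Synt.RelGCIRing R n c F)))) := by
  obtain ⟨g, hg, m, d, G, hG, ⟨e⟩⟩ := exists_away_isRelGCI_of_isSyntomic (R ⧸ I) h q
  choose F hF using fun i => MvPolynomial.map_surjective (σ := Fin m) _ (Ideal.Quotient.mk_surjective (I := I)) (G i)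
  obtain rfl : (fun i => MvPolynomial.map (Ideal.Quotient.mk I) (F i)) = G := funext hF
  obtain ⟨h', h1, hrel⟩ := exists_away_of_reduction F I hG
  obtain ⟨e₁⟩ := nonempty_reduction_equiv I F
  obtain ⟨e₂⟩ := nonempty_quotient_away_equiv I (Ideal.Quotient.mk (Ideal.span (Set.range F)) h') h1
  obtain ⟨e₃⟩ := nonempty_away_equiv F h'
  haveI : IsScalarTower R (R ⧸ I) (Localization.Away g) := IsScalarTower.of_algebraMap_eq fun r => by
    rw [IsScalarTower.algebraMap_apply R A (Localization.Away g), IsScalarTower.algebraMap_apply R (R ⧸ I) A,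
      ← IsScalarTower.algebraMap_apply (R ⧸ I) A (Localization.Away g)]
  refine ⟨g, hg, m + 1, d + 1, awaySeq F h', hrel, ⟨(e.restrictScalars R).trans ((e₁.symm.trans e₂.symm).trans
    (Ideal.quotientEquivAlg _ _ e₃ ?_))⟩⟩
  show _ = (I.map (algebraMap R (Localization.Away _))).map e₃.toAlgHom.toRingHom
  rw [Ideal.map_map]
  exact congrArg (Ideal.map · I) (RingHom.ext fun r => (e₃.commutes r).symm)

end Groth.Agent.RelGCILib
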