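import Groth.Agent.RelGCILib.FlatLift
import Groth.Agent.RelGCILib.IdemLift
import Groth.Agent.RelGCILib.Lift
import Groth.Agent.S9151

/-!
# Lifting syntomic algebras along surjections
-/

set_option autoImplicit false
set_option linter.style.haveILetI false
universe u

open TensorProduct Pointwise

namespace Groth.Agent.RelGCILib

theorem isSyntomic_congr {R A A' : Type u} [CommRing R] [CommRing A] [CommRing A'] [Algebra R A] [Algebra R A']
    (e : A ≃ₐ[R] A') (h : Synt.IsSyntomic R A) : Synt.IsSyntomic R A' := by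
  haveI := h.1
  haveI : Module.Flat R A' := Module.Flat.of_linearEquiv e.symm.toLinearEquiv
  exact isSyntomic_of_flat_isLCI R A' (KRIdeal.isLCI_algEquiv e (isLCI_of_isSyntomic R A h))

theorem exists_sum_of_mem_map {P B : Type u} [CommRing P] [CommRing B] [Algebra P B] (I : Ideal P) {x : B}
    (hx : x ∈ I.map (algebraMap P B)) :
    ∃ (l : ℕ) (a : Fin l → P) (z : Fin l → B), (∀ i, a i ∈ I) ∧ x = ∑ i, a i • z i := by
  have hx' : x ∈ (I • ⊤ : Submodule P B) := by rw [Ideal.smul_top_eq_map]; exact hx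
  refine Submodule.smul_induction_on hx' (fun r hr v _ => ⟨1, fun _ => r, fun _ => v, fun _ => hr, by simp⟩) ?_
  rintro a b ⟨l, c, y, hc, rfl⟩ ⟨l', c', y', hc', rfl⟩
  exact ⟨l + l', Fin.append c c', Fin.append y y',
    fun i => Fin.addCases (fun i => by simpa using hc i) (fun i => by simpa using hc' i) i,
    by simp [Fin.sum_univ_add]⟩

/-- The splitting of the conormal module of a syntomic algebra. -/
theorem exists_splitting {R₀ A₀ : Type u} [CommRing R₀] [CommRing A₀] [Algebra R₀ A₀] (h : Synt.IsSyntomic R₀ A₀)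
    {n : ℕ} (π : MvPolynomial (Fin n) R₀ →ₐ[R₀] A₀) (hπ : Function.Surjective π)
    (hI : (RingHom.ker π.toRingHom).FG) :
    ∃ (m : ℕ) (f : Fin m → MvPolynomial (Fin n) R₀) (M : Matrix (Fin m) (Fin m) (MvPolynomial (Fin n) R₀)),
      Ideal.span (Set.range f) = RingHom.ker π.toRingHom ∧
      (∀ ρ : Fin m → MvPolynomial (Fin n) R₀, ∑ j, ρ j * f j = 0 → ∀ i, ∑ j, ρ j * M j i ∈ RingHom.ker π.toRingHom) ∧
      ∀ j, f j - ∑ i, M j i * f i ∈ RingHom.ker π.toRingHom ^ 2 := by
  classical
  set I₀ := RingHom.ker π.toRingHom with hI₀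
  obtain ⟨m, f, hf⟩ : ∃ (m : ℕ) (f : Fin m → MvPolynomial (Fin n) R₀), Ideal.span (Set.range f) = I₀ :=
    Submodule.fg_iff_exists_fin_generating_family.1 hI
  let T₀ := MvPolynomial (Fin n) R₀ ⧸ I₀
  let T' := Localization.Away (1 : T₀)
  haveI : IsLocalization.Away (1 : T₀) T' := inferInstance
  let e₁ : T₀ ≃ₐ[T₀] T' := IsLocalization.atUnits T₀ (Submonoid.powers 1) (by rintro _ ⟨k, rfl⟩; exact isUnit_one.pow k)
  obtain ⟨-, hproj⟩ := S9151.result R₀ n I₀ hI (1 : T₀)
    (isSyntomic_congr ((Ideal.quotientKerAlgEquivOfSurjective hπ).symm.trans (e₁.restrictScalars R₀)) h)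
  set μ := LocalizedModule.mkLinearMap (Submonoid.powers (1 : T₀)) I₀.Cotangent with hμ
  have hfI : ∀ i, f i ∈ I₀ := fun i => hf ▸ Ideal.subset_span ⟨i, rfl⟩
  let c : Fin m → LocalizedModule (Submonoid.powers (1 : T₀)) I₀.Cotangent :=
    fun i => μ (I₀.toCotangent ⟨f i, hfI i⟩)
  set τ : MvPolynomial (Fin n) R₀ →+* T' := (algebraMap T₀ T').comp (Ideal.Quotient.mk I₀) with hτ
  have hτsurj : Function.Surjective τ := (e₁.surjective).comp Ideal.Quotient.mk_surjective
  have hτker : ∀ a, τ a = 0 ↔ a ∈ I₀ := fun a => by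
    show e₁ (Ideal.Quotient.mk I₀ a) = 0 ↔ _
    rw [EmbeddingLike.map_eq_zero_iff, Ideal.Quotient.eq_zero_iff_mem]
  have hτsmul : ∀ (b : MvPolynomial (Fin n) R₀) (z : I₀.Cotangent), τ b • μ z = μ (b • z) := fun b z => by
    rw [hτ, RingHom.comp_apply, algebraMap_smul, ← map_smul]
    exact congrArg _ (by obtain ⟨z, rfl⟩ := I₀.toCotangent_surjective z; rfl)
  have hcomb : ∀ a : Fin m → MvPolynomial (Fin n) R₀, ∑ i, τ (a i) • c i = μ (I₀.toCotangent (∑ i, a i • ⟨f i, hfI i⟩)) := by
    intro a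
    simp only [c, hτsmul, ← map_sum, ← map_smul I₀.toCotangent]
  have hψ : Function.Surjective (Fintype.linearCombination T' c) := fun z => by
    induction z using LocalizedModule.induction_on with
    | h y s =>
      obtain ⟨⟨y, hy⟩, rfl⟩ := I₀.toCotangent_surjective y
      obtain ⟨a, ha⟩ := Ideal.mem_span_range_iff_exists_fun.1 (hf.symm ▸ hy : y ∈ Ideal.span (Set.range f))
      refine ⟨fun i => τ (a i), ?_⟩
      rw [Fintype.linearCombination_apply, hcomb, show (∑ i, a i • (⟨f i, hfI i⟩ : I₀)) = ⟨y, hy⟩ from Subtype.ext (by simpa using ha),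
        hμ, LocalizedModule.mkLinearMap_apply]
      congr 1
      obtain ⟨k, hk⟩ := s.2
      exact Subtype.ext ((one_pow k).symm.trans hk)
  obtain ⟨σ, hσ⟩ := Module.projective_lifting_property (Fintype.linearCombination T' c) LinearMap.id hψ
  choose M hM using fun j i => hτsurj (σ (c j) i)
  refine ⟨m, f, Matrix.of M, hf, fun ρ hρ i => ?_, fun j => ?_⟩
  · have h1 : ∑ j, τ (ρ j) • c j = 0 := by
      rw [hcomb, show (∑ j, ρ j • (⟨f j, hfI j⟩ : I₀)) = 0 from Subtype.ext (by simpa using hρ), map_zero, map_zero]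
    have h2 := congrFun (congrArg σ h1) i
    rw [map_sum, map_zero] at h2
    rw [← hτker, map_sum]
    simpa [map_smul, hM] using h2
  · have h1 : ∑ i, τ (M j i) • c i = c j := by
      have := LinearMap.congr_fun hσ (c j)
      rw [LinearMap.comp_apply, Fintype.linearCombination_apply] at this
      simpa [hM] using this
    rw [hcomb] at h1
    have h2 : μ (I₀.toCotangent (⟨f j, hfI j⟩ - ∑ i, M j i • ⟨f i, hfI i⟩)) = 0 := by
      rw [map_sub, map_sub, h1]; exact sub_self _
    obtain ⟨⟨_, k, rfl⟩, hk⟩ := (IsLocalizedModule.eq_zero_iff (Submonoid.powers (1 : T₀)) μ).1 h2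
    simp only [Submonoid.smul_def, one_pow, one_smul, Ideal.toCotangent_eq_zero] at hk
    simpa using hk

variable {R : Type u} [CommRing R] (I : Ideal R)

theorem nonempty_quotient_residue_equiv {A₀ : Type u} [CommRing A₀] [Algebra R A₀] [Algebra (R ⧸ I) A₀]
    [IsScalarTower R (R ⧸ I) A₀] (h : Synt.IsSyntomic (R ⧸ I) A₀) (p : Ideal R) [p.IsPrime] (hIp : I ≤ p) :
    LCI.IsLCI p.ResidueField (p.ResidueField ⊗[R] A₀) := by
  let pb := p.map (Ideal.Quotient.mk I)
  haveI : pb.IsPrime := Ideal.map_isPrime_of_surjective Ideal.Quotient.mk_surjective (by rw [Ideal.mk_ker]; exact hIp)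
  have hpb : p = pb.comap (Ideal.Quotient.mk I) := by
    rw [Ideal.comap_map_of_surjective _ Ideal.Quotient.mk_surjective, ← RingHom.ker_eq_comap_bot, Ideal.mk_ker,
      sup_eq_left.2 hIp]
  let σ : p.ResidueField ≃+* pb.ResidueField := RingEquiv.ofBijective (Ideal.ResidueField.map p pb (Ideal.Quotient.mk I) hpb)
    ((RingHom.surjectiveOnStalks_of_surjective Ideal.Quotient.mk_surjective).residueFieldMap_bijective p pb hpb)
  have hσ : ∀ r, σ (algebraMap R p.ResidueField r) = algebraMap (R ⧸ I) pb.ResidueField (Ideal.Quotient.mk I r) :=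
    fun r => Ideal.ResidueField.map_algebraMap _ _ _ _ r
  let K := p.ResidueField
  letI : Algebra pb.ResidueField K := σ.symm.toRingHom.toAlgebra
  letI : Algebra (R ⧸ I) K := (σ.symm.toRingHom.comp (algebraMap (R ⧸ I) pb.ResidueField)).toAlgebra
  haveI : IsScalarTower (R ⧸ I) pb.ResidueField K := IsScalarTower.of_algebraMap_eq fun x => rfl
  haveI : IsScalarTower R (R ⧸ I) K := IsScalarTower.of_algebraMap_eq fun r => by
    show _ = σ.symm (algebraMap (R ⧸ I) pb.ResidueField (Ideal.Quotient.mk I r))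
    rw [← hσ, RingEquiv.symm_apply_apply]
  haveI : TensorProduct.CompatibleSMul R (R ⧸ I) K A₀ := ⟨fun a k m => by
    obtain ⟨r, rfl⟩ := Ideal.Quotient.mk_surjective a
    rw [← Ideal.Quotient.algebraMap_eq, algebraMap_smul, algebraMap_smul, TensorProduct.smul_tmul]⟩
  have h1 : LCI.IsLCI K (K ⊗[pb.ResidueField] (pb.Fiber A₀)) :=
    KRIdeal.isLCI_baseChange _ _ K (isLCI_of_isLCIOver (h.2.2 ⟨pb, inferInstance⟩))
  have h2 := KRIdeal.isLCI_algEquiv (Algebra.TensorProduct.cancelBaseChange (R ⧸ I) pb.ResidueField K K A₀) h1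
  exact KRIdeal.isLCI_algEquiv (Algebra.TensorProduct.equivOfCompatibleSMul R (R ⧸ I) K K A₀) h2

set_option maxHeartbeats 1600000 in
/-- Syntomic algebras lift along surjections. -/
theorem exists_syntomic_lift {A₀ : Type u} [CommRing A₀] [Algebra (R ⧸ I) A₀] (h : Synt.IsSyntomic (R ⧸ I) A₀) :
    ∃ (A : Type u) (_ : CommRing A) (_ : Algebra R A), Synt.IsSyntomic R A ∧
      Nonempty ((A ⧸ I.map (algebraMap R A)) ≃ₐ[R ⧸ I] A₀) := by
  classical
  letI : Algebra R A₀ := ((algebraMap (R ⧸ I) A₀).comp (Ideal.Quotient.mk I)).toAlgebra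
  haveI : IsScalarTower R (R ⧸ I) A₀ := IsScalarTower.of_algebraMap_eq fun r => rfl
  haveI := h.1
  haveI := h.2.1
  obtain ⟨n, π₀, hπ₀, hfg⟩ := Algebra.FinitePresentation.out (R := R ⧸ I) (A := A₀)
  obtain ⟨m, f₀, M₀, hf₀, hrel₀, hsplit₀⟩ := exists_splitting h π₀ hπ₀ hfg
  let μ := MvPolynomial.map (σ := Fin n) (Ideal.Quotient.mk I)
  have hμs : Function.Surjective μ := MvPolynomial.map_surjective _ Ideal.Quotient.mk_surjective
  let P := MvPolynomial (Fin n) R
  let π : MvPolynomial (Fin n) R →ₐ[R] A₀ :=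
    (π₀.restrictScalars R).comp (MvPolynomial.mapAlgHom (Algebra.ofId R (R ⧸ I)))
  have hπa : ∀ z, π z = π₀ (μ z) := fun z => rfl
  have hπ : Function.Surjective π := hπ₀.comp hμs
  set J := RingHom.ker π.toRingHom with hJdef
  have hJμ : ∀ z, z ∈ J ↔ μ z ∈ RingHom.ker π₀.toRingHom := fun z => Iff.rfl
  have hμker : ∀ z, μ z = 0 ↔ z ∈ I.map (algebraMap R (MvPolynomial (Fin n) R)) := fun z => by
    rw [MvPolynomial.algebraMap_eq, MvPolynomial.mem_map_C_iff, MvPolynomial.ext_iff]
    simp [μ, MvPolynomial.coeff_map, Ideal.Quotient.eq_zero_iff_mem]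
  choose f hf using fun j => hμs (f₀ j)
  choose M hM using fun j i => hμs (M₀ j i)
  have hIJ : I.map (algebraMap R (MvPolynomial (Fin n) R)) ≤ J := fun z hz => by
    rw [hJμ, (hμker z).2 hz]; exact zero_mem _
  have hfJ : ∀ j, f j ∈ J := fun j => by rw [hJμ, hf, ← hf₀]; exact Ideal.subset_span ⟨j, rfl⟩
  have hJ : J = Ideal.span (Set.range f) ⊔ I.map (algebraMap R (MvPolynomial (Fin n) R)) := by
    refine le_antisymm (fun z hz => ?_) (sup_le (Ideal.span_le.2 (Set.range_subset_iff.2 hfJ)) hIJ)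
    rw [hJμ, ← hf₀, Ideal.mem_span_range_iff_exists_fun] at hz
    obtain ⟨a, ha⟩ := hz
    choose a' ha' using fun j => hμs (a j)
    rw [show z = (∑ j, a' j * f j) + (z - ∑ j, a' j * f j) by ring]
    refine Submodule.add_mem_sup (sum_mem fun j _ => Ideal.mul_mem_left _ _ (Ideal.subset_span ⟨j, rfl⟩)) ((hμker _).1 ?_)
    rw [map_sub, map_sum, ← ha, sub_eq_zero]
    exact Finset.sum_congr rfl fun j _ => by rw [map_mul, ha', hf]
  have hrelP : ∀ ρ : Fin m → MvPolynomial (Fin n) R, ∑ j, ρ j * f j ∈ I.map (algebraMap R (MvPolynomial (Fin n) R)) →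
      ∀ i, ∑ j, ρ j * M j i ∈ J := fun ρ hρ i => by
    rw [hJμ, map_sum]
    simp only [map_mul, hM]
    refine hrel₀ (fun j => μ (ρ j)) ?_ i
    have := (hμker _).2 hρ
    simpa [map_sum, hf] using this
  have hsplitP : ∀ j, ∃ a : Fin m → MvPolynomial (Fin n) R, (∀ i, a i ∈ J) ∧
      f j - ∑ i, M j i * f i - ∑ i, a i * f i ∈ I.map (algebraMap R (MvPolynomial (Fin n) R)) := fun j => by
    have h1 : μ (f j - ∑ i, M j i * f i) ∈ RingHom.ker π₀.toRingHom ^ 2 := by
      simpa [map_sum, hf, hM] using hsplit₀ j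
    rw [sq, ← hf₀, Ideal.span_mul_span', show Ideal.span (Set.range f₀ * Set.range f₀) = Ideal.span (Set.range fun il : Fin m × Fin m => f₀ il.1 * f₀ il.2) from congrArg _ (by
      ext z; simp [Set.mem_mul])] at h1
    obtain ⟨b, hb⟩ := Ideal.mem_span_range_iff_exists_fun.1 h1
    choose b' hb' using fun il => hμs (b il)
    refine ⟨fun i => ∑ k, b' (k, i) * f k, fun i => sum_mem fun k _ => J.mul_mem_left _ (hfJ k), (hμker _).1 ?_⟩
    rw [map_sub, ← hb, sub_eq_zero, map_sum, Fintype.sum_prod_type, Finset.sum_comm]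
    refine Finset.sum_congr rfl fun i _ => ?_
    simp only [map_mul, map_sum, hb', hf, Finset.sum_mul]
    exact Finset.sum_congr rfl fun k _ => by ring
  have hM2 : ∀ j i, (Matrix.of M * Matrix.of M - Matrix.of M) j i ∈ J := fun j i => by
    obtain ⟨a, ha, hmem⟩ := hsplitP j
    have h1 := hrelP (fun k => (if k = j then 1 else 0) - M j k - a k) (by
      simpa [sub_mul, Finset.sum_sub_distrib] using hmem) i
    simp [sub_mul, Finset.sum_sub_distrib] at h1
    have h2 : ∑ k, a k * M k i ∈ J := sum_mem fun k _ => J.mul_mem_right _ (ha k)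
    simp only [Matrix.sub_apply, Matrix.mul_apply, Matrix.of_apply]
    convert neg_mem (add_mem h1 h2) using 1
    ring
  obtain ⟨B, _, _, hEt, hbij, e, he, heM⟩ := exists_etale_idempotent J (Matrix.of M) hM2
  letI : Algebra R B := Algebra.compHom B (algebraMap R (MvPolynomial (Fin n) R))
  haveI : IsScalarTower R (MvPolynomial (Fin n) R) B := IsScalarTower.of_algebraMap_eq fun r => rfl
  haveI : Algebra.Smooth R (MvPolynomial (Fin n) R) := { }
  haveI : Algebra.Smooth R B := Algebra.Smooth.comp R (MvPolynomial (Fin n) R) B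
  haveI : Module.Flat (MvPolynomial (Fin n) R) B := Algebra.Smooth.flat _ _
  set ι := algebraMap (MvPolynomial (Fin n) R) B with hι
  let fB : Fin m → B := fun j => ι (f j)
  set JB := J.map ι with hJB
  have hmapI : (I.map (algebraMap R (MvPolynomial (Fin n) R))).map ι = I.map (algebraMap R B) := by
    rw [Ideal.map_map]; rfl
  have hJBeq : JB = Ideal.span (Set.range fB) ⊔ I.map (algebraMap R B) := by
    rw [hJB, hJ, Ideal.map_sup, Ideal.map_span, ← Set.range_comp, hmapI]; rfl
  have hfB : ∀ j, fB j ∈ JB := fun j => Ideal.mem_map_of_mem ι (hfJ j)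
  have hrelB : ∀ u : Fin m → B, ∑ j, u j * fB j ∈ I.map (algebraMap R B) → ∀ i, ∑ j, u j * e j i ∈ JB := by
    intro u hu i
    rw [← hmapI] at hu
    obtain ⟨l, a, z, ha, hsum⟩ := exists_sum_of_mem_map _ hu
    have hrel' : ∑ k : Fin m ⊕ Fin l, Sum.elim f a k • Sum.elim u (fun k => -z k) k = 0 := by
      rw [Fintype.sum_sum_type]
      simp only [Sum.elim_inl, Sum.elim_inr, smul_neg, Finset.sum_neg_distrib, ← hsum, add_neg_eq_zero]
      exact Finset.sum_congr rfl fun j _ => by rw [Algebra.smul_def, mul_comm]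
    obtain ⟨k, b, y, hy, hb⟩ := Module.Flat.isTrivialRelation_of_sum_smul_eq_zero (R := MvPolynomial (Fin n) R) (M := B) hrel'
    have hbJ : ∀ t, ∑ j, b (Sum.inl j) t * M j i ∈ J := fun t => hrelP _ (by
      have := hb t
      rw [Fintype.sum_sum_type] at this
      simp only [Sum.elim_inl, Sum.elim_inr] at this
      rw [show ∑ j, b (Sum.inl j) t * f j = -∑ x, a x * b (Sum.inr x) t by
        rw [eq_neg_iff_add_eq_zero, ← this]
        exact congrArg (· + _) (Finset.sum_congr rfl fun j _ => mul_comm _ _)]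
      exact neg_mem (sum_mem fun x _ => Ideal.mul_mem_right _ _ (ha x))) i
    have h2 : ∑ j, u j * ι (M j i) ∈ JB := by
      rw [show ∑ j, u j * ι (M j i) = ∑ t, ι (∑ j, b (Sum.inl j) t * M j i) * y t by
        simp only [show ∀ j, u j = ∑ t, b (Sum.inl j) t • y t from fun j => hy (Sum.inl j), Finset.sum_mul, map_sum,
          map_mul, Algebra.smul_def]
        rw [Finset.sum_comm]
        exact Finset.sum_congr rfl fun t _ => Finset.sum_congr rfl fun j _ => by ring]
      exact sum_mem fun t _ => JB.mul_mem_right _ (Ideal.mem_map_of_mem ι (hbJ t))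
    rw [show ∑ j, u j * e j i = ∑ j, u j * ι (M j i) + ∑ j, u j * (e j i - ι (M j i)) by
      rw [← Finset.sum_add_distrib]; exact Finset.sum_congr rfl fun j _ => by ring]
    exact add_mem h2 (sum_mem fun j _ => JB.mul_mem_left _ (heM j i))
  set G := e.mulVec fB with hG
  set K := Ideal.span (Set.range G) with hK
  have hGJ : ∀ j, G j ∈ JB := fun j => by
    simp only [hG, Matrix.mulVec, dotProduct]
    exact sum_mem fun i _ => JB.mul_mem_left _ (hfB i)
  have hKJ : K ≤ JB := Ideal.span_le.2 (Set.range_subset_iff.2 hGJ)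
  have hIB : I.map (algebraMap R B) ≤ JB := by rw [hJBeq]; exact le_sup_right
  have hfG : ∀ j, fB j - G j ∈ JB * JB ⊔ I.map (algebraMap R B) := fun j => by
    obtain ⟨a, ha, hmem⟩ := hsplitP j
    have h1 : ι (f j - ∑ i, M j i * f i - ∑ i, a i * f i) ∈ I.map (algebraMap R B) := hmapI ▸ Ideal.mem_map_of_mem ι hmem
    rw [show fB j - G j = ι (f j - ∑ i, M j i * f i - ∑ i, a i * f i) +
        ((∑ i, ι (a i) * fB i) + ∑ i, (ι (M j i) - e j i) * fB i) by
      simp only [hG, fB, Matrix.mulVec, dotProduct, map_sub, map_sum, map_mul, sub_mul, Finset.sum_sub_distrib]; ring]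
    refine add_mem (Ideal.mem_sup_right h1) (Ideal.mem_sup_left (add_mem (sum_mem fun i _ =>
      Ideal.mul_mem_mul (Ideal.mem_map_of_mem ι (ha i)) (hfB i)) (sum_mem fun i _ => Ideal.mul_mem_mul ?_ (hfB i))))
    rw [← neg_sub]; exact neg_mem (heM j i)
  -- the idempotent cutting off the extra components
  set mk := Ideal.Quotient.mk (K ⊔ I.map (algebraMap R B)) with hmk
  obtain ⟨r₀, hr₀, hr₀J⟩ : ∃ r₀, r₀ - 1 ∈ JB.map mk ∧ ∀ x ∈ JB.map mk, r₀ * x = 0 := by
    have hN : JB.map mk = Ideal.span (Set.range (mk ∘ fB)) := by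
      rw [hJBeq, Ideal.map_sup, Ideal.map_span, ← Set.range_comp, sup_eq_left]
      refine Ideal.map_le_iff_le_comap.2 fun x hx => ?_
      rw [Ideal.mem_comap, hmk, Ideal.Quotient.eq_zero_iff_mem.2 (Ideal.mem_sup_right hx)]
      exact zero_mem _
    have hfgN : (JB.map mk).FG := hN ▸ ⟨(Set.finite_range (mk ∘ fB)).toFinset, by rw [Set.Finite.coe_toFinset]⟩
    refine Submodule.exists_sub_one_mem_and_smul_eq_zero_of_fg_of_le_smul (JB.map mk) _ hfgN ?_
    rw [smul_eq_mul, ← Ideal.map_mul]
    conv_lhs => rw [hN]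
    refine Ideal.span_le.2 ?_
    rintro _ ⟨j, rfl⟩
    obtain ⟨x, hx, y, hy, hxy⟩ := Submodule.mem_sup.1 (hfG j)
    show mk (fB j) ∈ _
    have : mk (fB j) = mk x := by
      rw [hmk, Ideal.Quotient.eq, show fB j - x = G j + y by linear_combination -hxy]
      exact Submodule.add_mem_sup (Ideal.subset_span ⟨j, rfl⟩) hy
    rw [this]
    exact Ideal.mem_map_of_mem mk hx
  obtain ⟨e₀, rfl⟩ := Ideal.Quotient.mk_surjective r₀
  have he₀ : ∀ x ∈ JB, e₀ * x ∈ K ⊔ I.map (algebraMap R B) := fun x hx => by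
    rw [← Ideal.Quotient.eq_zero_iff_mem, map_mul]
    exact hr₀J _ (Ideal.mem_map_of_mem mk hx)
  have he₀J : e₀ - 1 ∈ JB := by
    obtain ⟨x, hx, hxe⟩ := (Ideal.mem_map_iff_of_surjective mk Ideal.Quotient.mk_surjective).1
      (show mk (e₀ - 1) ∈ JB.map mk by rw [map_sub, map_one]; exact hr₀)
    rw [hmk, Ideal.Quotient.eq] at hxe
    have : x - (e₀ - 1) ∈ JB := (sup_le hKJ hIB) hxe
    simpa using sub_mem hx this
  -- the map to `A₀`
  let E := RingEquiv.ofBijective (algebraMap (MvPolynomial (Fin n) R ⧸ J) (B ⧸ JB)) hbij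
  let qπ : (MvPolynomial (Fin n) R ⧸ J) ≃ₐ[R] A₀ := Ideal.quotientKerAlgEquivOfSurjective hπ
  let ψ : B →ₐ[R] A₀ :=
    { (qπ.toRingEquiv.toRingHom.comp E.symm.toRingHom).comp (Ideal.Quotient.mk JB) with
      commutes' := fun r => by
        show qπ (E.symm (Ideal.Quotient.mk JB (ι (algebraMap R _ r)))) = algebraMap R A₀ r
        rw [show Ideal.Quotient.mk JB (ι (algebraMap R (MvPolynomial (Fin n) R) r)) =
          E (algebraMap R _ r) from rfl, RingEquiv.symm_apply_apply, AlgEquiv.commutes] }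
  have hψs : Function.Surjective ψ := qπ.surjective.comp (E.symm.surjective.comp Ideal.Quotient.mk_surjective)
  have hψker : RingHom.ker ψ.toRingHom = JB := by
    ext x
    show qπ (E.symm (Ideal.Quotient.mk JB x)) = 0 ↔ x ∈ JB
    rw [EmbeddingLike.map_eq_zero_iff, EmbeddingLike.map_eq_zero_iff, Ideal.Quotient.eq_zero_iff_mem]
  let qψ : (B ⧸ JB) ≃ₐ[R] A₀ :=
    (Ideal.quotientEquivAlgOfEq R hψker.symm).trans (Ideal.quotientKerAlgEquivOfSurjective hψs)
  -- flatness of `A₀` over `R ⧸ I`
  have hmem : ∀ p : Ideal R, I ≤ p → ∀ x ∈ JB, x ∈ p.map (algebraMap R B) →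
      x ∈ p.map (algebraMap R B) * JB ⊔ I.map (algebraMap R B) := by
    intro p hIp x hx hxp
    obtain ⟨l, a, y, ha, rfl⟩ := exists_sum_of_mem_map _ hxp
    have h0 : ∑ k, Ideal.Quotient.mk I (a k) • ψ (y k) = 0 := by
      rw [← hψker] at hx
      rw [← show ψ (∑ k, a k • y k) = 0 from hx, map_sum]
      exact Finset.sum_congr rfl fun k _ => by rw [map_smul, ← Ideal.Quotient.algebraMap_eq, algebraMap_smul]
    obtain ⟨t, b, z, hz, hb⟩ := Module.Flat.isTrivialRelation_of_sum_smul_eq_zero (R := R ⧸ I) (M := A₀) h0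
    choose b' hb' using fun k j => Ideal.Quotient.mk_surjective (b k j)
    choose w hw using fun j => hψs (z j)
    have h1 : ∀ k, y k - ∑ j, b' k j • w j ∈ JB := fun k => by
      rw [← hψker]
      show ψ _ = 0
      rw [map_sub, map_sum, sub_eq_zero, show ψ (y k) = _ from hz k]
      exact Finset.sum_congr rfl fun j _ => by rw [map_smul, hw, ← hb', ← Ideal.Quotient.algebraMap_eq, algebraMap_smul]
    rw [show ∑ k, a k • y k = (∑ k, a k • (y k - ∑ j, b' k j • w j)) + ∑ j, (∑ k, a k * b' k j) • w j by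
      simp only [smul_sub, Finset.smul_sum, smul_smul, Finset.sum_sub_distrib, Finset.sum_smul]
      rw [Finset.sum_comm (f := fun j k => (a k * b' k j) • w j)]; abel]
    refine Submodule.add_mem_sup (sum_mem fun k _ => ?_) (sum_mem fun j _ => ?_)
    · rw [Algebra.smul_def]; exact Ideal.mul_mem_mul (Ideal.mem_map_of_mem _ (ha k)) (h1 k)
    · rw [Algebra.smul_def]
      refine Ideal.mul_mem_right _ _ (Ideal.mem_map_of_mem _ ?_)
      rw [← Ideal.Quotient.eq_zero_iff_mem, map_sum]
      simp only [map_mul, hb']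
      exact hb j
  -- the lifted algebra
  let T := B ⧸ K
  let ψT : T →ₐ[R] A₀ := Ideal.Quotient.liftₐ K ψ fun x hx => hψker.ge (hKJ hx)
  have hψT : ∀ x, ψT (Ideal.Quotient.mk K x) = ψ x := fun x => rfl
  have hψe₀ : ψT (Ideal.Quotient.mk K e₀) = 1 := by
    have h1 : ψ (e₀ - 1) = 0 := hψker.ge he₀J
    rw [map_sub, map_one, sub_eq_zero] at h1
    exact h1
  let A := Localization.Away (Ideal.Quotient.mk K e₀)
  let Ψ : A →ₐ[R] A₀ := IsLocalization.liftAlgHom (M := Submonoid.powers (Ideal.Quotient.mk K e₀)) (f := ψT) (by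
    rintro ⟨_, k, rfl⟩
    rw [map_pow, hψe₀]; exact isUnit_one.pow k)
  have hΨ : ∀ x : B, Ψ (algebraMap T A (Ideal.Quotient.mk K x)) = ψ x := fun x => IsLocalization.lift_eq _ _
  have hΨs : Function.Surjective Ψ := fun y => by
    obtain ⟨x, rfl⟩ := hψs y
    exact ⟨_, hΨ x⟩
  have hIA : ∀ x ∈ I.map (algebraMap R B), algebraMap T A (Ideal.Quotient.mk K x) ∈ I.map (algebraMap R A) := fun x hx => by
    have h1 := Ideal.mem_map_of_mem ((algebraMap T A).comp (Ideal.Quotient.mk K)) hx
    rw [Ideal.map_map] at h1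
    exact h1
  have hΨker : RingHom.ker Ψ.toRingHom = I.map (algebraMap R A) := by
    refine le_antisymm (fun y hy => ?_) (Ideal.map_le_iff_le_comap.2 fun r hr => ?_)
    · obtain ⟨k, t, hkt⟩ := IsLocalization.Away.surj (Ideal.Quotient.mk K e₀) y
      obtain ⟨x, rfl⟩ := Ideal.Quotient.mk_surjective t
      have hu : IsUnit (algebraMap T A (Ideal.Quotient.mk K e₀)) := IsLocalization.Away.algebraMap_isUnit _
      have hx : x ∈ JB := by
        rw [← hψker]
        show ψ x = 0
        rw [← hΨ, ← hkt, map_mul, show Ψ y = 0 from hy, zero_mul]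
      rw [← Ideal.mul_unit_mem_iff_mem _ (hu.pow k), hkt, ← Ideal.unit_mul_mem_iff_mem _ hu, ← map_mul, ← map_mul]
      obtain ⟨c, hc, i, hi, hci⟩ := Submodule.mem_sup.1 (he₀ x hx)
      rw [← hci, map_add, Ideal.Quotient.eq_zero_iff_mem.2 hc, zero_add]
      exact hIA i hi
    · show Ψ (algebraMap R A r) = 0
      rw [AlgHom.commutes]
      show algebraMap (R ⧸ I) A₀ (Ideal.Quotient.mk I r) = 0
      rw [Ideal.Quotient.eq_zero_iff_mem.2 hr, map_zero]
  haveI : Algebra.FinitePresentation R B := Algebra.Smooth.finitePresentation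
  haveI : Algebra.FinitePresentation R T :=
    Algebra.FinitePresentation.quotient ⟨(Set.finite_range G).toFinset, by rw [Set.Finite.coe_toFinset]⟩
  haveI : Algebra.FinitePresentation T A := IsLocalization.Away.finitePresentation (Ideal.Quotient.mk K e₀)
  haveI : Algebra.FinitePresentation R A := Algebra.FinitePresentation.trans R T A
  have hlci₀ := fun (p : Ideal R) (_ : p.IsPrime) (hIp : I ≤ p) => nonempty_quotient_residue_equiv I h p hIp
  -- local syntomicity over `V(I)`
  let s : Set A := {g | Synt.IsSyntomic R (Localization.Away g)}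
  have hsup : Ideal.span s ⊔ I.map (algebraMap R A) = ⊤ := by
    by_contra hne
    obtain ⟨Q, hQ, hle⟩ := Ideal.exists_le_maximal _ hne
    have hQI : I.map (algebraMap R A) ≤ Q := le_sup_right.trans hle
    let p := Q.comap (algebraMap R A)
    have hIp : I ≤ p := Ideal.map_le_iff_le_comap.1 hQI
    let qT := Q.comap (algebraMap T A)
    let q := qT.comap (Ideal.Quotient.mk K)
    haveI : q.IsPrime := inferInstance
    have hJq : JB ≤ q := fun x hx => hQI (hΨker.le (show Ψ (algebraMap T A (Ideal.Quotient.mk K x)) = 0 by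
      rw [hΨ]; exact hψker.ge hx))
    have he₀q : e₀ ∉ q := fun hh => hQ.ne_top (Ideal.eq_top_of_isUnit_mem _ hh (IsLocalization.Away.algebraMap_isUnit _))
    haveI hflatL := flat_of_lifted_equations I fB e he JB hJBeq hrelB e₀ he₀ hmem q hJq he₀q fun p hp hIp =>
      KRIdeal.isLCI_algEquiv (Algebra.TensorProduct.congr (AlgEquiv.refl : p.ResidueField ≃ₐ[p.ResidueField] p.ResidueField) qψ).symm (hlci₀ p hp hIp)
    haveI : Module.Flat R (Localization.AtPrime Q) := by
      set L := Localization.AtPrime q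
      let πL : L →+* Localization.AtPrime qT := Localization.localRingHom q qT (Ideal.Quotient.mk K) rfl
      let πA : L →ₐ[R] Localization.AtPrime qT :=
        ⟨πL, fun r => by
          rw [IsScalarTower.algebraMap_apply R B L]
          show πL _ = _
          rw [Localization.localRingHom_to_map, IsScalarTower.algebraMap_apply R T (Localization.AtPrime qT)]
          rfl⟩
      have hsurj : Function.Surjective πA := RingHom.surjective_localRingHom_of_surjective _ Ideal.Quotient.mk_surjective qT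
      have hker : RingHom.ker πA = K.map (algebraMap B L) := by
        refine le_antisymm (fun x hx => ?_) (Ideal.map_le_iff_le_comap.2 fun a ha => ?_)
        · obtain ⟨⟨a, t⟩, rfl⟩ := IsLocalization.mk'_surjective q.primeCompl x
          have h1 : πL (algebraMap _ L a) = 0 := by
            rw [← IsLocalization.mk'_spec L a t, map_mul, show πL _ = 0 from hx, zero_mul]
          rw [Localization.localRingHom_to_map] at h1
          obtain ⟨⟨t', ht'⟩, hts⟩ := (IsLocalization.map_eq_zero_iff qT.primeCompl (Localization.AtPrime qT) _).1 h1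
          obtain ⟨t', rfl⟩ := Ideal.Quotient.mk_surjective t'
          rw [← map_mul] at hts
          have h2 : algebraMap _ L (t' * a) ∈ K.map (algebraMap B L) :=
            Ideal.mem_map_of_mem _ (Ideal.Quotient.eq_zero_iff_mem.1 hts)
          rw [map_mul, Ideal.unit_mul_mem_iff_mem _ (IsLocalization.map_units L (⟨t', ht'⟩ : q.primeCompl))] at h2
          exact IsLocalization.mk'_mem_iff.2 h2
        · show πL _ = 0
          rw [Localization.localRingHom_to_map, Ideal.Quotient.eq_zero_iff_mem.2 ha, map_zero]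
      haveI : Module.Flat R (Localization.AtPrime qT) :=
        Module.Flat.of_linearEquiv ((Ideal.quotientEquivAlgOfEq R hker.symm).trans
          (Ideal.quotientKerAlgEquivOfSurjective hsurj)).symm.toLinearEquiv
      haveI : IsLocalization.AtPrime (Localization.AtPrime Q) qT :=
        IsLocalization.isLocalization_isLocalization_atPrime_isLocalization (Submonoid.powers (Ideal.Quotient.mk K e₀)) (Localization.AtPrime Q) Q
      exact Module.Flat.of_linearEquiv
        ((IsLocalization.algEquiv qT.primeCompl (Localization.AtPrime Q) (Localization.AtPrime qT)).restrictScalars R).toLinearEquiv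
    have hlciA : LCI.IsLCI p.ResidueField (p.Fiber A) := by
      let χ := Algebra.TensorProduct.map (AlgHom.id p.ResidueField p.ResidueField) Ψ
      have hχs : Function.Surjective χ := fun y => by
        induction y using TensorProduct.induction_on with
        | zero => exact ⟨0, map_zero _⟩
        | add a b ha hb =>
          obtain ⟨a', ha'⟩ := ha; obtain ⟨b', hb'⟩ := hb
          exact ⟨a' + b', by rw [map_add, ha', hb']⟩
        | tmul k z =>
          obtain ⟨z, rfl⟩ := hΨs z
          exact ⟨k ⊗ₜ z, rfl⟩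
      have hχi : Function.Injective χ := by
        refine (injective_iff_map_eq_zero χ).2 fun y hy => ?_
        have h1 := Algebra.TensorProduct.lTensor_ker (A := p.ResidueField) Ψ hΨs
        have h2 : y ∈ RingHom.ker (Algebra.TensorProduct.map (AlgHom.id R p.ResidueField) Ψ) := hy
        rw [h1, show RingHom.ker Ψ = I.map (algebraMap R A) from hΨker] at h2
        replace h2 : y ∈ I.map ((Algebra.TensorProduct.includeRight : A →ₐ[R] p.Fiber A).toRingHom.comp (algebraMap R A)) := by
          rw [← Ideal.map_map]; exact h2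
        have h3 : I.map ((Algebra.TensorProduct.includeRight : A →ₐ[R] p.Fiber A).toRingHom.comp (algebraMap R A)) ≤ ⊥ := by
          refine Ideal.map_le_iff_le_comap.2 fun r hr => ?_
          show (1 : p.ResidueField) ⊗ₜ[R] algebraMap R A r = 0
          rw [Algebra.algebraMap_eq_smul_one, TensorProduct.tmul_smul, TensorProduct.smul_tmul', Algebra.smul_def, mul_one,
            Ideal.algebraMap_residueField_eq_zero.2 (hIp hr), TensorProduct.zero_tmul]
        simpa using h3 h2
      exact KRIdeal.isLCI_algEquiv (AlgEquiv.ofBijective χ ⟨hχi, hχs⟩).symm (hlci₀ p inferInstance hIp)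
    obtain ⟨g, hg, m', d, F, hF, ⟨eF⟩⟩ := exists_away_isRelGCI_of_isLCI_fiber p Q rfl hlciA
    exact hg (hle (Ideal.mem_sup_left (Ideal.subset_span (show g ∈ s from
      isSyntomic_congr eF.symm (isSyntomic_relGCIRing F hF)))))
  obtain ⟨hh, hhs, i, hi, hsum⟩ := Submodule.mem_sup.1 (hsup ▸ Submodule.mem_top : (1 : A) ∈ Ideal.span s ⊔ I.map (algebraMap R A))
  have hh1 : Ideal.Quotient.mk (I.map (algebraMap R A)) hh = 1 := by
    rw [← map_one (Ideal.Quotient.mk (I.map (algebraMap R A))), ← hsum, map_add, Ideal.Quotient.eq_zero_iff_mem.2 hi, add_zero]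
  let A' := Localization.Away hh
  haveI : Algebra.FinitePresentation A A' := IsLocalization.Away.finitePresentation hh
  have hspan : Ideal.span ((algebraMap A A') '' s) = ⊤ := by
    rw [← Ideal.map_span]
    exact Ideal.eq_top_of_isUnit_mem _ (Ideal.mem_map_of_mem _ hhs) (IsLocalization.Away.algebraMap_isUnit hh)
  have hloc : ∀ g ∈ s, Synt.IsSyntomic R (Localization.Away (algebraMap A A' g)) := by
    intro g hg
    let Ag := Localization.Away g
    haveI := hg.1
    let D := Localization.Away (algebraMap A Ag hh)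
    haveI : Module.Flat Ag D := IsLocalization.flat D (Submonoid.powers (algebraMap A Ag hh))
    haveI : Module.Flat R D := Module.Flat.trans R Ag D
    have h1 : LCI.IsLCI R D := KRIdeal.isLCI_trans R Ag D (isLCI_of_isSyntomic R Ag hg)
      (KRIdeal.isLCI_away Ag (algebraMap A Ag hh) D)
    haveI : IsLocalization.Away (hh * g) D := IsLocalization.Away.mul Ag D g hh
    haveI : IsLocalization.Away (hh * g) (Localization.Away (algebraMap A A' g)) := by
      rw [mul_comm]; exact IsLocalization.Away.mul A' _ hh g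
    exact isSyntomic_congr ((IsLocalization.algEquiv (Submonoid.powers (hh * g)) D (Localization.Away (algebraMap A A' g))).restrictScalars R)
      (isSyntomic_of_flat_isLCI R D h1)
  have hsyn : Synt.IsSyntomic R A' := by
    haveI : Module.Flat R A' := by
      refine Module.flat_of_isLocalized_maximal A' A' (fun M _ => Localization.AtPrime M)
        (fun M _ => Algebra.linearMap A' (Localization.AtPrime M)) ?_
      intro Q hQ
      obtain ⟨_, ⟨g, hg, rfl⟩, hgQ⟩ : ∃ x ∈ (algebraMap A A') '' s, x ∉ Q := by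
        by_contra hcon
        push Not at hcon
        exact hQ.ne_top (top_le_iff.1 (hspan ▸ Ideal.span_le.2 hcon))
      set y := algebraMap A A' g
      haveI := (hloc g hg).1
      have hle : Submonoid.powers y ≤ Q.primeCompl := Submonoid.powers_le.2 hgQ
      letI := IsLocalization.localizationAlgebraOfSubmonoidLe (Localization.Away y) (Localization.AtPrime Q) _ _ hle
      haveI := IsLocalization.localization_isScalarTower_of_submonoid_le (Localization.Away y) (Localization.AtPrime Q) _ _ hle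
      haveI := IsLocalization.isLocalization_of_submonoid_le (Localization.Away y) (Localization.AtPrime Q) _ _ hle
      haveI : IsScalarTower R (Localization.Away y) (Localization.AtPrime Q) := IsScalarTower.to₁₃₄ R A' _ _
      let fQ : A' →+* Localization.Away y := algebraMap A' _
      haveI : Module.Flat (Localization.Away y) (Localization.AtPrime Q) :=
        IsLocalization.flat _ (Q.primeCompl.map fQ)
      exact Module.Flat.trans R (Localization.Away y) (Localization.AtPrime Q)
    refine isSyntomic_of_flat_isLCI R A' (KRIdeal.isLCI_of_span R A' _ hspan ?_)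
    rintro _ ⟨g, hg, rfl⟩
    exact isLCI_of_isSyntomic R _ (hloc g hg)
  obtain ⟨e₂⟩ := nonempty_quotient_away_equiv I hh hh1
  let e₃ : (A' ⧸ I.map (algebraMap R A')) ≃ₐ[R] A₀ := e₂.trans
    ((Ideal.quotientEquivAlgOfEq R hΨker.symm).trans (Ideal.quotientKerAlgEquivOfSurjective hΨs))
  refine ⟨A', inferInstance, inferInstance, hsyn, ⟨AlgEquiv.ofRingEquiv (f := e₃.toRingEquiv) fun x => ?_⟩⟩
  obtain ⟨r, rfl⟩ := Ideal.Quotient.mk_surjective x
  exact e₃.commutes r

end Groth.Agent.RelGCILib
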