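import Groth.Agent.RelGCILib.Fibre
import Groth.Agent.FibreDim.Alg
import Groth.Agent.GeomUnib.EquidimLocal

/-!
# Shrinking a presentation to a relative global complete intersection
-/

set_option autoImplicit false
set_option linter.style.haveILetI false
universe u

open TensorProduct

namespace Groth.Agent.RelGCILib

section Good

variable {A B : Type u} [CommRing A] [CommRing B] [Algebra A B] [Algebra.FiniteType A B] (d : ℕ)

/-- Quasi-finite over affine space of dimension `d`. -/
def Good (q : PrimeSpectrum B) : Prop :=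
  ∃ φ : MvPolynomial (Fin d) A →ₐ[A] B, FibreDim.IsQFAt φ q.asIdeal

/-- The ideal of the complement of the good locus. -/
def badIdeal (A : Type u) [CommRing A] (B : Type u) [CommRing B] [Algebra A B] (d : ℕ) : Ideal B :=
  Ideal.span {r : B | ∀ q : PrimeSpectrum B, r ∉ q.asIdeal → Good (A := A) d q}

theorem good_iff (q : PrimeSpectrum B) : Good (A := A) d q ↔ ¬ badIdeal A B d ≤ q.asIdeal := by
  constructor
  · rintro ⟨φ, hφ⟩ hle
    letI : Algebra (MvPolynomial (Fin d) A) B := φ.toRingHom.toAlgebra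
    haveI : IsScalarTower A (MvPolynomial (Fin d) A) B := IsScalarTower.of_algebraMap_eq fun a => (φ.commutes a).symm
    haveI : Algebra.FiniteType (MvPolynomial (Fin d) A) B := Algebra.FiniteType.of_restrictScalars_finiteType A _ _
    haveI : Algebra.QuasiFiniteAt (MvPolynomial (Fin d) A) q.asIdeal := hφ
    obtain ⟨r, hr, h⟩ := GeomUnib.exists_basicOpen_quasiFiniteAt (R := MvPolynomial (Fin d) A) q.asIdeal
    exact hr (hle (Ideal.subset_span fun q' hq' => ⟨φ, h q'.asIdeal hq'⟩))
  · intro h
    obtain ⟨r, hr, hrq⟩ : ∃ r ∈ {r : B | ∀ q : PrimeSpectrum B, r ∉ q.asIdeal → Good (A := A) d q}, r ∉ q.asIdeal := by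
      by_contra hne
      push Not at hne
      exact h (Ideal.span_le.2 hne)
    exact hr q hrq

theorem good_of_dim (p : Ideal A) [p.IsPrime] (hdim : ringKrullDim (p.Fiber B) = (d : WithBot ℕ∞))
    (q : PrimeSpectrum B) (hq : q.asIdeal.comap (algebraMap A B) = p) : Good (A := A) d q := by
  haveI : Nontrivial (p.Fiber B) := by
    by_contra hn
    haveI := not_nontrivial_iff_subsingleton.1 hn
    rw [ringKrullDim_eq_bot_of_subsingleton] at hdim
    exact WithBot.bot_ne_coe hdim
  obtain ⟨n, φ, hn, hφ⟩ := FibreDim.exists_isQFAt (B := B) p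
  rw [hdim] at hn
  obtain rfl : d = n := by exact_mod_cast hn
  exact ⟨φ, hφ q.asIdeal hq⟩

/-- The fibres of a basic open inside the good locus have dimension at most `d`. -/
theorem dim_fiber_le {g : B} (hg : g ∈ badIdeal A B d) (C : Type u) [CommRing C] [Algebra A C] [Algebra B C]
    [IsScalarTower A B C] [IsLocalization.Away g C] (p : Ideal A) [p.IsPrime] :
    ringKrullDim (p.Fiber C) ≤ (d : WithBot ℕ∞) := by
  refine iSup_le fun l => ?_
  let pp : PrimeSpectrum A := ⟨p, inferInstance⟩
  let z : Fin (l.length + 1) → PrimeSpectrum C := fun i => ((PrimeSpectrum.preimageOrderIsoFiber A C pp).symm (l i)).1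
  have hz : ∀ i, (z i).asIdeal.comap (algebraMap A C) = p := fun i =>
    congrArg PrimeSpectrum.asIdeal ((PrimeSpectrum.preimageOrderIsoFiber A C pp).symm (l i)).2
  have hzm : StrictMono z := fun i j hij => (PrimeSpectrum.preimageOrderIsoFiber A C pp).symm.strictMono (l.strictMono hij)
  let w : Fin (l.length + 1) → PrimeSpectrum B := fun i => PrimeSpectrum.comap (algebraMap B C) (z i)
  have hwm : StrictMono w := fun i j hij => by
    show (z i).asIdeal.comap (algebraMap B C) < (z j).asIdeal.comap (algebraMap B C)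
    refine lt_of_le_of_ne (Ideal.comap_mono (le_of_lt (show (z i).asIdeal < (z j).asIdeal from hzm hij))) fun e => ?_
    exact (hzm hij).ne (PrimeSpectrum.localization_comap_injective C (Submonoid.powers g) (PrimeSpectrum.ext e))
  have hgood : Good (A := A) d (w (Fin.last _)) := by
    rw [good_iff]
    intro hle
    have hu : IsUnit (algebraMap B C g) := IsLocalization.map_units C (⟨g, Submonoid.mem_powers g⟩ : Submonoid.powers g)
    exact (z (Fin.last _)).isPrime.ne_top (Ideal.eq_top_of_isUnit_mem _ (hle hg) hu)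
  obtain ⟨φ, hφ⟩ := hgood
  letI : Algebra (MvPolynomial (Fin d) A) B := φ.toRingHom.toAlgebra
  haveI : IsScalarTower A (MvPolynomial (Fin d) A) B := IsScalarTower.of_algebraMap_eq fun a => (φ.commutes a).symm
  haveI : Algebra.QuasiFiniteAt (MvPolynomial (Fin d) A) (w (Fin.last _)).asIdeal := hφ
  have hover : ∀ i, PrimeSpectrum.comap (algebraMap (MvPolynomial (Fin d) A) B) (w i) ∈
      PrimeSpectrum.comap (algebraMap A (MvPolynomial (Fin d) A)) ⁻¹' {pp} := fun i => by
    refine PrimeSpectrum.ext ?_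
    show (((z i).asIdeal.comap (algebraMap B C)).comap (algebraMap (MvPolynomial (Fin d) A) B)).comap
      (algebraMap A (MvPolynomial (Fin d) A)) = p
    rw [Ideal.comap_comap, Ideal.comap_comap, ← IsScalarTower.algebraMap_eq, ← IsScalarTower.algebraMap_eq, hz]
  let v : Fin (l.length + 1) → PrimeSpectrum (p.Fiber (MvPolynomial (Fin d) A)) := fun i =>
    PrimeSpectrum.preimageOrderIsoFiber A (MvPolynomial (Fin d) A) pp ⟨_, hover i⟩
  have hvm : StrictMono v := fun i j hij => by
    refine (PrimeSpectrum.preimageOrderIsoFiber A (MvPolynomial (Fin d) A) pp).strictMono ?_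
    show (w i).asIdeal.comap (algebraMap (MvPolynomial (Fin d) A) B) < (w j).asIdeal.comap (algebraMap (MvPolynomial (Fin d) A) B)
    have hij' : (w i).asIdeal < (w j).asIdeal := hwm hij
    refine lt_of_le_of_ne (Ideal.comap_mono hij'.le) fun e => hij'.ne ?_
    haveI : Algebra.QuasiFiniteAt (MvPolynomial (Fin d) A) (w j).asIdeal :=
      Algebra.QuasiFiniteAt.of_le (show (w j).asIdeal ≤ (w (Fin.last _)).asIdeal from hwm.monotone (Fin.le_last j))
    exact Algebra.QuasiFiniteAt.eq_of_le_of_under_eq hij'.le e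
  refine (Order.LTSeries.length_le_krullDim (LTSeries.mk l.length v hvm)).trans (le_of_eq ?_)
  show ringKrullDim (p.Fiber (MvPolynomial (Fin d) A)) = _
  rw [ringKrullDim_eq_of_ringEquiv (MvPolynomial.algebraTensorAlgEquiv A p.ResidueField).toRingEquiv,
    MvPolynomial.ringKrullDim_of_isNoetherianRing, ringKrullDim_eq_zero_of_field]
  simp

/-- An element of an ideal which meets no point of the fibre can be chosen to be a unit on it. -/
theorem exists_isUnit_fiber (a : Ideal B) (p : Ideal A) [p.IsPrime]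
    (h : ∀ q : PrimeSpectrum B, q.asIdeal.comap (algebraMap A B) = p → ¬ a ≤ q.asIdeal) :
    ∃ g ∈ a, IsUnit ((1 : p.ResidueField) ⊗ₜ[A] g : p.Fiber B) := by
  let inc : B →+* p.Fiber B := Algebra.TensorProduct.includeRight.toRingHom
  have htop : a.map inc = ⊤ := by
    by_contra hne
    obtain ⟨M, hM, hle⟩ := Ideal.exists_le_maximal _ hne
    let pp : PrimeSpectrum A := ⟨p, inferInstance⟩
    let qq := (PrimeSpectrum.preimageOrderIsoFiber A B pp).symm ⟨M, hM.isPrime⟩
    exact h qq.1 (congrArg PrimeSpectrum.asIdeal qq.2) fun x hx => hle (Ideal.mem_map_of_mem _ hx)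
  have key : ∀ x ∈ a.map inc, ∃ r ∉ p, ∃ g ∈ a, r • x = (1 : p.ResidueField) ⊗ₜ[A] g := by
    intro x hx
    refine Submodule.span_induction (p := fun y _ => ∃ r ∉ p, ∃ g ∈ a, r • y = (1 : p.ResidueField) ⊗ₜ[A] g) ?_ ?_ ?_ ?_ hx
    · rintro _ ⟨g, hg, rfl⟩
      exact ⟨1, p.primeCompl.one_mem, g, hg, one_smul _ _⟩
    · exact ⟨1, p.primeCompl.one_mem, 0, a.zero_mem, by rw [smul_zero, TensorProduct.tmul_zero]⟩
    · rintro y y' _ _ ⟨r, hr, g, hg, hy⟩ ⟨r', hr', g', hg', hy'⟩
      refine ⟨r * r', p.primeCompl.mul_mem hr hr', r' • g + r • g',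
        add_mem (Submodule.smul_of_tower_mem _ _ hg) (Submodule.smul_of_tower_mem _ _ hg'), ?_⟩
      rw [TensorProduct.tmul_add, TensorProduct.tmul_smul, TensorProduct.tmul_smul, ← hy, ← hy', smul_add, smul_smul, smul_smul,
        mul_comm r' r]
    · rintro k y _ ⟨r, hr, g, hg, hy⟩
      obtain ⟨r', hr', s, hs⟩ := Ideal.Fiber.exists_smul_eq_one_tmul p k
      refine ⟨r' * r, p.primeCompl.mul_mem hr' hr, s * g, a.mul_mem_left s hg, ?_⟩
      rw [smul_eq_mul, ← smul_mul_smul_comm, hs, hy, Algebra.TensorProduct.tmul_mul_tmul, one_mul]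
  obtain ⟨r, hr, g, hg, hrg⟩ := key 1 (htop ▸ Submodule.mem_top)
  refine ⟨g, hg, ?_⟩
  rw [← hrg, ← Algebra.algebraMap_eq_smul_one, IsScalarTower.algebraMap_apply A p.ResidueField (p.Fiber B)]
  exact (isUnit_iff_ne_zero.2 fun h0 => hr (Ideal.algebraMap_residueField_eq_zero.1 h0)).map _

end Good

section Presentation

open MvPolynomial

variable {R : Type u} [CommRing R] {n c : ℕ} (F : Fin c → MvPolynomial (Fin n) R) (h : MvPolynomial (Fin n) R)

/-- The equations of the localisation at `h`. -/
noncomputable abbrev awaySeq : Fin (c + 1) → MvPolynomial (Fin (n + 1)) R :=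
  Fin.snoc (fun i => rename Fin.castSucc (F i)) (rename Fin.castSucc h * X (Fin.last n) - 1)

theorem nonempty_away_equiv :
    Nonempty (Localization.Away (Ideal.Quotient.mk (Ideal.span (Set.range F)) h) ≃ₐ[R]
      Synt.RelGCIRing R (n + 1) (c + 1) (awaySeq F h)) := by
  set g := Ideal.Quotient.mk (Ideal.span (Set.range F)) h
  let v : Fin (n + 1) → Localization.Away g :=
    Fin.snoc (fun i => algebraMap _ (Localization.Away g) (Ideal.Quotient.mk (Ideal.span (Set.range F)) (X i)))
      (IsLocalization.Away.invSelf g)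
  have hv : (aeval v).comp (rename Fin.castSucc) =
      (IsScalarTower.toAlgHom R (Synt.RelGCIRing R n c F) (Localization.Away g)).comp
        (Ideal.Quotient.mkₐ R (Ideal.span (Set.range F))) :=
    algHom_ext fun i => by simp [v]
  have hv' : ∀ a, aeval v (rename Fin.castSucc a) =
      algebraMap _ (Localization.Away g) (Ideal.Quotient.mk (Ideal.span (Set.range F)) a) := fun a => DFunLike.congr_fun hv a
  let f₁ : Synt.RelGCIRing R (n + 1) (c + 1) (awaySeq F h) →ₐ[R] Localization.Away g :=
    Ideal.Quotient.liftₐ _ (aeval v) fun a ha => by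
      have : Ideal.span (Set.range (awaySeq F h)) ≤ RingHom.ker (aeval v).toRingHom := Ideal.span_le.2 (by
        rintro _ ⟨j, rfl⟩
        show aeval v (awaySeq F h j) = 0
        induction j using Fin.lastCases with
        | last => simp [awaySeq, hv', v, g, IsLocalization.Away.mul_invSelf]
        | cast j => simp [awaySeq, hv', Ideal.Quotient.eq_zero_iff_mem.2 (Ideal.subset_span (Set.mem_range_self j))])
      exact this ha
  let f₂ : Synt.RelGCIRing R n c F →ₐ[R] Synt.RelGCIRing R (n + 1) (c + 1) (awaySeq F h) :=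
    Ideal.Quotient.liftₐ _ ((Ideal.Quotient.mkₐ R _).comp (rename Fin.castSucc)) fun a ha => by
      have : Ideal.span (Set.range F) ≤ RingHom.ker ((Ideal.Quotient.mkₐ R (Ideal.span (Set.range (awaySeq F h)))).comp
          (rename Fin.castSucc)).toRingHom := Ideal.span_le.2 (by
        rintro _ ⟨j, rfl⟩
        exact Ideal.Quotient.eq_zero_iff_mem.2 (Ideal.subset_span ⟨j.castSucc, by simp [awaySeq]⟩))
      exact this ha
  have hunit : IsUnit (f₂ g) := by
    refine isUnit_iff_exists_inv.2 ⟨Ideal.Quotient.mk _ (X (Fin.last n)), ?_⟩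
    show Ideal.Quotient.mk _ (rename Fin.castSucc h) * _ = 1
    rw [← map_mul, ← map_one (Ideal.Quotient.mk _), Ideal.Quotient.eq]
    exact Ideal.subset_span ⟨Fin.last c, by simp [awaySeq]⟩
  let f₃ : Localization.Away g →ₐ[R] Synt.RelGCIRing R (n + 1) (c + 1) (awaySeq F h) :=
    IsLocalization.liftAlgHom (M := Submonoid.powers g) (f := f₂) (by
      rintro ⟨_, k, rfl⟩
      rw [map_pow]; exact hunit.pow k)
  have hf₃ : ∀ a, f₃ (algebraMap _ (Localization.Away g) a) = f₂ a := fun a => IsLocalization.lift_eq _ a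
  refine ⟨AlgEquiv.ofAlgHom f₃ f₁ ?_ ?_⟩
  · refine Ideal.Quotient.algHom_ext _ (algHom_ext fun j => ?_)
    induction j using Fin.lastCases with
    | cast j => simp [f₁, v, hf₃, f₂]
    | last =>
      have h1 : f₂ g * f₃ (IsLocalization.Away.invSelf g) = 1 := by
        rw [← hf₃, ← map_mul, IsLocalization.Away.mul_invSelf, map_one]
      have h2 : f₂ g * Ideal.Quotient.mk _ (X (Fin.last n)) = 1 := by
        show Ideal.Quotient.mk _ (rename Fin.castSucc h) * _ = 1
        rw [← map_mul, ← map_one (Ideal.Quotient.mk _), Ideal.Quotient.eq]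
        exact Ideal.subset_span ⟨Fin.last c, by simp [awaySeq]⟩
      simpa [f₁, v] using hunit.mul_left_cancel (h1.trans h2.symm)
  · refine IsLocalization.algHom_ext (Submonoid.powers g) (Ideal.Quotient.algHom_ext _ (algHom_ext fun j => ?_))
    show f₁ (f₃ (algebraMap (Synt.RelGCIRing R n c F) (Localization.Away g) (Ideal.Quotient.mk _ (X j)))) =
      algebraMap (Synt.RelGCIRing R n c F) (Localization.Away g) (Ideal.Quotient.mk _ (X j))
    rw [hf₃]
    simp [f₂, f₁, v]

/-- The presentation of a basic open inside the good locus is a relative global complete intersection. -/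
theorem isRelGCI_away (hcn : c ≤ n)
    (hh : Ideal.Quotient.mk (Ideal.span (Set.range F)) h ∈ badIdeal R (Synt.RelGCIRing R n c F) (n - c)) :
    Synt.IsRelGCI R (n + 1) (c + 1) (awaySeq F h) := by
  intro p hp
  obtain ⟨e⟩ := nonempty_away_equiv F h
  refine ⟨by omega, le_antisymm ?_ ?_⟩
  · rw [show n + 1 - (c + 1) = n - c by omega,
      ringKrullDim_eq_of_ringEquiv (Algebra.TensorProduct.congr (AlgEquiv.refl (R := R) (A₁ := p.asIdeal.ResidueField)) e.symm).toRingEquiv]
    exact dim_fiber_le (n - c) hh _ p.asIdeal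
  · set J := Ideal.span (Set.range fun i => MvPolynomial.map (algebraMap R p.asIdeal.ResidueField) (awaySeq F h i))
    have eJ : (MvPolynomial (Fin (n + 1)) p.asIdeal.ResidueField ⧸ J) ≃+* p.asIdeal.Fiber (Synt.RelGCIRing R (n + 1) (c + 1) (awaySeq F h)) :=
      (Ideal.quotEquivOfEq (ker_fibrePres (awaySeq F h) p.asIdeal).symm).trans
        (RingHom.quotientKerEquivOfSurjective (fibrePres_surjective (awaySeq F h) p.asIdeal))
    rw [← ringKrullDim_eq_of_ringEquiv eJ]
    haveI : Nontrivial (MvPolynomial (Fin (n + 1)) p.asIdeal.ResidueField ⧸ J) := eJ.toEquiv.nontrivial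
    obtain ⟨Q, hQ⟩ := Ideal.nonempty_minimalPrimes (Ideal.Quotient.nontrivial_iff.1 ‹Nontrivial (_ ⧸ J)›)
    haveI := hQ.isPrime
    have h1 : Q.height ≤ ((c + 1 : ℕ) : ℕ∞) := by
      refine (Ideal.height_le_card_of_mem_minimalPrimes_span (Set.finite_range _) hQ).trans ?_
      exact Nat.cast_le.2 ((Finite.card_range_le _).trans (le_of_eq (Nat.card_fin _)))
    have h2 := (GeomUnib.le_height_add_dim p.asIdeal.ResidueField (n + 1) Q).trans
      (add_le_add (WithBot.coe_le_coe.2 h1) (ringKrullDim_le_of_surjective (Ideal.Quotient.factor hQ.le)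
        (Ideal.Quotient.factor_surjective hQ.le)))
    generalize ringKrullDim (MvPolynomial (Fin (n + 1)) p.asIdeal.ResidueField ⧸ J) = D at h2 ⊢
    induction D with
    | bot => simp at h2
    | coe D =>
      rcases eq_or_ne D ⊤ with rfl | hD
      · exact le_top
      lift D to ℕ using hD
      have h3 : ((n + 1 : ℕ) : WithBot ℕ∞) ≤ ((c + 1 + D : ℕ) : WithBot ℕ∞) := by
        rw [Nat.cast_add (c + 1) D]; exact h2
      have h4 := Nat.cast_le.1 h3
      exact Nat.cast_le.2 (show n + 1 - (c + 1) ≤ D by omega)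

end Presentation

end Groth.Agent.RelGCILib
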