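import Groth.Agent.RelGCILib.Main

/-!
# The fibres of a presentation and syntomicity of relative global complete intersections
-/

set_option autoImplicit false
set_option linter.style.haveILetI false
universe u

open TensorProduct

namespace Groth.Agent.RelGCILib

variable {R : Type u} [CommRing R] {n c : ℕ} (F : Fin c → MvPolynomial (Fin n) R) (p : Ideal R) [p.IsPrime]

/-- The presentation of a fibre. -/
noncomputable def fibrePres : MvPolynomial (Fin n) p.ResidueField →ₐ[p.ResidueField] p.Fiber (Synt.RelGCIRing R n c F) :=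
  MvPolynomial.aeval fun i =>
    (1 : p.ResidueField) ⊗ₜ[R] (Ideal.Quotient.mk (Ideal.span (Set.range F)) (MvPolynomial.X i) : Synt.RelGCIRing R n c F)

theorem fibrePres_map (z : MvPolynomial (Fin n) R) :
    fibrePres F p (MvPolynomial.map (algebraMap R p.ResidueField) z) =
      (1 : p.ResidueField) ⊗ₜ Ideal.Quotient.mk (Ideal.span (Set.range F)) z := by
  induction z using MvPolynomial.induction_on with
  | C a =>
    rw [MvPolynomial.map_C, fibrePres, MvPolynomial.aeval_C, Algebra.TensorProduct.algebraMap_apply,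
      Algebra.algebraMap_self, RingHom.id_apply, Algebra.algebraMap_eq_smul_one, TensorProduct.smul_tmul]
    congr 1
    exact (Algebra.algebraMap_eq_smul_one (A := Synt.RelGCIRing R n c F) a).symm
  | add a b ha hb => simp only [map_add, ha, hb, TensorProduct.tmul_add]
  | mul_X a i ha =>
    simp only [map_mul, MvPolynomial.map_X, ha]
    simp [fibrePres]

theorem fibrePres_surjective : Function.Surjective (fibrePres F p) := by
  intro y
  induction y using TensorProduct.induction_on with
  | zero => exact ⟨0, map_zero _⟩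
  | add a b ha hb =>
    obtain ⟨a', ha'⟩ := ha; obtain ⟨b', hb'⟩ := hb
    exact ⟨a' + b', by rw [map_add, ha', hb']⟩
  | tmul k z =>
    obtain ⟨z, rfl⟩ := Ideal.Quotient.mk_surjective z
    refine ⟨k • MvPolynomial.map (algebraMap R p.ResidueField) z, ?_⟩
    rw [map_smul, fibrePres_map, TensorProduct.smul_tmul', smul_eq_mul, mul_one]

theorem ker_fibrePres : RingHom.ker (fibrePres F p).toRingHom =
    Ideal.span (Set.range fun i => MvPolynomial.map (algebraMap R p.ResidueField) (F i)) := by
  set J := Ideal.span (Set.range fun i => MvPolynomial.map (algebraMap R p.ResidueField) (F i))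
  refine le_antisymm (fun y hy => ?_) (Ideal.span_le.2 ?_)
  · let f₀ : MvPolynomial (Fin n) R →ₐ[R] MvPolynomial (Fin n) p.ResidueField ⧸ J :=
      (Ideal.Quotient.mkₐ R J).comp (MvPolynomial.mapAlgHom (Algebra.ofId R p.ResidueField))
    let f₁ : Synt.RelGCIRing R n c F →ₐ[R] MvPolynomial (Fin n) p.ResidueField ⧸ J :=
      Ideal.Quotient.liftₐ _ f₀ fun a ha => by
        refine Ideal.Quotient.eq_zero_iff_mem.2 ?_
        have : Ideal.span (Set.range F) ≤ J.comap (MvPolynomial.map (algebraMap R p.ResidueField)) :=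
          Ideal.span_le.2 (by rintro _ ⟨i, rfl⟩; exact Ideal.subset_span ⟨i, rfl⟩)
        exact this ha
    let g : p.Fiber (Synt.RelGCIRing R n c F) →ₐ[p.ResidueField] MvPolynomial (Fin n) p.ResidueField ⧸ J :=
      Algebra.TensorProduct.lift (Algebra.ofId p.ResidueField _) f₁ fun _ _ => Commute.all _ _
    have hg : g.comp (fibrePres F p) = Ideal.Quotient.mkₐ p.ResidueField J :=
      MvPolynomial.algHom_ext fun i => by simp [g, f₁, f₀, fibrePres]
    have h0 := DFunLike.congr_fun hg y
    rw [AlgHom.comp_apply, show fibrePres F p y = 0 from hy, map_zero, Ideal.Quotient.mkₐ_eq_mk] at h0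
    exact Ideal.Quotient.eq_zero_iff_mem.1 h0.symm
  · rintro _ ⟨i, rfl⟩
    show fibrePres F p _ = 0
    rw [fibrePres_map, Ideal.Quotient.eq_zero_iff_mem.2 (Ideal.subset_span (Set.mem_range_self i)), TensorProduct.tmul_zero]

/-- A ring isomorphic to a global complete intersection is one. -/
theorem isGlobalCI_of_equiv {k S S' : Type u} [Field k] [CommRing S] [CommRing S'] [Algebra k S] [Algebra k S']
    (e : S ≃ₐ[k] S') (h : Synt.IsGlobalCI k S) : Synt.IsGlobalCI k S' := by
  rcases h with h | ⟨m, d, hd, φ, r, hφ, hker, hdim⟩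
  · exact Or.inl e.toEquiv.symm.subsingleton
  refine Or.inr ⟨m, d, hd, e.toAlgHom.comp φ, r, e.surjective.comp hφ, ?_, (ringKrullDim_eq_of_ringEquiv e.toRingEquiv).symm.trans hdim⟩
  rw [← hker]
  ext x
  simp [RingHom.mem_ker]

/-- Flatness of a relative global complete intersection. -/
theorem flat_relGCIRing (h : Synt.IsRelGCI R n c F) : Module.Flat R (Synt.RelGCIRing R n c F) := by
  refine Module.flat_of_isLocalized_maximal (Synt.RelGCIRing R n c F) (Synt.RelGCIRing R n c F)
    (fun m _ => Localization.AtPrime m) (fun m _ => Algebra.linearMap _ _) ?_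
  intro m hm
  haveI : (m.comap (Ideal.Quotient.mk (Ideal.span (Set.range F)))).IsPrime := inferInstance
  set q := m.comap (Ideal.Quotient.mk (Ideal.span (Set.range F)))
  have hq : Ideal.span (Set.range F) ≤ q := fun x hx => by
    show Ideal.Quotient.mk _ x ∈ m
    rw [Ideal.Quotient.eq_zero_iff_mem.2 hx]
    exact m.zero_mem
  have hFq : ∀ b ∈ List.ofFn F, b ∈ q := fun b hb => by
    obtain ⟨j, rfl⟩ := List.mem_ofFn.1 hb
    exact hq (Ideal.subset_span (Set.mem_range_self j))
  let eT : LocalizedModule q.primeCompl (MvPolynomial (Fin n) R) ≃ₗ[MvPolynomial (Fin n) R] Localization.AtPrime q :=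
    IsLocalizedModule.iso q.primeCompl (Algebra.linearMap (MvPolynomial (Fin n) R) (Localization.AtPrime q))
  haveI : Module.Flat R (Localization.AtPrime q) := Module.Flat.trans R (MvPolynomial (Fin n) R) _
  obtain ⟨-, hfl⟩ := FibreReg.regular_and_flat_list (A := R) q (MvPolynomial (Fin n) R) (List.ofFn F) hFq
    (Module.Flat.of_linearEquiv (eT.restrictScalars R)) (isRegular_fibre F h q hq)
  have h1 := hfl c (by simp)
  have hl : ((Ideal.ofList ((List.ofFn F).take c) • ⊤ : Submodule (MvPolynomial (Fin n) R) (MvPolynomial (Fin n) R))) =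
      Ideal.span (Set.range F) := by
    rw [List.take_of_length_le (by simp), smul_eq_mul, Ideal.mul_top]
    exact congrArg Ideal.span (by ext; simp)
  let e0 := Submodule.quotEquivOfEq _ _ hl
  haveI h2 : Module.Flat R (LocalizedModule q.primeCompl (Synt.RelGCIRing R n c F)) :=
    Module.Flat.of_linearEquiv (LinearEquiv.ofBijective
      ((LocalizedModule.map q.primeCompl e0.symm.toLinearMap).restrictScalars R)
      ⟨LocalizedModule.map_injective _ _ e0.symm.injective, LocalizedModule.map_surjective _ _ e0.symm.surjective⟩)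
  have hsub : Algebra.algebraMapSubmonoid (Synt.RelGCIRing R n c F) q.primeCompl = m.primeCompl := by
    ext y
    constructor
    · rintro ⟨z, hz, rfl⟩; exact hz
    · intro hy
      obtain ⟨z, rfl⟩ := Ideal.Quotient.mk_surjective y
      exact ⟨z, hy, rfl⟩
  haveI : IsLocalization (Algebra.algebraMapSubmonoid (Synt.RelGCIRing R n c F) q.primeCompl) (Localization.AtPrime m) := by
    rw [hsub]; infer_instance
  haveI : IsLocalizedModule q.primeCompl (IsScalarTower.toAlgHom (MvPolynomial (Fin n) R) (Synt.RelGCIRing R n c F)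
      (Localization.AtPrime m)).toLinearMap := isLocalizedModule_iff_isLocalization.2 inferInstance
  let e1 := IsLocalizedModule.iso q.primeCompl (IsScalarTower.toAlgHom (MvPolynomial (Fin n) R) (Synt.RelGCIRing R n c F)
    (Localization.AtPrime m)).toLinearMap
  exact Module.Flat.of_linearEquiv (e1.restrictScalars R).symm

theorem isSyntomic_relGCIRing (h : Synt.IsRelGCI R n c F) : Synt.IsSyntomic R (Synt.RelGCIRing R n c F) := by
  refine ⟨flat_relGCIRing F h, Algebra.FinitePresentation.quotient ⟨(Set.finite_range F).toFinset, by simp⟩, fun p => ?_⟩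
  refine ⟨Algebra.FiniteType.of_surjective _ (fibrePres_surjective F p.asIdeal), fun Q => ⟨1, fun h1 =>
    Q.isPrime.ne_top ((Ideal.eq_top_iff_one _).2 h1), ?_⟩⟩
  let e := IsLocalization.atUnits (p.asIdeal.Fiber (Synt.RelGCIRing R n c F)) (Submonoid.powers 1)
    (S := Localization.Away (1 : p.asIdeal.Fiber (Synt.RelGCIRing R n c F)))
    (by rintro _ ⟨k, rfl⟩; exact isUnit_one.pow k)
  refine isGlobalCI_of_equiv (S := p.asIdeal.Fiber (Synt.RelGCIRing R n c F)) (e.restrictScalars p.asIdeal.ResidueField) ?_
  rcases subsingleton_or_nontrivial (p.asIdeal.Fiber (Synt.RelGCIRing R n c F)) with hs | hn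
  · exact Or.inl hs
  obtain ⟨hcn, hdim⟩ := h p hn
  exact Or.inr ⟨n, c, hcn, fibrePres F p.asIdeal, _, fibrePres_surjective F p.asIdeal, ker_fibrePres F p.asIdeal, hdim⟩

end Groth.Agent.RelGCILib
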