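import Groth.Prelude.Def_RegImm
import Groth.Agent.FibreReg.Main
import Groth.Agent.ProjCM.Core
import Groth.Agent.GeomUnib.DimFormula
import Groth.Agent.S12482
import Mathlib.RingTheory.TensorProduct.MvPolynomial
import Mathlib.RingTheory.LocalRing.ResidueField.Fiber

/-!
# Relative global complete intersections: regularity on the fibres and on the total ring
-/

set_option autoImplicit false
set_option linter.style.haveILetI false
universe u

open TensorProduct RingTheory.Sequence

namespace Groth.Agent.RelGCILib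

attribute [local instance] MvPolynomial.algebraMvPolynomial

variable {R : Type u} [CommRing R] {n c : ℕ}

/-- Clearing denominators in `κ(p)[x]`. -/
theorem exists_clear (p : Ideal R) [p.IsPrime] (y : MvPolynomial (Fin n) p.ResidueField) :
    ∃ (r : R) (z : MvPolynomial (Fin n) R), r ∉ p ∧
      algebraMap (MvPolynomial (Fin n) R) (MvPolynomial (Fin n) p.ResidueField) z =
        MvPolynomial.C (algebraMap R p.ResidueField r) * y := by
  induction y using MvPolynomial.induction_on with
  | C a =>
    obtain ⟨u, v, hv, rfl⟩ := IsFractionRing.div_surjective (A := R ⧸ p) a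
    obtain ⟨u, rfl⟩ := Ideal.Quotient.mk_surjective u
    obtain ⟨v, rfl⟩ := Ideal.Quotient.mk_surjective v
    have hv' : v ∉ p := fun h => nonZeroDivisors.ne_zero hv (Ideal.Quotient.eq_zero_iff_mem.2 h)
    refine ⟨v, MvPolynomial.C u, hv', ?_⟩
    rw [MvPolynomial.algebraMap_def, MvPolynomial.map_C, ← MvPolynomial.C_mul]
    congr 1
    have hne : algebraMap R p.ResidueField v ≠ 0 := fun h => hv' (Ideal.algebraMap_residueField_eq_zero.1 h)
    show algebraMap R p.ResidueField u = algebraMap R p.ResidueField v *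
      (algebraMap R p.ResidueField u / algebraMap R p.ResidueField v)
    rw [mul_div_cancel₀ _ hne]
  | add y y' hy hy' =>
    obtain ⟨r, z, hr, hz⟩ := hy
    obtain ⟨r', z', hr', hz'⟩ := hy'
    refine ⟨r * r', MvPolynomial.C r' * z + MvPolynomial.C r * z', p.primeCompl.mul_mem hr hr', ?_⟩
    simp only [map_add, map_mul, MvPolynomial.algebraMap_def, MvPolynomial.map_C] at hz hz' ⊢
    rw [hz, hz']; ring
  | mul_X y i hy =>
    obtain ⟨r, z, hr, hz⟩ := hy
    refine ⟨r, z * MvPolynomial.X i, hr, ?_⟩
    simp only [map_mul, MvPolynomial.algebraMap_def, MvPolynomial.map_X] at hz ⊢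
    rw [hz, mul_assoc]

/-- The localised fibre of a pushout square is the localisation of the pushout. -/
theorem nonempty_locFibre_equiv {R P K Q : Type u} [CommRing R] [CommRing P] [CommRing K] [CommRing Q]
    [Algebra R P] [Algebra R K] [Algebra R Q] [Algebra P Q] [Algebra K Q] [IsScalarTower R P Q] [IsScalarTower R K Q]
    [Algebra.IsPushout R P K Q] (q : Ideal P) [q.IsPrime] (L : Type u) [CommRing L] [Algebra Q L] [Algebra P L]
    [IsScalarTower P Q L] [IsLocalization (Algebra.algebraMapSubmonoid Q q.primeCompl) L] :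
    Nonempty (LocalizedModule q.primeCompl (P ⊗[R] K) ≃ₗ[P] L) := by
  haveI : IsLocalizedModule q.primeCompl (IsScalarTower.toAlgHom P Q L).toLinearMap :=
    isLocalizedModule_iff_isLocalization.2 inferInstance
  let e : P ⊗[R] K ≃ₗ[P] Q := (Algebra.IsPushout.equiv R P K Q).toLinearEquiv
  exact ⟨IsLocalizedModule.linearEquiv q.primeCompl (LocalizedModule.mkLinearMap q.primeCompl _)
    ((IsScalarTower.toAlgHom P Q L).toLinearMap ∘ₗ e.toLinearMap)⟩

variable (F : Fin c → MvPolynomial (Fin n) R)

/-- The dimension of the fibre presentation. -/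
theorem dim_quotient_le (h : Synt.IsRelGCI R n c F) (p : Ideal R) [p.IsPrime]
    (hJ : Ideal.span (Set.range fun i =>
      algebraMap (MvPolynomial (Fin n) R) (MvPolynomial (Fin n) p.ResidueField) (F i)) ≠ ⊤) :
    c ≤ n ∧ ringKrullDim (MvPolynomial (Fin n) p.ResidueField ⧸ Ideal.span (Set.range fun i =>
      algebraMap (MvPolynomial (Fin n) R) (MvPolynomial (Fin n) p.ResidueField) (F i))) ≤ ((n - c : ℕ) : WithBot ℕ∞) := by
  set J := Ideal.span (Set.range fun i =>
    algebraMap (MvPolynomial (Fin n) R) (MvPolynomial (Fin n) p.ResidueField) (F i)) with hJdef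
  let f₀ : MvPolynomial (Fin n) R →ₐ[R] MvPolynomial (Fin n) p.ResidueField ⧸ J :=
    (Ideal.Quotient.mkₐ R J).comp (IsScalarTower.toAlgHom R _ _)
  let f₁ : Synt.RelGCIRing R n c F →ₐ[R] MvPolynomial (Fin n) p.ResidueField ⧸ J :=
    Ideal.Quotient.liftₐ _ f₀ fun a ha => by
      refine Ideal.Quotient.eq_zero_iff_mem.2 ?_
      have : Ideal.span (Set.range F) ≤ J.comap (algebraMap (MvPolynomial (Fin n) R) _) :=
        Ideal.span_le.2 (by rintro _ ⟨i, rfl⟩; exact Ideal.subset_span ⟨i, rfl⟩)
      exact this ha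
  let g : p.Fiber (Synt.RelGCIRing R n c F) →ₐ[R] MvPolynomial (Fin n) p.ResidueField ⧸ J :=
    Algebra.TensorProduct.lift (IsScalarTower.toAlgHom R p.ResidueField _) f₁ fun _ _ => Commute.all _ _
  have hg : Function.Surjective g := by
    intro y
    obtain ⟨y, rfl⟩ := Ideal.Quotient.mk_surjective y
    induction y using MvPolynomial.induction_on with
    | C a => exact ⟨a ⊗ₜ 1, by simp [g]; rfl⟩
    | add a b ha hb =>
      obtain ⟨a', ha'⟩ := ha; obtain ⟨b', hb'⟩ := hb
      exact ⟨a' + b', by rw [map_add, ha', hb', map_add]⟩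
    | mul_X a i ha =>
      obtain ⟨a', ha'⟩ := ha
      refine ⟨a' * (1 ⊗ₜ Ideal.Quotient.mk _ (MvPolynomial.X i)), ?_⟩
      rw [map_mul, ha', map_mul]
      congr 1
      simp [g, f₁, f₀]
  haveI : Nontrivial (MvPolynomial (Fin n) p.ResidueField ⧸ J) := Ideal.Quotient.nontrivial_iff.2 hJ
  haveI : Nontrivial (p.Fiber (Synt.RelGCIRing R n c F)) := g.toRingHom.domain_nontrivial
  obtain ⟨h1, h2⟩ := h ⟨p, inferInstance⟩ inferInstance
  exact ⟨h1, (ringKrullDim_le_of_surjective g.toRingHom hg).trans_eq h2⟩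

set_option synthInstance.maxHeartbeats 200000 in
/-- The equations form a regular sequence on the localised fibre. -/
theorem isRegular_fibre (h : Synt.IsRelGCI R n c F) (q : Ideal (MvPolynomial (Fin n) R)) [q.IsPrime]
    (hq : Ideal.span (Set.range F) ≤ q) :
    IsRegular (FibreReg.LocFibre (A := R) (MvPolynomial (Fin n) R) q) (List.ofFn F) := by
  let p := q.comap (algebraMap R (MvPolynomial (Fin n) R))
  let ψ : (MvPolynomial (Fin n) p.ResidueField) →+* q.ResidueField := MvPolynomial.eval₂Hom
    (Ideal.ResidueField.map p q (algebraMap R (MvPolynomial (Fin n) R)) rfl) (fun i => algebraMap (MvPolynomial (Fin n) R) q.ResidueField (MvPolynomial.X i))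
  have hψ : ∀ z, ψ (algebraMap (MvPolynomial (Fin n) R) (MvPolynomial (Fin n) p.ResidueField) z) = algebraMap (MvPolynomial (Fin n) R) q.ResidueField z := fun z => by
    show (ψ.comp (MvPolynomial.map (algebraMap R p.ResidueField))) z = _
    refine RingHom.congr_fun (MvPolynomial.ringHom_ext (fun r => ?_) fun i => ?_) z
    · simp [ψ, ← Ideal.ResidueField.map_algebraMap p q (algebraMap R (MvPolynomial (Fin n) R)) rfl, MvPolynomial.algebraMap_eq]
    · simp [ψ]
  let Q0 := RingHom.ker ψ
  haveI : Q0.IsPrime := RingHom.ker_isPrime ψ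
  let L := Localization.AtPrime Q0
  have hmem : ∀ z : (MvPolynomial (Fin n) R), algebraMap (MvPolynomial (Fin n) R) (MvPolynomial (Fin n) p.ResidueField) z ∈ Q0 ↔ z ∈ q := fun z => by
    rw [RingHom.mem_ker, hψ, Ideal.algebraMap_residueField_eq_zero]
  haveI : IsLocalization (Algebra.algebraMapSubmonoid (MvPolynomial (Fin n) p.ResidueField) q.primeCompl) L := by
    refine (IsLocalization.iff_of_le_of_exists_dvd (S := L) _ Q0.primeCompl ?_ fun y hy => ?_).2 inferInstance
    · rintro _ ⟨z, hz, rfl⟩; exact fun h => hz ((hmem z).1 h)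
    · obtain ⟨r, z, hr, hz⟩ := exists_clear p y
      refine ⟨algebraMap (MvPolynomial (Fin n) R) (MvPolynomial (Fin n) p.ResidueField) z, ⟨z, fun hzq => ?_, rfl⟩, ⟨MvPolynomial.C (algebraMap R p.ResidueField r), by rw [hz, mul_comm]⟩⟩
      have h1 : algebraMap (MvPolynomial (Fin n) R) (MvPolynomial (Fin n) p.ResidueField) z ∈ Q0 := (hmem z).2 hzq
      rw [hz] at h1
      rcases ‹Q0.IsPrime›.mem_or_mem h1 with h2 | h2
      · have h3 : algebraMap (MvPolynomial (Fin n) R) (MvPolynomial (Fin n) p.ResidueField) (MvPolynomial.C r) ∈ Q0 := by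
          rw [MvPolynomial.algebraMap_def, MvPolynomial.map_C]; exact h2
        exact hr ((hmem _).1 h3)
      · exact hy h2
  -- the localised fibre
  obtain ⟨eL⟩ := nonempty_locFibre_equiv (R := R) (K := p.ResidueField) (Q := MvPolynomial (Fin n) p.ResidueField) q L
  rw [eL.isRegular_congr]
  haveI : IsRegularRing p.ResidueField := inferInstance
  haveI := Catenary.isCohenMacaulayRing_of_isRegularRing p.ResidueField
  haveI := Catenary.isCohenMacaulayRing_mvPolynomial p.ResidueField n
  haveI : LocCoh.IsCohenMacaulayLocalRing L :=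
    LocCoh.IsCohenMacaulayRing.isCohenMacaulayLocalRing_localization (R := (MvPolynomial (Fin n) p.ResidueField)) Q0
  have hm : ∀ r ∈ (List.ofFn F).map (algebraMap (MvPolynomial (Fin n) R) L), r ∈ IsLocalRing.maximalIdeal L := by
    intro r hr
    obtain ⟨_, ⟨i, rfl⟩, rfl⟩ : ∃ a ∈ Set.range F, algebraMap (MvPolynomial (Fin n) R) L a = r := by
      obtain ⟨a, ha, rfl⟩ := List.mem_map.1 hr
      exact ⟨a, by simpa using ha, rfl⟩
    rw [IsScalarTower.algebraMap_apply (MvPolynomial (Fin n) R) (MvPolynomial (Fin n) p.ResidueField) L, IsLocalization.AtPrime.to_map_mem_maximal_iff L Q0]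
    exact (hmem _).2 (hq (Ideal.subset_span ⟨i, rfl⟩))
  suffices hw : IsWeaklyRegular L ((List.ofFn F).map (algebraMap (MvPolynomial (Fin n) R) L)) by
    refine ⟨(isWeaklyRegular_map_algebraMap_iff L L (List.ofFn F)).1 hw, fun htop => ?_⟩
    have h2 := ((IsLocalRing.isRegular_iff_isWeaklyRegular_of_subset_maximalIdeal hm).2 hw).top_ne_smul
    refine h2 (Submodule.restrictScalars_injective (MvPolynomial (Fin n) R) _ _ ?_)
    rw [Submodule.restrictScalars_top, ← Ideal.map_ofList, Ideal.smul_restrictScalars, Submodule.restrictScalars_top]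
    exact htop
  refine ProjCM.isWeaklyRegular_of_height _ hm fun Qp hQp hQpm => ?_
  rw [List.length_map, List.length_ofFn, ← IsLocalization.height_under Q0.primeCompl Qp]
  haveI : (Qp.under (MvPolynomial (Fin n) p.ResidueField)).IsPrime := inferInstance
  set J := Ideal.span (Set.range fun i => algebraMap (MvPolynomial (Fin n) R) (MvPolynomial (Fin n) p.ResidueField) (F i)) with hJdef
  have hJQ : J ≤ Qp.under (MvPolynomial (Fin n) p.ResidueField) := Ideal.span_le.2 (by
    rintro _ ⟨i, rfl⟩
    show algebraMap (MvPolynomial (Fin n) p.ResidueField) L (algebraMap (MvPolynomial (Fin n) R) (MvPolynomial (Fin n) p.ResidueField) (F i)) ∈ Qp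
    rw [← IsScalarTower.algebraMap_apply]
    exact hQpm _ (List.mem_map_of_mem (by simp)))
  obtain ⟨hcn, hdim⟩ := dim_quotient_le F h p (ne_top_of_le_ne_top Ideal.IsPrime.ne_top' hJQ)
  have h1 := (GeomUnib.le_height_add_dim p.ResidueField n (Qp.under (MvPolynomial (Fin n) p.ResidueField))).trans
    (add_le_add le_rfl ((ringKrullDim_le_of_surjective (Ideal.Quotient.factor hJQ)
      (Ideal.Quotient.factor_surjective hJQ)).trans hdim))
  generalize (Qp.under (MvPolynomial (Fin n) p.ResidueField)).height = x at h1 ⊢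
  rcases eq_or_ne x ⊤ with rfl | hx
  · exact le_top
  lift x to ℕ using hx
  have h2 : (n : WithBot ℕ∞) ≤ ((x + (n - c) : ℕ) : WithBot ℕ∞) := by
    rw [Nat.cast_add]; exact h1
  have h3 := Nat.cast_le.1 h2
  exact_mod_cast (show c ≤ x by omega)

end Groth.Agent.RelGCILib
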