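import Groth.Agent.RelGCILib.Criterion
import Groth.Agent.KRIdeal.Immersion

/-!
# Flatness of lifted equations
-/

set_option autoImplicit false
set_option linter.style.haveILetI false
universe u

open TensorProduct

namespace Groth.Agent.RelGCILib

variable {R B : Type u} [CommRing R] [CommRing B] [Algebra R B]

/-- Elements of `B` vanishing in the fibre. -/
theorem exists_smul_mem_of_tmul_eq_zero [Algebra.FiniteType R B] (p : Ideal R) [p.IsPrime] {x : B}
    (hx : (1 : p.ResidueField) ⊗ₜ[R] x = 0) : ∃ r ∉ p, algebraMap R B r * x ∈ p.map (algebraMap R B) := by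
  obtain ⟨n, π, hπ⟩ := Algebra.FiniteType.iff_quotient_mvPolynomial''.1 ‹Algebra.FiniteType R B›
  obtain ⟨α, -, hker, hαmap⟩ := exists_fiber_pres p π hπ
  obtain ⟨z, rfl⟩ := hπ x
  have hz : MvPolynomial.map (algebraMap R p.ResidueField) z ∈ RingHom.ker α.toRingHom := by
    show α _ = 0
    rw [hαmap]; exact hx
  rw [hker] at hz
  obtain ⟨r, hr, w, hw, he⟩ := exists_clear_mem p _ hz
  have h2 : MvPolynomial.C r * z - w ∈ p.map (algebraMap R (MvPolynomial (Fin n) R)) :=
    mem_map_C_of_map_eq_zero p (by rw [map_sub, map_mul (MvPolynomial.map _), MvPolynomial.map_C, he, sub_self])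
  have h3 := Ideal.mem_map_of_mem π.toRingHom h2
  rw [Ideal.map_map, show π.toRingHom.comp (algebraMap R (MvPolynomial (Fin n) R)) = algebraMap R B from
    RingHom.ext π.commutes, map_sub, map_mul] at h3
  refine ⟨r, hr, ?_⟩
  have hC : π.toRingHom (MvPolynomial.C r) = algebraMap R B r := π.commutes r
  rw [hC, show π.toRingHom w = 0 from hw, sub_zero] at h3
  exact h3

/-- The kernel of a surjection from a smooth algebra onto a local complete intersection. -/
theorem isKRI_ker_of_smooth {k C D : Type u} [CommRing k] [CommRing C] [CommRing D] [Algebra k C] [Algebra k D]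
    [Algebra.Smooth k C] (ψ : C →ₐ[k] D) (hψ : Function.Surjective ψ) (h : LCI.IsLCI k D) :
    LCI.IsKoszulRegularIdeal (RingHom.ker ψ.toRingHom) := by
  open AlgebraicGeometry CategoryTheory in
  haveI : Smooth (Spec.map (CommRingCat.ofHom (algebraMap k C))) :=
    (HasRingHomProperty.Spec_iff (P := @Smooth)).2 (RingHom.smooth_algebraMap.2 inferInstance)
  open AlgebraicGeometry CategoryTheory in
  have h2 : KRIdeal.SchLCI (Spec.map (CommRingCat.ofHom ψ.toRingHom)) := by
    refine KRIdeal.schLCI_of_comp _ (Spec.map (CommRingCat.ofHom (algebraMap k C))) ?_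
    rw [← Spec.map_comp, ← CommRingCat.ofHom_comp, HasRingHomProperty.Spec_iff (P := @KRIdeal.SchLCI)]
    show KRIdeal.RingLCI (ψ.toRingHom.comp (algebraMap k C))
    rw [show ψ.toRingHom.comp (algebraMap k C) = algebraMap k D from RingHom.ext ψ.commutes]
    exact KRIdeal.ringLCI_algebraMap.2 h
  exact KRIdeal.isKRI_of_ringLCI_surjective hψ
    ((AlgebraicGeometry.HasRingHomProperty.Spec_iff (P := @KRIdeal.SchLCI)).1 h2)

variable [Algebra.Smooth R B] (I : Ideal R)

set_option maxHeartbeats 1600000 in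
/-- Flatness of `B` modulo lifted equations at a point over `V(I)`. -/
theorem flat_of_lifted_equations {m : ℕ} (f : Fin m → B) (e : Matrix (Fin m) (Fin m) B) (he : IsIdempotentElem e)
    (J : Ideal B) (hJ : J = Ideal.span (Set.range f) ⊔ I.map (algebraMap R B))
    (hrel : ∀ u : Fin m → B, ∑ j, u j * f j ∈ I.map (algebraMap R B) → ∀ i, ∑ j, u j * e j i ∈ J)
    (e₀ : B) (he₀ : ∀ x ∈ J, e₀ * x ∈ Ideal.span (Set.range (e.mulVec f)) ⊔ I.map (algebraMap R B))
    (hmem : ∀ (p : Ideal R), I ≤ p → ∀ x ∈ J, x ∈ p.map (algebraMap R B) →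
      x ∈ p.map (algebraMap R B) * J ⊔ I.map (algebraMap R B))
    (q : Ideal B) [q.IsPrime] (hJq : J ≤ q) (he₀q : e₀ ∉ q)
    (hlci : ∀ (p : Ideal R) [p.IsPrime], I ≤ p → LCI.IsLCI p.ResidueField (p.Fiber (B ⧸ J))) :
    Module.Flat R (Localization.AtPrime q ⧸
      (Ideal.span (Set.range (e.mulVec f))).map (algebraMap B (Localization.AtPrime q))) := by
  classical
  haveI : Algebra.FinitePresentation R B := Algebra.Smooth.finitePresentation
  haveI : Module.Flat R B := Algebra.Smooth.flat R B
  set G := e.mulVec f with hG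
  set K := Ideal.span (Set.range G) with hK
  set L := Localization.AtPrime q with hL
  let p := q.comap (algebraMap R B)
  have hIJ : I.map (algebraMap R B) ≤ J := by rw [hJ]; exact le_sup_right
  have hfJ : ∀ i, f i ∈ J := fun i => by rw [hJ]; exact Ideal.mem_sup_left (Ideal.subset_span ⟨i, rfl⟩)
  have hGJ : ∀ i, G i ∈ J := fun i => by
    simp only [hG, Matrix.mulVec, dotProduct]
    exact sum_mem fun j _ => J.mul_mem_left _ (hfJ j)
  have hIp : I ≤ p := fun r hr => hJq (hIJ (Ideal.mem_map_of_mem _ hr))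
  have hee : ∀ j i, ∑ l, e j l * e l i = e j i := fun j i => congrFun (congrFun he j) i
  -- a selection of rows
  let v : Fin m → (Fin m → q.ResidueField) := fun j i => algebraMap B q.ResidueField (e j i)
  obtain ⟨κ₀, sel, hsel, hspan, hli⟩ := exists_linearIndependent' q.ResidueField v
  haveI : Fintype κ₀ := Fintype.ofInjective sel hsel
  let ev := Fintype.equivFin κ₀
  set r := Fintype.card κ₀
  let S : Fin r → Fin m := sel ∘ ev.symm
  have hliS : LinearIndependent q.ResidueField (v ∘ S) := hli.comp _ ev.symm.injective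
  have hspanS : ∀ j, v j ∈ Submodule.span q.ResidueField (Set.range (v ∘ S)) := fun j => by
    rw [show v ∘ S = (v ∘ sel) ∘ ev.symm from rfl, EquivLike.range_comp (v ∘ sel) ev.symm, hspan]
    exact Submodule.subset_span ⟨j, rfl⟩
  set F : Fin r → B := fun l => G (S l) with hF
  -- generation
  have hloc : K.map (algebraMap B L) ≤ (Ideal.span (Set.range F)).map (algebraMap B L) := by
    have hKfg : K.FG := ⟨(Set.finite_range G).toFinset, by rw [Set.Finite.coe_toFinset, hK]⟩
    refine Submodule.le_of_le_smul_of_le_jacobson_bot (I := q.map (algebraMap B L)) (hKfg.map _) ?_ ?_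
    · rw [IsLocalRing.jacobson_eq_maximalIdeal ⊥ bot_ne_top, Localization.AtPrime.map_eq_maximalIdeal]
    · rw [hK, Ideal.map_span, Ideal.span_le]
      rintro _ ⟨_, ⟨j, rfl⟩, rfl⟩
      obtain ⟨c, hc⟩ := (Submodule.mem_span_range_iff_exists_fun _).1 (hspanS j)
      obtain ⟨t, ht, y, hy⟩ : ∃ t ∉ q, ∃ y : Fin r → B, ∀ l, algebraMap B q.ResidueField (y l) = algebraMap B q.ResidueField t * c l := by
        obtain ⟨⟨t, ht⟩, hts⟩ := IsLocalization.exist_integer_multiples_of_finite (nonZeroDivisors (B ⧸ q)) c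
        obtain ⟨t, rfl⟩ := Ideal.Quotient.mk_surjective t
        choose y' hy' using hts
        choose y hy using fun l => Ideal.Quotient.mk_surjective (y' l)
        refine ⟨t, fun h => nonZeroDivisors.ne_zero ht (Ideal.Quotient.eq_zero_iff_mem.2 h), y, fun l => ?_⟩
        rw [IsScalarTower.algebraMap_apply B (B ⧸ q) q.ResidueField, Ideal.Quotient.algebraMap_eq, hy, hy' l,
          IsScalarTower.algebraMap_apply B (B ⧸ q) q.ResidueField]
        exact Algebra.smul_def _ _
      let δ : Fin m → B := fun i => t * e j i - ∑ l, y l * e (S l) i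
      have hδ : ∀ i, δ i ∈ q := fun i => by
        rw [← Ideal.algebraMap_residueField_eq_zero, map_sub, map_mul, map_sum, sub_eq_zero]
        have := congrFun hc i
        simp only [Finset.sum_apply, Pi.smul_apply, Function.comp_apply, smul_eq_mul, v] at this
        rw [← this, Finset.mul_sum]
        exact Finset.sum_congr rfl fun l _ => by rw [map_mul, hy]; ring
      have hsum : t * G j = (∑ l, y l * F l) + ∑ i, δ i * G i := by
        have hGe : ∀ k, G k = ∑ i, e k i * G i := fun k => by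
          show (∑ i, e k i * f i) = _
          simp only [hG, Matrix.mulVec, dotProduct, Finset.mul_sum]
          rw [Finset.sum_comm]
          exact Finset.sum_congr rfl fun i _ => by rw [← hee k i, Finset.sum_mul]; exact Finset.sum_congr rfl fun l _ => by ring
        have h1 : ∑ i, δ i * G i = t * G j - ∑ l, y l * F l := by
          simp only [δ, sub_mul, Finset.sum_sub_distrib, Finset.sum_mul, mul_assoc, ← Finset.mul_sum, ← hGe]
          rw [Finset.sum_comm]
          simp only [← Finset.mul_sum, ← hGe, hF]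
        rw [h1]; ring
      have hu : IsUnit (algebraMap B L t) := IsLocalization.map_units L (⟨t, ht⟩ : q.primeCompl)
      rw [SetLike.mem_coe, ← Ideal.unit_mul_mem_iff_mem _ hu, ← map_mul, hsum, map_add, smul_eq_mul,
        ← Ideal.map_span, ← Ideal.map_mul]
      refine Submodule.add_mem_sup (Ideal.mem_map_of_mem _ (sum_mem fun l _ =>
        Ideal.mul_mem_left _ _ (Ideal.subset_span ⟨l, rfl⟩))) (Ideal.mem_map_of_mem _ (sum_mem fun i _ =>
        Ideal.mul_mem_mul (hδ i) (Ideal.subset_span ⟨i, rfl⟩)))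
  -- the fibre
  let κ := p.ResidueField
  let pp : PrimeSpectrum R := ⟨p, inferInstance⟩
  let Q := (PrimeSpectrum.preimageOrderIsoFiber R B pp ⟨⟨q, inferInstance⟩, rfl⟩).asIdeal
  have hQ : ∀ x, (1 : κ) ⊗ₜ[R] x ∈ Q ↔ x ∈ q := fun x =>
    SetLike.ext_iff.1 (congrArg (fun w => w.1.asIdeal) ((PrimeSpectrum.preimageOrderIsoFiber R B pp).symm_apply_apply
      ⟨⟨q, inferInstance⟩, rfl⟩)) x
  haveI : Q.IsPrime := inferInstanceAs (PrimeSpectrum.asIdeal _).IsPrime
  letI : Algebra B (p.Fiber B) := Algebra.TensorProduct.rightAlgebra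
  have halg : ∀ x, algebraMap B (p.Fiber B) x = (1 : κ) ⊗ₜ[R] x := fun x => rfl
  have hRB : ∀ a : R, (1 : κ) ⊗ₜ[R] algebraMap R B a = algebraMap R (p.Fiber B) a := fun a => by
    rw [Algebra.algebraMap_eq_smul_one, Algebra.algebraMap_eq_smul_one, TensorProduct.tmul_smul]
    rfl
  let L' := Localization.AtPrime Q
  haveI : IsNoetherianRing (p.Fiber B) := Algebra.FiniteType.isNoetherianRing κ _
  haveI : IsNoetherianRing L' := IsLocalization.isNoetherianRing Q.primeCompl _ inferInstance
  haveI : IsLocalization (Algebra.algebraMapSubmonoid (p.Fiber B) q.primeCompl) L' := by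
    refine (IsLocalization.iff_of_le_of_exists_dvd (S := L') _ Q.primeCompl ?_ fun y hy => ?_).2 inferInstance
    · rintro _ ⟨z, hz, rfl⟩; exact fun h => hz ((hQ z).1 h)
    · obtain ⟨a, ha, z, hz⟩ := Ideal.Fiber.exists_smul_eq_one_tmul p y
      refine ⟨algebraMap B (p.Fiber B) z, ⟨z, fun hzq => hy ?_, rfl⟩, ⟨algebraMap R (p.Fiber B) a, ?_⟩⟩
      · have hu : IsUnit (algebraMap R (p.Fiber B) a) := by
          rw [IsScalarTower.algebraMap_apply R κ (p.Fiber B)]
          exact (isUnit_iff_ne_zero.2 fun h0 => ha (Ideal.algebraMap_residueField_eq_zero.1 h0)).map _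
        show y ∈ Q
        rw [← Ideal.unit_mul_mem_iff_mem _ hu, ← Algebra.smul_def, hz]
        exact (hQ z).2 hzq
      · rw [halg, ← hz, Algebra.smul_def, mul_comm]
  let lam : B →+* L' := (algebraMap (p.Fiber B) L').comp (algebraMap B (p.Fiber B))
  have hlamJ : ∀ x ∈ J, lam x ∈ Ideal.span (Set.range (lam ∘ F)) := fun x hx => by
    have hu : IsUnit (lam e₀) := IsLocalization.map_units L' (⟨_, fun h => he₀q ((hQ e₀).1 h)⟩ : Q.primeCompl)
    rw [← Ideal.unit_mul_mem_iff_mem _ hu, ← map_mul]
    obtain ⟨k, hk, i, hi, hki⟩ := Submodule.mem_sup.1 (he₀ x hx)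
    have hi0 : lam i = 0 := by
      have : I.map (algebraMap R B) ≤ RingHom.ker lam := Ideal.map_le_iff_le_comap.2 fun a ha => by
        show lam (algebraMap R B a) = 0
        show algebraMap (p.Fiber B) L' ((1 : κ) ⊗ₜ[R] algebraMap R B a) = 0
        rw [hRB, IsScalarTower.algebraMap_apply R κ (p.Fiber B),
          Ideal.algebraMap_residueField_eq_zero.2 (hIp ha), map_zero, map_zero]
      exact this hi
    rw [← hki, map_add, hi0, add_zero]
    obtain ⟨_, ⟨t, ht, rfl⟩, htk⟩ : ∃ s ∈ (q.primeCompl.map (RingHom.id B) : Submonoid B), s * k ∈ Ideal.span (Set.range F) := by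
      obtain ⟨t, ht, h⟩ := (IsLocalization.algebraMap_mem_map_algebraMap_iff q.primeCompl L _ _).1
        (hloc (Ideal.mem_map_of_mem _ hk))
      exact ⟨t, ⟨t, ht, rfl⟩, h⟩
    have hu' : IsUnit (lam t) := IsLocalization.map_units L' (⟨_, fun h => ht ((hQ t).1 h)⟩ : Q.primeCompl)
    rw [← Ideal.unit_mul_mem_iff_mem _ hu', ← map_mul, Set.range_comp, ← Ideal.map_span]
    exact Ideal.mem_map_of_mem _ htk
  have hFm : ∀ l, lam (F l) ∈ IsLocalRing.maximalIdeal L' := fun l =>
    (IsLocalization.AtPrime.to_map_mem_maximal_iff L' Q _).2 ((hQ _).2 (hJq (hGJ _)))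
  -- the ideal of the fibre is Koszul regular
  let ψ : p.Fiber B →ₐ[κ] p.Fiber (B ⧸ J) := Algebra.TensorProduct.map (AlgHom.id κ κ) (Ideal.Quotient.mkₐ R J)
  have hψ : Function.Surjective ψ := fun y => by
    induction y using TensorProduct.induction_on with
    | zero => exact ⟨0, map_zero _⟩
    | add a b ha hb =>
      obtain ⟨a', ha'⟩ := ha; obtain ⟨b', hb'⟩ := hb
      exact ⟨a' + b', by rw [map_add, ha', hb']⟩
    | tmul k z =>
      obtain ⟨z, rfl⟩ := Ideal.Quotient.mk_surjective z
      exact ⟨k ⊗ₜ z, rfl⟩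
  have hkerψ : RingHom.ker ψ.toRingHom = J.map (algebraMap B (p.Fiber B)) := by
    have h := Algebra.TensorProduct.lTensor_ker (A := κ) (Ideal.Quotient.mkₐ R J) Ideal.Quotient.mk_surjective
    rw [show RingHom.ker (Ideal.Quotient.mkₐ R J) = J from Ideal.mk_ker] at h
    exact h
  have hQJ : RingHom.ker ψ.toRingHom ≤ Q := by
    rw [hkerψ, Ideal.map_le_iff_le_comap]
    exact fun x hx => (hQ x).2 (hJq hx)
  obtain ⟨g', hg', r', f', hd⟩ :=
    (KRIdeal.isKRI_iff _).1 (isKRI_ker_of_smooth ψ hψ (hlci p hIp)) Q hQJ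
  set f'' : Fin r' → L' := algebraMap _ L' ∘ f' with hf''
  have hex : KoszulLib.Ex (List.ofFn f'') := by
    have := KRIdeal.transfer (Submonoid.powers g') (Localization.Away g') L' (fun s => ?_) hd.ex
    · rwa [List.map_ofFn] at this
    · obtain ⟨_, k, rfl⟩ := s
      exact IsLocalization.map_units L' (⟨g' ^ k, Q.primeCompl.pow_mem hg' k⟩ : Q.primeCompl)
  have hJ' : (J.map (algebraMap B (p.Fiber B))).map (algebraMap _ L') = Ideal.span (Set.range f'') := by
    rw [← hkerψ]
    refine le_antisymm (Ideal.map_le_iff_le_comap.2 fun x hx => ?_) (Ideal.span_le.2 ?_)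
    · have h1 := hd.map_eq ▸ Ideal.mem_map_of_mem (algebraMap _ (Localization.Away g')) hx
      obtain ⟨_, ⟨k, rfl⟩, hk⟩ := (IsLocalization.algebraMap_mem_map_algebraMap_iff (Submonoid.powers g') _ _ _).1 h1
      rw [Ideal.mem_comap, hf'', Set.range_comp, ← Ideal.map_span,
        ← Ideal.unit_mul_mem_iff_mem _ (IsLocalization.map_units L' (⟨g' ^ k, Q.primeCompl.pow_mem hg' k⟩ : Q.primeCompl)),
        ← map_mul]
      exact Ideal.mem_map_of_mem _ hk
    · rintro _ ⟨i, rfl⟩; exact Ideal.mem_map_of_mem _ (hd.mem i)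
  have hspanF : Ideal.span (Set.range (lam ∘ F)) = Ideal.span (Set.range f'') := by
    rw [← hJ', Ideal.map_map]
    exact le_antisymm (Ideal.span_le.2 (by rintro _ ⟨l, rfl⟩; exact Ideal.mem_map_of_mem lam (hGJ _)))
      (Ideal.map_le_iff_le_comap.2 hlamJ)
  have hne : Ideal.span (Set.range f'') ≠ ⊤ := by
    rw [← hspanF]
    exact ne_top_of_le_ne_top (IsLocalRing.maximalIdeal.isMaximal L').ne_top
      (Ideal.span_le.2 (by rintro _ ⟨l, rfl⟩; exact hFm l))
  have hle' : r' ≤ r := KRIdeal.card_le_of_span hex hne hspanF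
  -- minimality
  have hmin : ∀ a : Fin r → B, (∑ l, lam (a l) * lam (F l) ∈
      IsLocalRing.maximalIdeal L' * Ideal.span (Set.range (lam ∘ F))) → ∀ l, a l ∈ q := by
    intro a ha
    have h0 : lam (∑ l, a l * F l) ∈ (q * J).map lam := by
      rw [map_sum]; simp only [map_mul]
      rw [Ideal.map_mul, ← Localization.AtPrime.map_eq_maximalIdeal] at *
      refine Ideal.mul_mono ?_ ?_ ha
      · refine Ideal.map_le_iff_le_comap.2 fun y hy => ?_
        obtain ⟨c, hc, z, hz⟩ := Ideal.Fiber.exists_smul_eq_one_tmul p y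
        have hu : IsUnit (algebraMap (p.Fiber B) L' (algebraMap R (p.Fiber B) c)) := by
          rw [IsScalarTower.algebraMap_apply R κ (p.Fiber B)]
          exact ((isUnit_iff_ne_zero.2 fun h0 => hc (Ideal.algebraMap_residueField_eq_zero.1 h0)).map _).map _
        rw [Ideal.mem_comap, ← Ideal.unit_mul_mem_iff_mem _ hu, ← map_mul, ← Algebra.smul_def, hz]
        refine Ideal.mem_map_of_mem lam ((hQ z).1 ?_)
        rw [← hz, Algebra.smul_def]; exact Ideal.mul_mem_left _ _ hy
      · exact Ideal.span_le.2 (by rintro _ ⟨l, rfl⟩; exact Ideal.mem_map_of_mem lam (hGJ _))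
    rw [show (q * J).map lam = ((q * J).map (algebraMap B (p.Fiber B))).map (algebraMap _ L') from
      (Ideal.map_map _ _).symm] at h0
    obtain ⟨y, hy, hymem⟩ := (IsLocalization.algebraMap_mem_map_algebraMap_iff Q.primeCompl L' _ _).1 h0
    obtain ⟨c, hc, t, ht⟩ := Ideal.Fiber.exists_smul_eq_one_tmul p y
    have hcu : IsUnit (algebraMap R (p.Fiber B) c) := by
      rw [IsScalarTower.algebraMap_apply R κ (p.Fiber B)]
      exact (isUnit_iff_ne_zero.2 fun h0 => hc (Ideal.algebraMap_residueField_eq_zero.1 h0)).map _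
    have htq : t ∉ q := fun h => hy ((Ideal.unit_mul_mem_iff_mem _ hcu).1 (by
      rw [← Algebra.smul_def, ht]; exact (hQ t).2 h))
    have h1 : algebraMap B (p.Fiber B) (t * ∑ l, a l * F l) ∈ (q * J).map (algebraMap B (p.Fiber B)) := by
      rw [map_mul, halg t, ← ht, Algebra.smul_def, mul_assoc]
      exact Ideal.mul_mem_left _ _ hymem
    obtain ⟨w, hw, hwe⟩ : ∃ w ∈ q * J, ∃ c' ∉ p, algebraMap B (p.Fiber B) (algebraMap R B c' * (t * ∑ l, a l * F l)) = algebraMap B (p.Fiber B) w := by
      refine Submodule.span_induction (p := fun z _ => ∃ w ∈ q * J, ∃ c' ∉ p,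
        algebraMap R (p.Fiber B) c' * z = algebraMap B (p.Fiber B) w) ?_ ?_ ?_ ?_ h1 |> fun ⟨w, hw, c', hc', h⟩ =>
          ⟨w, hw, c', hc', by rw [map_mul, ← h, halg (algebraMap R B c'), hRB]⟩
      · rintro _ ⟨z, hz, rfl⟩
        exact ⟨z, hz, 1, p.primeCompl.one_mem, by rw [map_one, one_mul]⟩
      · exact ⟨0, zero_mem _, 1, p.primeCompl.one_mem, by simp⟩
      · rintro u u' _ _ ⟨w, hw, c, hc, h⟩ ⟨w', hw', c', hc', h'⟩
        refine ⟨algebraMap R B c' * w + algebraMap R B c * w',
          add_mem (Ideal.mul_mem_left _ _ hw) (Ideal.mul_mem_left _ _ hw'), c * c', p.primeCompl.mul_mem hc hc', ?_⟩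
        rw [map_add, map_mul (algebraMap B (p.Fiber B)), map_mul (algebraMap B (p.Fiber B)), ← h, ← h',
          ← IsScalarTower.algebraMap_apply, ← IsScalarTower.algebraMap_apply, map_mul]
        ring
      · rintro s z _ ⟨w, hw, c, hc, h⟩
        obtain ⟨c', hc', s', hs'⟩ := Ideal.Fiber.exists_smul_eq_one_tmul p s
        refine ⟨s' * w, Ideal.mul_mem_left _ _ hw, c' * c, p.primeCompl.mul_mem hc' hc, ?_⟩
        rw [map_mul (algebraMap B (p.Fiber B)), ← h, halg s', ← hs', Algebra.smul_def, map_mul, smul_eq_mul]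
        ring
    obtain ⟨c', hc', hwe⟩ := hwe
    have h2 : (1 : κ) ⊗ₜ[R] (algebraMap R B c' * (t * ∑ l, a l * F l) - w) = 0 := by
      rw [TensorProduct.tmul_sub, ← halg, ← halg, hwe, sub_self]
    obtain ⟨c'', hc'', h3⟩ := exists_smul_mem_of_tmul_eq_zero p h2
    set τ := algebraMap R B c'' * (algebraMap R B c' * t)
    have hτ : τ ∉ q := q.primeCompl.mul_mem (x := algebraMap R B c'') hc'' (q.primeCompl.mul_mem (x := algebraMap R B c') hc' htq)
    have hFJ : ∑ l, a l * F l ∈ J := sum_mem fun l _ => J.mul_mem_left _ (hGJ _)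
    have hwJ : w ∈ J := Ideal.mul_le_right hw
    have h3J : algebraMap R B c'' * (algebraMap R B c' * (t * ∑ l, a l * F l) - w) ∈ J :=
      J.mul_mem_left (algebraMap R B c'') (sub_mem (J.mul_mem_left (algebraMap R B c') (J.mul_mem_left t hFJ)) hwJ)
    have h4 := hmem p hIp _ h3J h3
    have h5 : τ * ∑ l, a l * F l ∈ q * J ⊔ I.map (algebraMap R B) := by
      have hpq : p.map (algebraMap R B) ≤ q := Ideal.map_le_iff_le_comap.2 le_rfl
      have := add_mem (sup_le_sup_right (Ideal.mul_mono_left hpq) _ h4)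
        (Ideal.mem_sup_left (T := I.map (algebraMap R B)) (Ideal.mul_mem_left _ (algebraMap R B c'') hw))
      convert this using 1
      ring
    obtain ⟨w₁, hw₁, w₂, hw₂, hsum⟩ := Submodule.mem_sup.1 h5
    have hw₁' : w₁ ∈ q • Submodule.span B (Set.range f) ⊔ I.map (algebraMap R B) := by
      refine Submodule.mul_induction_on hw₁ (fun x hx y hy => ?_) (fun _ _ h h' => add_mem h h')
      rw [hJ] at hy
      obtain ⟨y₁, hy₁, y₂, hy₂, rfl⟩ := Submodule.mem_sup.1 hy
      rw [mul_add]
      exact Submodule.add_mem_sup (Submodule.smul_mem_smul hx hy₁) (Ideal.mul_mem_left _ _ hy₂)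
    obtain ⟨w₃, hw₃, w₄, hw₄, hw₁e⟩ := Submodule.mem_sup.1 hw₁'
    obtain ⟨d, hd', hdsum⟩ := (Submodule.mem_ideal_smul_span_iff_exists_sum _ _ _).1 hw₃
    rw [Finsupp.sum_fintype _ _ (fun i => by simp)] at hdsum
    let c : Fin m → B := fun i => τ * ∑ l, a l * e (S l) i
    have hcf : ∑ i, c i * f i = τ * ∑ l, a l * F l := by
      simp only [c, hF, hG, Matrix.mulVec, dotProduct, Finset.mul_sum, Finset.sum_mul]
      rw [Finset.sum_comm]
      exact Finset.sum_congr rfl fun l _ => Finset.sum_congr rfl fun i _ => by ring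
    have h6 : ∑ i, (c i - d i) * f i ∈ I.map (algebraMap R B) := by
      have : ∑ i, (c i - d i) * f i = w₄ + w₂ := by
        simp only [sub_mul, Finset.sum_sub_distrib, hcf, ← hsum, ← hw₁e, ← hdsum, smul_eq_mul]
        ring
      rw [this]; exact add_mem hw₄ hw₂
    have h7 : ∀ i, ∑ l, a l * e (S l) i ∈ q := fun i => by
      refine (Ideal.IsPrime.mem_or_mem inferInstance ?_).resolve_left hτ
      have h8 : ∑ j, (c j - d j) * e j i ∈ q := hJq (hrel _ h6 i)
      have h9 : ∑ j, c j * e j i = c i := by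
        simp only [c, Finset.mul_sum, Finset.sum_mul]
        rw [Finset.sum_comm]
        refine Finset.sum_congr rfl fun l _ => ?_
        rw [← hee (S l) i, Finset.mul_sum, Finset.mul_sum]
        exact Finset.sum_congr rfl fun j _ => by ring
      simp only [sub_mul, Finset.sum_sub_distrib, h9] at h8
      simpa [c] using add_mem h8 (sum_mem fun j (_ : j ∈ Finset.univ) => q.mul_mem_right (e j i) (hd' j))
    intro l
    rw [← Ideal.algebraMap_residueField_eq_zero]
    refine Fintype.linearIndependent_iff.1 hliS (fun l => algebraMap B q.ResidueField (a l)) (funext fun i => ?_) l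
    simp only [Finset.sum_apply, Pi.smul_apply, Function.comp_apply, smul_eq_mul, v, Pi.zero_apply, ← map_mul, ← map_sum]
    exact Ideal.algebraMap_residueField_eq_zero.2 (h7 i)
  -- the count
  have hge : r ≤ r' := by
    by_contra hlt
    push Not at hlt
    obtain ⟨D, hD⟩ := KRIdeal.exists_matrix_of_le (R := L') (h := lam ∘ F) (f := f'') hspanF.le
    let π := IsLocalRing.residue L'
    obtain ⟨a', ha', hane⟩ : ∃ a' : Fin r → IsLocalRing.ResidueField L', Matrix.vecMul a' (D.map π) = 0 ∧ a' ≠ 0 := by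
      have hni : ¬ Function.Injective (Matrix.vecMulLinear (D.map π)) := fun hinj => by
        have := LinearMap.finrank_le_finrank_of_injective hinj
        simp at this
        omega
      obtain ⟨a', b', hab, hne'⟩ := Function.not_injective_iff.1 hni
      exact ⟨a' - b', by rw [Matrix.sub_vecMul]; exact sub_eq_zero.2 hab, sub_ne_zero.2 hne'⟩
    choose a₁ ha₁ using fun l => Ideal.Quotient.mk_surjective (a' l)
    obtain ⟨⟨s, hs⟩, hsint⟩ := IsLocalization.exist_integer_multiples_of_finite Q.primeCompl a₁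
    choose b hb using hsint
    choose c hc z hz using fun l => Ideal.Fiber.exists_smul_eq_one_tmul p (b l)
    let a : Fin r → B := fun l => algebraMap R B (∏ j ∈ Finset.univ.erase l, c j) * z l
    set u := algebraMap (p.Fiber B) L' (algebraMap R (p.Fiber B) (∏ j, c j) * s) with hu
    have hau : ∀ l, lam (a l) = u * a₁ l := fun l => by
      show algebraMap _ L' (algebraMap B (p.Fiber B) (algebraMap R B _ * z l)) = _
      rw [map_mul, ← IsScalarTower.algebraMap_apply, halg (z l), ← hz l, Algebra.smul_def, ← mul_assoc, ← map_mul,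
        Finset.prod_erase_mul _ _ (Finset.mem_univ l), map_mul, hb l, hu, map_mul, Algebra.smul_def,
        mul_assoc]
    have huu : IsUnit u := IsLocalization.map_units L' (⟨_, Q.primeCompl.mul_mem (x := algebraMap R (p.Fiber B) (∏ j, c j))
      (fun hh => Ideal.IsPrime.ne_top inferInstance (Ideal.eq_top_of_isUnit_mem Q hh (by
        rw [IsScalarTower.algebraMap_apply R κ (p.Fiber B)]
        exact (isUnit_iff_ne_zero.2 fun h0 => by
          obtain ⟨j, -, hj⟩ := (Ideal.IsPrime.prod_mem_iff (hp := (inferInstance : p.IsPrime))).1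
            (Ideal.algebraMap_residueField_eq_zero.1 h0)
          exact hc j hj).map _))) hs⟩ : Q.primeCompl)
    have hcol : ∀ k, ∑ l, a₁ l * D l k ∈ IsLocalRing.maximalIdeal L' := fun k => by
      refine (IsLocalRing.residue_eq_zero_iff (R := L') _).1 ?_
      rw [map_sum]
      have := congrFun ha' k
      simp only [Matrix.vecMul, dotProduct, Matrix.map_apply, Pi.zero_apply] at this
      rw [← this]
      exact Finset.sum_congr rfl fun l _ => by rw [map_mul, ← ha₁]; rfl
    have hmem' : ∑ l, lam (a l) * lam (F l) ∈ IsLocalRing.maximalIdeal L' * Ideal.span (Set.range (lam ∘ F)) := by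
      have : ∑ l, lam (a l) * lam (F l) = ∑ k, (u * ∑ l, a₁ l * D l k) * f'' k := by
        simp only [hau, show ∀ l, lam (F l) = ∑ k, D l k * f'' k from fun l => hD l, Finset.mul_sum, Finset.sum_mul]
        rw [Finset.sum_comm]
        exact Finset.sum_congr rfl fun l _ => Finset.sum_congr rfl fun k _ => by ring
      rw [this, hspanF]
      exact sum_mem fun k _ => Ideal.mul_mem_mul (Ideal.mul_mem_left _ _ (hcol k)) (Ideal.subset_span ⟨k, rfl⟩)
    refine hane (funext fun l => ?_)
    rw [← ha₁ l]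
    have h1 : lam (a l) ∈ IsLocalRing.maximalIdeal L' :=
      (IsLocalization.AtPrime.to_map_mem_maximal_iff L' Q _).2 ((hQ _).2 (hmin a hmem' l))
    rw [hau, Ideal.unit_mul_mem_iff_mem _ huu] at h1
    exact Ideal.Quotient.eq_zero_iff_mem.2 h1
  obtain rfl : r' = r := le_antisymm hle' hge
  have hexF : KoszulLib.Ex (List.ofFn (lam ∘ F)) := KRIdeal.ex_of_span_eq hex hspanF
  have hw : RingTheory.Sequence.IsWeaklyRegular L' ((List.ofFn F).map lam) := by
    rw [List.map_ofFn]
    have h2 := RegSeq.isH1Regular_of_isKoszulRegularSeq ((KoszulLib.ex_iff _).1 hexF)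
    rw [show (List.ofFn (lam ∘ F)).get = (lam ∘ F) ∘ Fin.cast List.length_ofFn from
      funext fun j => by simp [Fin.cast]] at h2
    exact RegSeq.isWeaklyRegular_of_isQuasiRegular _ _ (fun l => by
      rw [IsLocalRing.jacobson_eq_maximalIdeal ⊥ bot_ne_top]; exact hFm l) (S2103.result _ ((KRIdeal.h1_cast _ _).1 h2))
  have hregL : RingTheory.Sequence.IsRegular L' ((List.ofFn F).map lam) :=
    (IsLocalRing.isRegular_iff_isWeaklyRegular_of_subset_maximalIdeal (fun x hx => by
      obtain ⟨y, hy, rfl⟩ := List.mem_map.1 hx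
      obtain ⟨l, rfl⟩ := List.mem_ofFn.1 hy
      exact hFm l)).2 hw
  haveI : IsScalarTower B (p.Fiber B) L' := inferInstance
  haveI : Algebra.IsPushout R B p.ResidueField (p.Fiber B) := by infer_instance
  obtain ⟨eL⟩ := nonempty_locFibre_equiv (R := R) (K := p.ResidueField) (Q := p.Fiber B) q L'
  have hreg : RingTheory.Sequence.IsRegular (FibreReg.LocFibre (A := R) B q) (List.ofFn F) := by
    rw [eL.isRegular_congr]
    refine ⟨(RingTheory.Sequence.isWeaklyRegular_map_algebraMap_iff L' L' (List.ofFn F)).1 hw, fun htop => ?_⟩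
    refine hregL.top_ne_smul (Submodule.restrictScalars_injective B _ _ ?_)
    rw [Submodule.restrictScalars_top, show (List.ofFn F).map lam = (List.ofFn F).map (algebraMap B L') from rfl,
      ← Ideal.map_ofList, Ideal.smul_restrictScalars, Submodule.restrictScalars_top]
    exact htop
  let eT : LocalizedModule q.primeCompl B ≃ₗ[B] L :=
    IsLocalizedModule.iso q.primeCompl (Algebra.linearMap B L)
  haveI : Module.Flat R L := Module.Flat.trans R B _
  obtain ⟨-, hfl⟩ := FibreReg.regular_and_flat_list (A := R) q B (List.ofFn F)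
    (fun b hb => by obtain ⟨l, rfl⟩ := List.mem_ofFn.1 hb; exact hJq (hGJ _))
    (Module.Flat.of_linearEquiv (eT.restrictScalars R)) hreg
  have h1 := hfl _ le_rfl
  rw [List.take_of_length_le (by simp)] at h1
  have hEq : (Ideal.span (Set.range F)).map (algebraMap B L) = K.map (algebraMap B L) := by
    refine le_antisymm (Ideal.map_mono (Ideal.span_mono ?_)) hloc
    rintro _ ⟨l, rfl⟩; exact ⟨S l, rfl⟩
  exact Module.Flat.of_linearEquiv (((quotLocEquiv q (List.ofFn F)).trans
    ((Ideal.quotientEquivAlgOfEq R (show Ideal.ofList ((List.ofFn F).map (algebraMap B L)) = K.map (algebraMap B L) by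
      rw [← Ideal.map_ofList, KRIdeal.ofList_ofFn, hEq])).toLinearEquiv)).symm)

end Groth.Agent.RelGCILib
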