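import Groth.Agent.RelGCILib.Reduction
import Groth.Agent.KRIdeal.Basic
import Groth.Agent.RegSeq.Imm
import Groth.Agent.RegSeq.Noeth
import Mathlib.RingTheory.KrullDimension.Regular

/-!
# Local presentations as relative global complete intersections
-/

set_option autoImplicit false
set_option linter.style.haveILetI false
universe u

open TensorProduct MvPolynomial

namespace Groth.Agent.RelGCILib

/-- A flat quotient: the ideal meets `p L` inside `p` times the ideal. -/
theorem mem_mul_of_mem_map_of_flat {R L : Type u} [CommRing R] [CommRing L] [Algebra R L] (I : Ideal L)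
    [Module.Flat R (L ⧸ I)] (p : Ideal R) {x : L} (hx : x ∈ I) (hxp : x ∈ p.map (algebraMap R L)) :
    x ∈ p.map (algebraMap R L) * I := by
  obtain ⟨l, a, y, ha, rfl⟩ : ∃ (l : ℕ) (a : Fin l → R) (y : Fin l → L), (∀ i, a i ∈ p) ∧ x = ∑ i, a i • y i := by
    have hx' : x ∈ (p • ⊤ : Submodule R L) := by rw [Ideal.smul_top_eq_map]; exact hxp
    refine Submodule.smul_induction_on hx' (fun r hr v _ => ⟨1, fun _ => r, fun _ => v, fun _ => hr, by simp⟩) ?_
    rintro a b ⟨l, c, y, hc, rfl⟩ ⟨l', c', y', hc', rfl⟩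
    exact ⟨l + l', Fin.append c c', Fin.append y y',
      fun i => Fin.addCases (fun i => by simpa using hc i) (fun i => by simpa using hc' i) i,
      by simp [Fin.sum_univ_add]⟩
  have h0 : ∑ i, a i • Ideal.Quotient.mkₐ R I (y i) = 0 := by
    rw [← Ideal.Quotient.eq_zero_iff_mem.2 hx, map_sum]
    exact Finset.sum_congr rfl fun i _ => (map_smul (Ideal.Quotient.mkₐ R I) (a i) (y i)).symm
  obtain ⟨k, b, z, hz, hb⟩ := Module.Flat.isTrivialRelation_of_sum_smul_eq_zero (R := R) (M := L ⧸ I) h0
  choose w hw using fun j => Ideal.Quotient.mk_surjective (z j)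
  have hi : ∀ i, y i - ∑ j, b i j • w j ∈ I := fun i => by
    rw [← Ideal.Quotient.eq, map_sum]
    exact (hz i).trans <| Finset.sum_congr rfl fun j _ => by rw [← hw j]; exact (map_smul (Ideal.Quotient.mkₐ R I) (b i j) (w j)).symm
  have hdec : ∑ i, a i • y i = ∑ i, a i • (y i - ∑ j, b i j • w j) := by
    simp only [smul_sub, Finset.smul_sum, smul_smul, Finset.sum_sub_distrib]
    rw [eq_comm, sub_eq_self, Finset.sum_comm]
    simp [← Finset.sum_smul, hb]
  rw [hdec]
  refine sum_mem fun i _ => ?_
  rw [Algebra.smul_def]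
  exact Ideal.mul_mem_mul (Ideal.mem_map_of_mem _ (ha i)) (hi i)

theorem height_add_dim_le {R : Type u} [CommRing R] (q : Ideal R) [q.IsPrime] :
    (q.height : WithBot ℕ∞) + ringKrullDim (R ⧸ q) ≤ ringKrullDim R := by
  let p : PrimeSpectrum R := ⟨q, inferInstance⟩
  haveI : Nonempty (PrimeSpectrum R) := ⟨p⟩
  have h1 : ringKrullDim (R ⧸ q) = (Order.coheight p : WithBot ℕ∞) := by
    rw [ringKrullDim_quotient, Order.coheight_eq_krullDim_Ici]
    refine Order.krullDim_eq_of_orderIso (OrderIso.setCongr _ _ ?_)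
    ext r
    exact PrimeSpectrum.mem_zeroLocus _ _
  rw [h1, PrimeSpectrum.height_eq_orderHeight p, ← WithBot.coe_add]
  show _ ≤ Order.krullDim (PrimeSpectrum R)
  rw [Order.krullDim_eq_iSup_height_add_coheight_of_nonempty]
  exact WithBot.coe_le_coe.mpr (le_iSup (fun r => Order.height r + Order.coheight r) p)

section Clear

variable {R : Type u} [CommRing R] {n : ℕ} (p : Ideal R) [p.IsPrime]

theorem exists_clear' (y : MvPolynomial (Fin n) p.ResidueField) :
    ∃ (r : R) (z : MvPolynomial (Fin n) R), r ∉ p ∧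
      MvPolynomial.map (algebraMap R p.ResidueField) z = C (algebraMap R p.ResidueField r) * y :=
  exists_clear p y

theorem exists_clear_mem (I : Ideal (MvPolynomial (Fin n) R)) {y : MvPolynomial (Fin n) p.ResidueField}
    (hy : y ∈ I.map (MvPolynomial.map (algebraMap R p.ResidueField))) :
    ∃ (r : R), r ∉ p ∧ ∃ z ∈ I,
      MvPolynomial.map (algebraMap R p.ResidueField) z = C (algebraMap R p.ResidueField r) * y := by
  refine Submodule.span_induction (p := fun y _ => ∃ (r : R), r ∉ p ∧ ∃ z ∈ I,
    MvPolynomial.map (algebraMap R p.ResidueField) z = C (algebraMap R p.ResidueField r) * y) ?_ ?_ ?_ ?_ hy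
  · rintro _ ⟨z, hz, rfl⟩
    exact ⟨1, p.primeCompl.one_mem, z, hz, by simp⟩
  · exact ⟨1, p.primeCompl.one_mem, 0, I.zero_mem, by simp⟩
  · rintro y y' _ _ ⟨r, hr, z, hz, he⟩ ⟨r', hr', z', hz', he'⟩
    refine ⟨r * r', p.primeCompl.mul_mem hr hr', C r' * z + C r * z', add_mem (I.mul_mem_left _ hz) (I.mul_mem_left _ hz'), ?_⟩
    simp only [map_add, map_mul, MvPolynomial.map_C, he, he']; ring
  · rintro a y _ ⟨r, hr, z, hz, he⟩
    obtain ⟨r', z', hr', he'⟩ := exists_clear' p a
    refine ⟨r' * r, p.primeCompl.mul_mem hr' hr, z' * z, I.mul_mem_left _ hz, ?_⟩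
    rw [map_mul, he, he', map_mul, map_mul, smul_eq_mul]; ring

theorem isUnit_C_residue {r : R} (hr : r ∉ p) :
    IsUnit (C (algebraMap R p.ResidueField r) : MvPolynomial (Fin n) p.ResidueField) :=
  (isUnit_iff_ne_zero.2 fun h0 => hr (Ideal.algebraMap_residueField_eq_zero.1 h0)).map C

theorem mem_map_C_of_map_eq_zero {z : MvPolynomial (Fin n) R}
    (hz : MvPolynomial.map (algebraMap R p.ResidueField) z = 0) : z ∈ p.map (algebraMap R (MvPolynomial (Fin n) R)) := by
  refine MvPolynomial.mem_map_C_iff.2 fun m => ?_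
  rw [← Ideal.algebraMap_residueField_eq_zero, ← MvPolynomial.coeff_map, hz, MvPolynomial.coeff_zero]

end Clear

/-- In a Noetherian ring a Koszul regular sequence inside a prime bounds its height. -/
theorem le_height_of_ex {A : Type u} [CommRing A] [IsNoetherianRing A] (P : Ideal A) [P.IsPrime] {r : ℕ} (f : Fin r → A)
    (hf : ∀ i, f i ∈ P) (h : KoszulLib.Ex (List.ofFn (algebraMap A (Localization.AtPrime P) ∘ f))) :
    (r : ℕ∞) ≤ P.height := by
  haveI : IsNoetherianRing (Localization.AtPrime P) := IsLocalization.isNoetherianRing P.primeCompl _ inferInstance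
  set l := List.ofFn (algebraMap A (Localization.AtPrime P) ∘ f)
  have hq : RegImm.Kind.quasi.Seq (Localization.AtPrime P) l :=
    RegSeq.seq_quasi_of_h1 (RegSeq.seq_h1_of_koszul ((KoszulLib.ex_iff l).1 h))
  have hm : ∀ x ∈ l, x ∈ IsLocalRing.maximalIdeal (Localization.AtPrime P) := fun x hx => by
    obtain ⟨i, rfl⟩ := List.mem_ofFn.1 hx
    exact (IsLocalization.AtPrime.to_map_mem_maximal_iff _ P _).2 (hf i)
  have hw : RingTheory.Sequence.IsWeaklyRegular (Localization.AtPrime P) l := by
    have := RegSeq.isWeaklyRegular_of_isQuasiRegular _ l.get (fun i => by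
      rw [IsLocalRing.jacobson_eq_maximalIdeal ⊥ bot_ne_top]; exact hm _ (List.get_mem _ _)) hq
    rwa [List.ofFn_get] at this
  have hreg := (IsLocalRing.isRegular_iff_isWeaklyRegular_of_subset_maximalIdeal hm).2 hw
  have h1 := ringKrullDim_add_length_eq_ringKrullDim_of_isRegular l hreg
  rw [IsLocalization.AtPrime.ringKrullDim_eq_height P (Localization.AtPrime P)] at h1
  haveI : Nontrivial (Localization.AtPrime P ⧸ Ideal.ofList l) := Ideal.Quotient.nontrivial_iff.2
    (ne_top_of_le_ne_top (IsLocalRing.maximalIdeal.isMaximal _).ne_top (Ideal.span_le.2 hm))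
  have h2 : (l.length : WithBot ℕ∞) ≤ (P.height : WithBot ℕ∞) :=
    h1 ▸ le_add_of_nonneg_left ringKrullDim_nonneg_of_nontrivial
  rw [show l.length = r from List.length_ofFn] at h2
  exact WithBot.coe_le_coe.1 h2

variable {R : Type u} [CommRing R] {n c : ℕ}

/-- The fibre dimension of the localised presentation. -/
theorem dim_fiber_awaySeq_le (F : Fin c → MvPolynomial (Fin n) R) (h : MvPolynomial (Fin n) R) (p : Ideal R) [p.IsPrime]
    (hht : ∀ (P : Ideal (MvPolynomial (Fin n) p.ResidueField)), P.IsPrime →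
      (∀ i, MvPolynomial.map (algebraMap R p.ResidueField) (F i) ∈ P) →
      MvPolynomial.map (algebraMap R p.ResidueField) h ∉ P → (c : ℕ∞) ≤ P.height) :
    ringKrullDim (p.Fiber (Synt.RelGCIRing R (n + 1) (c + 1) (awaySeq F h))) ≤ ((n - c : ℕ) : WithBot ℕ∞) := by
  set ψ : MvPolynomial (Fin n) p.ResidueField →+* p.Fiber (Synt.RelGCIRing R (n + 1) (c + 1) (awaySeq F h)) :=
    (fibrePres (awaySeq F h) p).toRingHom.comp (rename Fin.castSucc).toRingHom with hψ
  have hker : ∀ i, fibrePres (awaySeq F h) p (MvPolynomial.map (algebraMap R p.ResidueField) (awaySeq F h i)) = 0 := fun i => by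
    rw [fibrePres_map, Ideal.Quotient.eq_zero_iff_mem.2 (Ideal.subset_span (Set.mem_range_self i)), TensorProduct.tmul_zero]
  have hψF : ∀ i, ψ (MvPolynomial.map (algebraMap R p.ResidueField) (F i)) = 0 := fun i => by
    have := hker i.castSucc
    simp only [awaySeq, Fin.snoc_castSucc, MvPolynomial.map_rename] at this
    exact this
  have hy : ψ (MvPolynomial.map (algebraMap R p.ResidueField) h) * fibrePres (awaySeq F h) p (X (Fin.last n)) = 1 := by
    have := hker (Fin.last c)
    simp only [awaySeq, Fin.snoc_last, map_sub, map_mul, map_one, MvPolynomial.map_rename, MvPolynomial.map_X,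
      sub_eq_zero] at this
    exact this.trans (fibrePres (awaySeq F h) p).toRingHom.map_one
  have hunit : IsUnit (ψ (MvPolynomial.map (algebraMap R p.ResidueField) h)) := ⟨⟨_, _, hy, (by rw [← hy]; ring)⟩, rfl⟩
  have hfrac : ∀ w, ∃ (k : ℕ) (a : MvPolynomial (Fin n) p.ResidueField),
      w * ψ (MvPolynomial.map (algebraMap R p.ResidueField) h) ^ k = ψ a := by
    intro w
    obtain ⟨w, rfl⟩ := fibrePres_surjective (awaySeq F h) p w
    induction w using MvPolynomial.induction_on with
    | C a => exact ⟨0, C a, by simp [hψ]⟩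
    | add a b ha hb =>
      obtain ⟨k, a', ha⟩ := ha; obtain ⟨l, b', hb⟩ := hb
      refine ⟨k + l, a' * MvPolynomial.map (algebraMap R p.ResidueField) h ^ l + b' * MvPolynomial.map (algebraMap R p.ResidueField) h ^ k, ?_⟩
      rw [map_add, map_add ψ, map_mul ψ, map_mul ψ, map_pow, map_pow, ← ha, ← hb]; ring
    | mul_X a i ha =>
      obtain ⟨k, a', ha⟩ := ha
      induction i using Fin.lastCases with
      | last =>
        refine ⟨k + 1, a', ?_⟩
        rw [map_mul, ← ha, pow_succ]
        linear_combination (fibrePres (awaySeq F h) p a * ψ (MvPolynomial.map (algebraMap R p.ResidueField) h) ^ k) * hy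
      | cast i =>
        refine ⟨k, a' * X i, ?_⟩
        rw [map_mul, map_mul ψ, ← ha, show ψ (X i) = fibrePres (awaySeq F h) p (X i.castSucc) by simp [hψ]]
        ring
  refine iSup_le fun l => ?_
  let v : Fin (l.length + 1) → PrimeSpectrum (MvPolynomial (Fin n) p.ResidueField) := fun i => PrimeSpectrum.comap ψ (l i)
  have hvm : StrictMono v := fun i j hij => by
    have hlt : (l i).asIdeal < (l j).asIdeal := l.strictMono hij
    show (l i).asIdeal.comap ψ < (l j).asIdeal.comap ψ
    refine lt_of_le_of_ne (Ideal.comap_mono hlt.le) fun e => hlt.not_ge fun w hw => ?_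
    obtain ⟨k, a, ha⟩ := hfrac w
    have : a ∈ (l j).asIdeal.comap ψ := by
      rw [Ideal.mem_comap, ← ha]; exact Ideal.mul_mem_right _ _ hw
    rw [← e, Ideal.mem_comap, ← ha] at this
    exact ((l i).isPrime.mem_or_mem this).resolve_right fun h1 =>
      (l i).isPrime.ne_top (Ideal.eq_top_of_isUnit_mem _ h1 (hunit.pow k))
  let P := (v 0).asIdeal
  have hP : (c : ℕ∞) ≤ P.height := hht P (v 0).isPrime
    (fun i => by show ψ _ ∈ (l 0).asIdeal; rw [hψF]; exact zero_mem _)
    (fun hh => (l 0).isPrime.ne_top (Ideal.eq_top_of_isUnit_mem _ hh hunit))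
  have h1 := GeomUnib.le_height_add_dim p.ResidueField n P
  have hle : ∀ i, P ≤ (v i).asIdeal := fun i => hvm.monotone (Fin.zero_le i)
  let u : Fin (l.length + 1) → PrimeSpectrum (MvPolynomial (Fin n) p.ResidueField ⧸ P) := fun i =>
    ⟨(v i).asIdeal.map (Ideal.Quotient.mk P), Ideal.map_isPrime_of_surjective Ideal.Quotient.mk_surjective
      (by rw [Ideal.mk_ker]; exact hle i)⟩
  have hu : ∀ i, (u i).asIdeal.comap (Ideal.Quotient.mk P) = (v i).asIdeal := fun i => by
    show ((v i).asIdeal.map _).comap _ = _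
    rw [Ideal.comap_map_of_surjective _ Ideal.Quotient.mk_surjective, ← RingHom.ker_eq_comap_bot, Ideal.mk_ker,
      sup_eq_left.2 (hle i)]
  have hum : StrictMono u := fun i j hij => by
    refine lt_of_le_of_ne (Ideal.map_mono (hvm hij).le) fun e => (hvm hij).ne (PrimeSpectrum.ext ?_)
    rw [← hu i, ← hu j, e]
  have h2 : (l.length : WithBot ℕ∞) ≤ ringKrullDim (MvPolynomial (Fin n) p.ResidueField ⧸ P) :=
    Order.LTSeries.length_le_krullDim (LTSeries.mk l.length u hum)
  have htot : ringKrullDim (MvPolynomial (Fin n) p.ResidueField) = n := by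
    rw [MvPolynomial.ringKrullDim_of_isNoetherianRing, ringKrullDim_eq_zero_of_field]; simp
  have h3 : P.height + (l.length : ℕ∞) ≤ n := by
    have h4 : (P.height : WithBot ℕ∞) + ringKrullDim (MvPolynomial (Fin n) p.ResidueField ⧸ P) ≤ n := by
      rw [← htot]; exact height_add_dim_le P
    exact WithBot.coe_le_coe.1 (le_trans (by rw [WithBot.coe_add]; exact add_le_add le_rfl h2) h4)
  have h5 : ((c + l.length : ℕ) : ℕ∞) ≤ (n : ℕ∞) := by push_cast; exact le_trans (add_le_add hP le_rfl) h3
  exact Nat.cast_le.2 (by have := Nat.cast_le.1 h5; omega)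

/-- The lower bound for the fibre dimension. -/
theorem le_dim_fiber_awaySeq (F : Fin c → MvPolynomial (Fin n) R) (h : MvPolynomial (Fin n) R) (p : Ideal R) [p.IsPrime]
    [hp : Nontrivial (p.Fiber (Synt.RelGCIRing R (n + 1) (c + 1) (awaySeq F h)))] :
    ((n - c : ℕ) : WithBot ℕ∞) ≤ ringKrullDim (p.Fiber (Synt.RelGCIRing R (n + 1) (c + 1) (awaySeq F h))) := by
  rw [show n - c = n + 1 - (c + 1) by omega]
  set J := Ideal.span (Set.range fun i => MvPolynomial.map (algebraMap R p.ResidueField) (awaySeq F h i))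
  have eJ : (MvPolynomial (Fin (n + 1)) p.ResidueField ⧸ J) ≃+* p.Fiber (Synt.RelGCIRing R (n + 1) (c + 1) (awaySeq F h)) :=
    (Ideal.quotEquivOfEq (ker_fibrePres (awaySeq F h) p).symm).trans
      (RingHom.quotientKerEquivOfSurjective (fibrePres_surjective (awaySeq F h) p))
  rw [← ringKrullDim_eq_of_ringEquiv eJ]
  haveI : Nontrivial (MvPolynomial (Fin (n + 1)) p.ResidueField ⧸ J) := eJ.toEquiv.nontrivial
  obtain ⟨Q, hQ⟩ := Ideal.nonempty_minimalPrimes (Ideal.Quotient.nontrivial_iff.1 ‹Nontrivial (_ ⧸ J)›)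
  haveI := hQ.isPrime
  have h1 : Q.height ≤ ((c + 1 : ℕ) : ℕ∞) := by
    refine (Ideal.height_le_card_of_mem_minimalPrimes_span (Set.finite_range _) hQ).trans ?_
    exact Nat.cast_le.2 ((Finite.card_range_le _).trans (le_of_eq (Nat.card_fin _)))
  have h2 := (GeomUnib.le_height_add_dim p.ResidueField (n + 1) Q).trans
    (add_le_add (WithBot.coe_le_coe.2 h1) (ringKrullDim_le_of_surjective (Ideal.Quotient.factor hQ.le)
      (Ideal.Quotient.factor_surjective hQ.le)))
  generalize ringKrullDim (MvPolynomial (Fin (n + 1)) p.ResidueField ⧸ J) = D at h2 ⊢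
  induction D with
  | bot => simp at h2
  | coe D =>
    rcases eq_or_ne D ⊤ with rfl | hD
    · exact le_top
    lift D to ℕ using hD
    have h3 : ((n + 1 : ℕ) : WithBot ℕ∞) ≤ ((c + 1 + D : ℕ) : WithBot ℕ∞) := by
      rw [Nat.cast_add (c + 1) D]; exact h2
    have h4 := Nat.cast_le.1 h3
    exact Nat.cast_le.2 (show n + 1 - (c + 1) ≤ D by omega)

/-- A basic open of a basic open is a basic open. -/
theorem exists_away_away {S A : Type u} [CommRing S] [Algebra R S] [CommRing A] [Algebra R A] (q : Ideal S)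
    (g₀ : S) (e : Localization.Away g₀ ≃ₐ[R] A) (a : A)
    (hq : ∀ s ∈ q, algebraMap S (Localization.Away g₀) s ∈ q.map (algebraMap S (Localization.Away g₀)))
    (qL : Ideal (Localization.Away g₀)) [qL.IsPrime] (ha : e.symm a ∉ qL)
    (hqL : q.map (algebraMap S (Localization.Away g₀)) ≤ qL := by exact le_rfl) :
    ∃ g : S, g ∉ q ∧ Nonempty (Localization.Away g ≃ₐ[R] Localization.Away a) := by
  obtain ⟨k, s, hs⟩ := IsLocalization.Away.surj g₀ (e.symm a)
  have hu : IsUnit (algebraMap S (Localization.Away g₀) g₀ ^ k) := (IsLocalization.Away.algebraMap_isUnit g₀).pow k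
  refine ⟨g₀ * s, fun hmem => ?_, ?_⟩
  · have h1 := hqL (hq _ hmem)
    rw [map_mul, Ideal.unit_mul_mem_iff_mem _ (IsLocalization.Away.algebraMap_isUnit g₀), ← hs,
      Ideal.mul_unit_mem_iff_mem _ hu] at h1
    exact ha h1
  · have hassoc : Associated (algebraMap S (Localization.Away g₀) s) (e.symm a) :=
      hs ▸ associated_mul_unit_left (e.symm a) _ hu
    haveI : IsLocalization.Away (g₀ * s) (Localization.Away (e.symm a)) :=
      IsLocalization.Away.mul_of_associated g₀ s (e.symm a) hassoc
    let f1 : Localization.Away (g₀ * s) ≃ₐ[R] Localization.Away (e.symm a) :=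
      (IsLocalization.algEquiv (Submonoid.powers (g₀ * s)) _ _).restrictScalars R
    have hmap : Submonoid.map e.toRingEquiv.toMonoidHom (Submonoid.powers (e.symm a)) = Submonoid.powers a := by
      rw [Submonoid.map_powers]; congr 1; exact e.apply_symm_apply a
    let f2 : Localization.Away (e.symm a) ≃ₐ[R] Localization.Away a :=
      AlgEquiv.ofRingEquiv (f := IsLocalization.ringEquivOfRingEquiv (Localization.Away (e.symm a)) (Localization.Away a)
        e.toRingEquiv hmap) fun r => by
        rw [IsScalarTower.algebraMap_apply R (Localization.Away g₀) (Localization.Away (e.symm a)),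
          IsLocalization.ringEquivOfRingEquiv_eq, IsScalarTower.algebraMap_apply R A (Localization.Away a)]
        exact congrArg _ (e.commutes r)
    exact ⟨f1.trans f2⟩

section Main

variable {S : Type u} [CommRing S] [Algebra R S] [Algebra (MvPolynomial (Fin n) R) S]
  [IsScalarTower R (MvPolynomial (Fin n) R) S]

/-- The core: a flat finitely presented algebra with Koszul regular fibre ideal is locally a relative global
complete intersection. -/
theorem exists_away_isRelGCI (hπ : Function.Surjective (algebraMap (MvPolynomial (Fin n) R) S))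
    (hI : (RingHom.ker (algebraMap (MvPolynomial (Fin n) R) S)).FG) (q : Ideal S) [q.IsPrime]
    [Module.Flat R (Localization.AtPrime q)] (p : Ideal R) [p.IsPrime] (hp : q.comap (algebraMap R S) = p)
    (Q : Ideal (MvPolynomial (Fin n) p.ResidueField)) [Q.IsPrime]
    (hQ : Q.comap (MvPolynomial.map (algebraMap R p.ResidueField)) = q.comap (algebraMap (MvPolynomial (Fin n) R) S))
    (hAt : KRIdeal.At ((RingHom.ker (algebraMap (MvPolynomial (Fin n) R) S)).map
      (MvPolynomial.map (algebraMap R p.ResidueField))) Q) :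
    ∃ g : S, g ∉ q ∧ ∃ (m d : ℕ) (G : Fin d → MvPolynomial (Fin m) R), Synt.IsRelGCI R m d G ∧
      Nonempty (Localization.Away g ≃ₐ[R] Synt.RelGCIRing R m d G) := by
  classical
  set I := RingHom.ker (algebraMap (MvPolynomial (Fin n) R) S) with hIdef
  set q' := q.comap (algebraMap (MvPolynomial (Fin n) R) S) with hq'def
  haveI : q'.IsPrime := inferInstance
  have hq'p : q'.comap (algebraMap R (MvPolynomial (Fin n) R)) = p := by
    rw [hq'def, Ideal.comap_comap, ← IsScalarTower.algebraMap_eq, hp]
  obtain ⟨g₀, hg₀, c, f, hd⟩ := hAt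
  choose rf hrf F hFI hF using fun i => exists_clear_mem p I (hd.mem i)
  have hspan : Ideal.span (Set.range fun i => MvPolynomial.map (algebraMap R p.ResidueField) (F i)) =
      Ideal.span (Set.range f) := by
    refine le_antisymm (Ideal.span_le.2 ?_) (Ideal.span_le.2 ?_) <;> rintro _ ⟨i, rfl⟩
    · show MvPolynomial.map (algebraMap R p.ResidueField) (F i) ∈ _
      rw [hF]; exact Ideal.mul_mem_left _ _ (Ideal.subset_span (Set.mem_range_self i))
    · exact (Ideal.unit_mul_mem_iff_mem _ (isUnit_C_residue p (hrf i))).1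
        (by rw [← hF]; exact Ideal.subset_span (Set.mem_range_self i))
  obtain ⟨r₀, z₀, hr₀, hz₀⟩ := exists_clear' p g₀
  have hz₀q : z₀ ∉ q' := by
    rw [← hQ, Ideal.mem_comap, hz₀, Ideal.unit_mul_mem_iff_mem _ (isUnit_C_residue p hr₀)]
    exact hg₀
  -- the equations generate the ideal at `q'`
  have hFle : Ideal.span (Set.range F) ≤ I := Ideal.span_le.2 (Set.range_subset_iff.2 hFI)
  have hIq : I ≤ q' := fun x hx => by
    show algebraMap (MvPolynomial (Fin n) R) S x ∈ q
    rw [show algebraMap (MvPolynomial (Fin n) R) S x = 0 from hx]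
    exact q.zero_mem
  have hloc : I.map (algebraMap (MvPolynomial (Fin n) R) (Localization.AtPrime q')) ≤
      (Ideal.span (Set.range F)).map (algebraMap (MvPolynomial (Fin n) R) (Localization.AtPrime q')) := by
    set L := Localization.AtPrime q'
    let π : L →+* Localization.AtPrime q :=
      Localization.localRingHom q' q (algebraMap (MvPolynomial (Fin n) R) S) rfl
    let πA : L →ₐ[R] Localization.AtPrime q :=
      ⟨π, fun r => by
        rw [IsScalarTower.algebraMap_apply R (MvPolynomial (Fin n) R) L]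
        show π _ = _
        rw [Localization.localRingHom_to_map, ← IsScalarTower.algebraMap_apply R (MvPolynomial (Fin n) R) S,
          ← IsScalarTower.algebraMap_apply R S (Localization.AtPrime q)]⟩
    have hsurj : Function.Surjective πA := RingHom.surjective_localRingHom_of_surjective _ hπ q
    have hker : RingHom.ker πA = I.map (algebraMap _ L) := by
      refine le_antisymm (fun x hx => ?_) (Ideal.map_le_iff_le_comap.2 fun a ha => ?_)
      · obtain ⟨⟨a, s⟩, rfl⟩ := IsLocalization.mk'_surjective q'.primeCompl x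
        have h1 : π (algebraMap _ L a) = 0 := by
          rw [← IsLocalization.mk'_spec L a s, map_mul, show π _ = 0 from hx, zero_mul]
        rw [Localization.localRingHom_to_map] at h1
        obtain ⟨⟨t, ht⟩, hts⟩ := (IsLocalization.map_eq_zero_iff q.primeCompl (Localization.AtPrime q) _).1 h1
        obtain ⟨t, rfl⟩ := hπ t
        rw [← map_mul] at hts
        have h2 : algebraMap _ L (t * a) ∈ I.map (algebraMap _ L) := Ideal.mem_map_of_mem _ (show t * a ∈ I from hts)
        rw [map_mul, Ideal.unit_mul_mem_iff_mem _ (IsLocalization.map_units L (⟨t, ht⟩ : q'.primeCompl))] at h2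
        exact IsLocalization.mk'_mem_iff.2 h2
      · show π _ = 0
        rw [Localization.localRingHom_to_map, show algebraMap (MvPolynomial (Fin n) R) S a = 0 from ha, map_zero]
    haveI : Module.Flat R (L ⧸ RingHom.ker πA) :=
      Module.Flat.of_linearEquiv (Ideal.quotientKerAlgEquivOfSurjective hsurj).toLinearEquiv
    haveI : Module.Flat R (L ⧸ I.map (algebraMap _ L)) := by rw [← hker]; infer_instance
    refine Submodule.le_of_le_smul_of_le_jacobson_bot (I := p.map (algebraMap R L)) (hI.map _) ?_ ?_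
    · rw [IsLocalRing.jacobson_eq_maximalIdeal ⊥ bot_ne_top, Ideal.map_le_iff_le_comap]
      intro x hx
      rw [Ideal.mem_comap, IsScalarTower.algebraMap_apply R (MvPolynomial (Fin n) R) L,
        IsLocalization.AtPrime.to_map_mem_maximal_iff L q']
      rw [← hq'p] at hx
      exact hx
    · refine Ideal.map_le_iff_le_comap.2 fun i hi => ?_
      have hm : algebraMap _ (Localization.Away g₀) (MvPolynomial.map (algebraMap R p.ResidueField) i) ∈
          (Ideal.span (Set.range f)).map (algebraMap _ (Localization.Away g₀)) :=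
        hd.map_eq ▸ Ideal.mem_map_of_mem _ (Ideal.mem_map_of_mem _ hi)
      obtain ⟨_, ⟨k, rfl⟩, hk⟩ := (IsLocalization.algebraMap_mem_map_algebraMap_iff (Submonoid.powers g₀) _ _ _).1 hm
      have h1 : MvPolynomial.map (algebraMap R p.ResidueField) (z₀ ^ k * i) ∈
          (Ideal.span (Set.range F)).map (MvPolynomial.map (algebraMap R p.ResidueField)) := by
        rw [Ideal.map_span, ← Set.range_comp, show ((MvPolynomial.map (algebraMap R p.ResidueField)) ∘ F) =
          fun i => MvPolynomial.map (algebraMap R p.ResidueField) (F i) from rfl, hspan, map_mul, map_pow, hz₀, mul_pow,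
          mul_assoc]
        exact Ideal.mul_mem_left _ _ hk
      obtain ⟨r, hr, w, hw, he⟩ := exists_clear_mem p _ h1
      have h2 : C r * (z₀ ^ k * i) - w ∈ p.map (algebraMap R (MvPolynomial (Fin n) R)) :=
        mem_map_C_of_map_eq_zero p (by rw [map_sub, map_mul (MvPolynomial.map _), MvPolynomial.map_C, he, sub_self])
      have h3 : algebraMap _ L (C r * (z₀ ^ k * i) - w) ∈ p.map (algebraMap R L) := by
        rw [IsScalarTower.algebraMap_eq R (MvPolynomial (Fin n) R) L, ← Ideal.map_map]
        exact Ideal.mem_map_of_mem _ h2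
      have h4 : algebraMap _ L (C r * (z₀ ^ k * i) - w) ∈ I.map (algebraMap _ L) :=
        Ideal.mem_map_of_mem _ (sub_mem (I.mul_mem_left _ (I.mul_mem_left _ hi)) (hFle hw))
      have h5 := mem_mul_of_mem_map_of_flat (I.map (algebraMap _ L)) p h4 h3
      have hu : IsUnit (algebraMap _ L (C r * z₀ ^ k)) := IsLocalization.map_units L
        (⟨_, q'.primeCompl.mul_mem (x := C r) (fun hh => hr (hq'p ▸ hh)) (q'.primeCompl.pow_mem hz₀q k)⟩ : q'.primeCompl)
      rw [Ideal.mem_comap, ← Ideal.unit_mul_mem_iff_mem _ hu, ← map_mul, mul_assoc,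
        show algebraMap _ L (C r * (z₀ ^ k * i)) = algebraMap _ L (C r * (z₀ ^ k * i) - w) + algebraMap _ L w by
          rw [← map_add, sub_add_cancel]]
      exact Submodule.add_mem_sup h5 (Ideal.mem_map_of_mem _ hw) |> fun h => by rwa [sup_comm, smul_eq_mul]
  -- spreading
  obtain ⟨t, htq, htI⟩ : ∃ t : MvPolynomial (Fin n) R, t ∉ q' ∧ ∀ i ∈ I, t * i ∈ Ideal.span (Set.range F) := by
    obtain ⟨s, hs⟩ := hI
    have hex : ∀ i ∈ s, ∃ t ∉ q', t * i ∈ Ideal.span (Set.range F) := fun i hi => by
      have hiI : i ∈ I := hs ▸ Ideal.subset_span hi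
      obtain ⟨t, ht, h⟩ := (IsLocalization.algebraMap_mem_map_algebraMap_iff q'.primeCompl (Localization.AtPrime q') _ _).1
        (hloc (Ideal.mem_map_of_mem _ hiI))
      exact ⟨t, ht, h⟩
    choose! t ht htm using hex
    refine ⟨∏ i ∈ s, t i, fun h => ?_, fun i hi => ?_⟩
    · obtain ⟨i, hi, hti⟩ := (Ideal.IsPrime.prod_mem_iff (hp := inferInstance)).1 h
      exact ht i hi hti
    · rw [← hs] at hi
      refine Submodule.span_induction (p := fun y _ => (∏ i ∈ s, t i) * y ∈ Ideal.span (Set.range F)) ?_ ?_ ?_ ?_ hi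
      · intro y hy
        rw [← Finset.prod_erase_mul s t hy, mul_assoc]
        exact Ideal.mul_mem_left _ _ (htm y hy)
      · simp
      · intro x y _ _ hx hy; rw [mul_add]; exact add_mem hx hy
      · intro a y _ hy; rw [smul_eq_mul, mul_left_comm]; exact Ideal.mul_mem_left _ _ hy
  set h := t * z₀ with hhdef
  have hhq : h ∉ q' := q'.primeCompl.mul_mem htq hz₀q
  set σ : Synt.RelGCIRing R n c F →ₐ[R] S :=
    Ideal.Quotient.liftₐ _ (IsScalarTower.toAlgHom R (MvPolynomial (Fin n) R) S) (fun a ha => hFle ha)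
  have hσ : ∀ a, σ (Ideal.Quotient.mk _ a) = algebraMap (MvPolynomial (Fin n) R) S a := fun a => rfl
  obtain ⟨eS⟩ : Nonempty (Localization.Away (algebraMap (MvPolynomial (Fin n) R) S h) ≃ₐ[R]
      Localization.Away (Ideal.Quotient.mk (Ideal.span (Set.range F)) h)) := by
    letI := σ.toRingHom.toAlgebra
    haveI : IsScalarTower R (Synt.RelGCIRing R n c F) S := IsScalarTower.of_algebraMap_eq fun r => (σ.commutes r).symm
    set g := algebraMap (MvPolynomial (Fin n) R) S h
    haveI : IsScalarTower R (Synt.RelGCIRing R n c F) (Localization.Away g) := by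
      refine IsScalarTower.of_algebraMap_eq (R := R) (S := Synt.RelGCIRing R n c F) (A := Localization.Away g) fun r => ?_
      rw [IsScalarTower.algebraMap_apply R S (Localization.Away g),
        IsScalarTower.algebraMap_apply (Synt.RelGCIRing R n c F) S (Localization.Away g),
        ← IsScalarTower.algebraMap_apply R (Synt.RelGCIRing R n c F) S]
    haveI : IsLocalization.Away (Ideal.Quotient.mk (Ideal.span (Set.range F)) h) (Localization.Away g) := by
      refine IsLocalization.Away.mk _ ?_ (fun z => ?_) (fun a b hab => ?_)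
      · rw [IsScalarTower.algebraMap_apply (Synt.RelGCIRing R n c F) S]
        exact IsLocalization.Away.algebraMap_isUnit g
      · obtain ⟨k, a, ha⟩ := IsLocalization.Away.surj g z
        obtain ⟨a, rfl⟩ := hπ a
        exact ⟨k, Ideal.Quotient.mk _ a, by rw [IsScalarTower.algebraMap_apply (Synt.RelGCIRing R n c F) S,
          IsScalarTower.algebraMap_apply (Synt.RelGCIRing R n c F) S]; exact ha⟩
      · rw [IsScalarTower.algebraMap_apply (Synt.RelGCIRing R n c F) S,
          IsScalarTower.algebraMap_apply (Synt.RelGCIRing R n c F) S (Localization.Away g) b] at hab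
        obtain ⟨k, hk⟩ := IsLocalization.Away.exists_of_eq g hab
        obtain ⟨a, rfl⟩ := Ideal.Quotient.mk_surjective a
        obtain ⟨b, rfl⟩ := Ideal.Quotient.mk_surjective b
        refine ⟨k + 1, ?_⟩
        rw [← map_pow, ← map_mul, ← map_mul, Ideal.Quotient.eq]
        have hI' : h ^ k * a - h ^ k * b ∈ I := by
          show algebraMap (MvPolynomial (Fin n) R) S _ = 0
          rw [map_sub, map_mul, map_mul, map_pow, sub_eq_zero]
          exact hk
        have := htI _ hI'
        rw [show h ^ (k + 1) * a - h ^ (k + 1) * b = z₀ * (t * (h ^ k * a - h ^ k * b)) by rw [hhdef]; ring]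
        exact Ideal.mul_mem_left _ _ this
    exact ⟨((IsLocalization.algEquiv (Submonoid.powers (Ideal.Quotient.mk (Ideal.span (Set.range F)) h))
      (Localization.Away g) (Localization.Away (Ideal.Quotient.mk (Ideal.span (Set.range F)) h))).restrictScalars R)⟩
  obtain ⟨eA⟩ := nonempty_away_equiv F h
  -- heights
  have hht : ∀ (P : Ideal (MvPolynomial (Fin n) p.ResidueField)), P.IsPrime →
      (∀ i, MvPolynomial.map (algebraMap R p.ResidueField) (F i) ∈ P) →
      MvPolynomial.map (algebraMap R p.ResidueField) h ∉ P → (c : ℕ∞) ≤ P.height := by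
    intro P hP hFP hhP
    have hg₀P : g₀ ∉ P := fun hg => hhP (by
      rw [hhdef, map_mul, hz₀]; exact Ideal.mul_mem_left _ _ (Ideal.mul_mem_left _ _ hg))
    refine le_height_of_ex P f (fun i => ?_) (hd.transfer (Localization.AtPrime P)
      (IsLocalization.map_units _ (⟨g₀, hg₀P⟩ : P.primeCompl))).1
    exact (hspan ▸ Ideal.span_le.2 (Set.range_subset_iff.2 hFP) : Ideal.span (Set.range f) ≤ P)
      (Ideal.subset_span (Set.mem_range_self i))
  have hcn : c ≤ n := by
    have h1 : (c : ℕ∞) ≤ Q.height := hht Q inferInstance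
      (fun i => by rw [← Ideal.mem_comap, hQ]; exact hIq (hFI i)) (by rw [← Ideal.mem_comap, hQ]; exact hhq)
    have h2 : (Q.height : WithBot ℕ∞) ≤ n := by
      refine (Ideal.height_le_ringKrullDim_of_ne_top Ideal.IsPrime.ne_top').trans (le_of_eq ?_)
      rw [MvPolynomial.ringKrullDim_of_isNoetherianRing, ringKrullDim_eq_zero_of_field]; simp
    exact Nat.cast_le.1 (h1.trans (WithBot.coe_le_coe.1 h2))
  -- shrink once more
  let e : Localization.Away (algebraMap (MvPolynomial (Fin n) R) S h) ≃ₐ[R]
      Synt.RelGCIRing R (n + 1) (c + 1) (awaySeq F h) := eS.trans eA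
  have hu : IsUnit (algebraMap S (Localization.Away (algebraMap (MvPolynomial (Fin n) R) S h))
      (algebraMap (MvPolynomial (Fin n) R) S h)) := IsLocalization.Away.algebraMap_isUnit _
  let qL : Ideal (Localization.Away (algebraMap (MvPolynomial (Fin n) R) S h)) := q.map (algebraMap S _)
  have hdisj : Disjoint (Submonoid.powers (algebraMap (MvPolynomial (Fin n) R) S h) : Set S) (q : Set S) :=
    Set.disjoint_left.2 fun x hx hxq => by
      obtain ⟨k, rfl⟩ := hx
      exact hhq (‹q.IsPrime›.mem_of_pow_mem k hxq)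
  haveI : qL.IsPrime := IsLocalization.isPrime_of_isPrime_disjoint _ _ q inferInstance hdisj
  have hqL : qL.comap (algebraMap S _) = q := IsLocalization.under_map_of_isPrime_disjoint _ _ ‹q.IsPrime› hdisj
  let qA : PrimeSpectrum (Synt.RelGCIRing R (n + 1) (c + 1) (awaySeq F h)) := ⟨qL.comap e.symm.toRingHom, inferInstance⟩
  have hqA : qA.asIdeal.comap (algebraMap R _) = p := by
    show (qL.comap e.symm.toRingHom).comap _ = p
    rw [Ideal.comap_comap, show e.symm.toRingHom.comp (algebraMap R _) = algebraMap R _ from RingHom.ext e.symm.commutes,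
      IsScalarTower.algebraMap_eq R S (Localization.Away _), ← Ideal.comap_comap, hqL, hp]
  haveI : Nontrivial (p.Fiber (Synt.RelGCIRing R (n + 1) (c + 1) (awaySeq F h))) := by
    rw [← PrimeSpectrum.nonempty_iff_nontrivial]
    exact ⟨PrimeSpectrum.preimageHomeomorphFiber R _ ⟨p, inferInstance⟩ ⟨qA, PrimeSpectrum.ext hqA⟩⟩
  have hdim : ringKrullDim (p.Fiber (Synt.RelGCIRing R (n + 1) (c + 1) (awaySeq F h))) = ((n - c : ℕ) : WithBot ℕ∞) :=
    le_antisymm (dim_fiber_awaySeq_le F h p hht) (le_dim_fiber_awaySeq F h p)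
  obtain ⟨g₁, hg₁, hu₁⟩ := exists_isUnit_fiber (badIdeal R (Synt.RelGCIRing R (n + 1) (c + 1) (awaySeq F h)) (n - c)) p
    fun qq hqq => (good_iff (n - c) qq).1 (good_of_dim (n - c) p hdim qq hqq)
  obtain ⟨h₁, rfl⟩ := Ideal.Quotient.mk_surjective g₁
  have hg₁q : Ideal.Quotient.mk _ h₁ ∉ qA.asIdeal := fun hmem => by
    let qq := PrimeSpectrum.preimageOrderIsoFiber R _ (⟨p, inferInstance⟩ : PrimeSpectrum R) ⟨qA, PrimeSpectrum.ext hqA⟩
    refine qq.isPrime.ne_top (Ideal.eq_top_of_isUnit_mem _ ?_ hu₁)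
    have h0 : qq.asIdeal.comap Algebra.TensorProduct.includeRight.toRingHom = qA.asIdeal :=
      congrArg (fun w => w.1.asIdeal) ((PrimeSpectrum.preimageOrderIsoFiber R _ (⟨p, inferInstance⟩ : PrimeSpectrum R)).symm_apply_apply ⟨qA, PrimeSpectrum.ext hqA⟩)
    rw [← h0] at hmem
    exact hmem
  have hG := isRelGCI_away (awaySeq F h) h₁ (by omega : c + 1 ≤ n + 1)
    (by rw [show n + 1 - (c + 1) = n - c by omega]; exact hg₁)
  obtain ⟨eG⟩ := nonempty_away_equiv (awaySeq F h) h₁
  -- descend the second localisation to `S`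
  obtain ⟨g, hgq, ⟨eF⟩⟩ := exists_away_away q (algebraMap (MvPolynomial (Fin n) R) S h) e (Ideal.Quotient.mk _ h₁)
    (fun a ha => Ideal.mem_map_of_mem _ ha) qL hg₁q
  exact ⟨g, hgq, _, _, _, hG, ⟨eF.trans eG⟩⟩

end Main

end Groth.Agent.RelGCILib
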