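import Groth.Agent.RelGCILib.Basic
import Mathlib.RingTheory.Regular.Flat

/-!
# Conormal module of a relative global complete intersection
-/

set_option autoImplicit false
set_option linter.style.haveILetI false
universe u

open TensorProduct RingTheory.Sequence

namespace Groth.Agent.RelGCILib

variable {R : Type u} [CommRing R]

/-- Localisation commutes with the quotient by a list of elements. -/
noncomputable def quotLocEquiv {P : Type u} [CommRing P] [Algebra R P] (q : Ideal P) [q.IsPrime] (l : List P) :
    LocalizedModule q.primeCompl (P ⧸ (Ideal.ofList l • ⊤ : Submodule P P)) ≃ₗ[R]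
      Localization.AtPrime q ⧸ Ideal.ofList (l.map (algebraMap P (Localization.AtPrime q))) :=
  let N : Submodule P P := Ideal.ofList l • ⊤
  let f : P →ₗ[P] Localization.AtPrime q := Algebra.linearMap P (Localization.AtPrime q)
  let e₁ : LocalizedModule q.primeCompl (P ⧸ N) ≃ₗ[P]
      Localization.AtPrime q ⧸ N.localized' (Localization.AtPrime q) q.primeCompl f :=
    IsLocalizedModule.iso q.primeCompl (N.toLocalizedQuotient' (Localization.AtPrime q) q.primeCompl f)
  (e₁.restrictScalars R).trans ((Submodule.quotEquivOfEq _ _ (by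
    show (Ideal.ofList l • ⊤ : Submodule P P).localized' _ _ f = _
    rw [smul_eq_mul, Ideal.mul_top, ← Ideal.map_ofList]
    exact Ideal.localized'_eq_map (Localization.AtPrime q) q.primeCompl _)).restrictScalars R)

variable {n c : ℕ} (F : Fin c → MvPolynomial (Fin n) R)

theorem toCotangent_sum {P : Type u} [CommRing P] {r : ℕ} (x : Fin r → P) (a : Fin r → P)
    (h : ∑ i, a i * x i ∈ Ideal.span (Set.range x)) :
    ∑ i, Ideal.Quotient.mk (Ideal.span (Set.range x)) (a i) •
        (Ideal.span (Set.range x)).toCotangent ⟨x i, Ideal.subset_span (Set.mem_range_self i)⟩ =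
      (Ideal.span (Set.range x)).toCotangent ⟨∑ i, a i * x i, h⟩ := by
  have h2 : (⟨∑ i, a i * x i, h⟩ : Ideal.span (Set.range x)) =
      ∑ i, a i • (⟨x i, Ideal.subset_span (Set.mem_range_self i)⟩ : Ideal.span (Set.range x)) := by
    ext; simp
  rw [h2, map_sum]
  exact Finset.sum_congr rfl fun i _ => by rw [map_smul]; rfl

theorem linearIndependent_cotangent (h : Synt.IsRelGCI R n c F) :
    LinearIndependent (Synt.RelGCIRing R n c F)
      (fun i : Fin c => (Ideal.span (Set.range F)).toCotangent ⟨F i, Ideal.subset_span (Set.mem_range_self i)⟩) := by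
  rw [Fintype.linearIndependent_iff]
  intro g hg i
  choose a ha using fun j => Ideal.Quotient.mk_surjective (g j)
  have hmem : ∑ j, a j * F j ∈ Ideal.span (Set.range F) :=
    sum_mem fun j _ => Ideal.mul_mem_left _ _ (Ideal.subset_span (Set.mem_range_self j))
  have h0 : (Ideal.span (Set.range F)).toCotangent ⟨∑ j, a j * F j, hmem⟩ = 0 := by
    rw [← toCotangent_sum F a hmem, ← hg]
    exact Finset.sum_congr rfl fun j _ => by rw [ha]
  rw [Ideal.toCotangent_eq_zero] at h0
  rw [← ha, Ideal.Quotient.eq_zero_iff_mem]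
  refine Ideal.mem_of_localization_maximal fun m hm => ?_
  by_cases hle : Ideal.span (Set.range F) ≤ m
  swap
  · obtain ⟨x, hx, hxm⟩ := SetLike.not_le_iff_exists.1 hle
    rw [(Ideal.span (Set.range F)).map (algebraMap _ (Localization.AtPrime m)) |>.eq_top_of_isUnit_mem
      (Ideal.mem_map_of_mem _ hx) (IsLocalization.map_units _ (⟨x, hxm⟩ : m.primeCompl))]
    trivial
  set T := Localization.AtPrime m
  let x : Fin c → T := fun j => algebraMap _ T (F j)
  have hFm : ∀ b ∈ List.ofFn F, b ∈ m := fun b hb => by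
    obtain ⟨j, rfl⟩ := List.mem_ofFn.1 hb
    exact hle (Ideal.subset_span (Set.mem_range_self j))
  let eT : LocalizedModule m.primeCompl (MvPolynomial (Fin n) R) ≃ₗ[MvPolynomial (Fin n) R] T :=
    IsLocalizedModule.iso m.primeCompl (Algebra.linearMap (MvPolynomial (Fin n) R) T)
  haveI : Module.Flat R T := Module.Flat.trans R (MvPolynomial (Fin n) R) T
  obtain ⟨hreg, -⟩ := FibreReg.regular_and_flat_list (A := R) m (MvPolynomial (Fin n) R) (List.ofFn F) hFm
    (Module.Flat.of_linearEquiv (eT.restrictScalars R)) (isRegular_fibre F h m hle)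
  have hxreg : IsWeaklyRegular T (List.ofFn x) := by
    rw [show List.ofFn x = (List.ofFn F).map (algebraMap _ T) by rw [List.map_ofFn]; rfl]
    exact (isWeaklyRegular_map_algebraMap_iff T T (List.ofFn F)).2 ((eT.isWeaklyRegular_congr _).1 hreg.toIsWeaklyRegular)
  obtain ⟨b, hb⟩ := S12482.result T c x hxreg
  have hmap : (Ideal.span (Set.range F)).map (algebraMap _ T) = Ideal.span (Set.range x) := by
    rw [Ideal.map_span, ← Set.range_comp]; rfl
  have hmemT : ∑ j, algebraMap _ T (a j) * x j ∈ Ideal.span (Set.range x) :=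
    sum_mem fun j _ => Ideal.mul_mem_left _ _ (Ideal.subset_span (Set.mem_range_self j))
  have hsum : ∑ j, Ideal.Quotient.mk (Ideal.span (Set.range x)) (algebraMap _ T (a j)) • b j = 0 := by
    simp only [hb]
    rw [toCotangent_sum x _ hmemT, Ideal.toCotangent_eq_zero]
    show ∑ j, algebraMap _ T (a j) * x j ∈ _
    rw [← hmap, ← Ideal.map_pow, show ∑ j, algebraMap _ T (a j) * x j = algebraMap _ T (∑ j, a j * F j) by
      simp [x, map_sum]]
    exact Ideal.mem_map_of_mem _ h0
  rw [hmap]
  exact Ideal.Quotient.eq_zero_iff_mem.1 (Fintype.linearIndependent_iff.1 b.linearIndependent _ hsum i)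

theorem span_cotangent :
    Submodule.span (Synt.RelGCIRing R n c F) (Set.range
      (fun i : Fin c => (Ideal.span (Set.range F)).toCotangent ⟨F i, Ideal.subset_span (Set.mem_range_self i)⟩)) = ⊤ := by
  refine eq_top_iff.2 fun y _ => ?_
  obtain ⟨⟨y, hy⟩, rfl⟩ := Ideal.toCotangent_surjective _ y
  obtain ⟨a, rfl⟩ := (Submodule.mem_span_range_iff_exists_fun _).1 hy
  rw [Submodule.mem_span_range_iff_exists_fun]
  exact ⟨fun i => Ideal.Quotient.mk _ (a i), (toCotangent_sum F a hy)⟩

end Groth.Agent.RelGCILib
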