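import Groth.Agent.RelGCILib.Away

/-!
# Fibres over points of a closed subscheme of the base
-/

set_option autoImplicit false
set_option linter.style.haveILetI false
universe u

open TensorProduct MvPolynomial

namespace Groth.Agent.RelGCILib

variable {R : Type u} [CommRing R] {n c : ℕ} (F : Fin c → MvPolynomial (Fin n) R) (I : Ideal R)

/-- The fibre presentation. -/
theorem nonempty_fibre_equiv (p : Ideal R) [p.IsPrime] :
    Nonempty ((MvPolynomial (Fin n) p.ResidueField ⧸
        Ideal.span (Set.range fun i => MvPolynomial.map (algebraMap R p.ResidueField) (F i))) ≃+*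
      p.Fiber (Synt.RelGCIRing R n c F)) :=
  ⟨(Ideal.quotEquivOfEq (ker_fibrePres F p).symm).trans (RingHom.quotientKerEquivOfSurjective (fibrePres_surjective F p))⟩

/-- A fibre over a point of `V(I)` is a fibre of the reduction modulo `I`. -/
theorem nonempty_fibre_equiv_reduction (p : Ideal R) [p.IsPrime] (pb : Ideal (R ⧸ I)) [pb.IsPrime]
    (hpb : p = pb.comap (Ideal.Quotient.mk I)) :
    Nonempty (p.Fiber (Synt.RelGCIRing R n c F) ≃+*
      pb.Fiber (Synt.RelGCIRing (R ⧸ I) n c (fun i => MvPolynomial.map (Ideal.Quotient.mk I) (F i)))) := by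
  obtain ⟨e₁⟩ := nonempty_fibre_equiv F p
  obtain ⟨e₂⟩ := nonempty_fibre_equiv (fun i => MvPolynomial.map (Ideal.Quotient.mk I) (F i)) pb
  let σ : p.ResidueField ≃+* pb.ResidueField := RingEquiv.ofBijective (Ideal.ResidueField.map p pb (Ideal.Quotient.mk I) hpb)
    ((RingHom.surjectiveOnStalks_of_surjective Ideal.Quotient.mk_surjective).residueFieldMap_bijective p pb hpb)
  have hσ : σ.toRingHom.comp (algebraMap R p.ResidueField) = (algebraMap (R ⧸ I) pb.ResidueField).comp (Ideal.Quotient.mk I) :=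
    RingHom.ext fun r => Ideal.ResidueField.map_algebraMap _ _ _ _ r
  let e : MvPolynomial (Fin n) p.ResidueField ≃+* MvPolynomial (Fin n) pb.ResidueField := MvPolynomial.mapEquiv (Fin n) σ
  refine ⟨e₁.symm.trans ((Ideal.quotientEquiv _ _ e ?_).trans e₂)⟩
  rw [Ideal.map_span, ← Set.range_comp]
  refine congrArg Ideal.span (congrArg Set.range (funext fun i => ?_))
  show MvPolynomial.map (algebraMap (R ⧸ I) pb.ResidueField) (MvPolynomial.map (Ideal.Quotient.mk I) (F i)) =
    MvPolynomial.map σ.toRingHom (MvPolynomial.map (algebraMap R p.ResidueField) (F i))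
  rw [MvPolynomial.map_map, MvPolynomial.map_map, hσ]

/-- The element `h` cutting out a relative global complete intersection around `V(I)`. -/
theorem exists_away_of_reduction
    (hI : Synt.IsRelGCI (R ⧸ I) n c (fun i => MvPolynomial.map (Ideal.Quotient.mk I) (F i))) :
    ∃ h : MvPolynomial (Fin n) R,
      Ideal.Quotient.mk (I.map (algebraMap R (Synt.RelGCIRing R n c F))) (Ideal.Quotient.mk (Ideal.span (Set.range F)) h) = 1 ∧
      Synt.IsRelGCI R (n + 1) (c + 1) (awaySeq F h) := by
  by_cases htop : I.map (algebraMap R (Synt.RelGCIRing R n c F)) = ⊤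
  · refine ⟨0, ?_, fun p hp => absurd hp ?_⟩
    · haveI : Subsingleton (Synt.RelGCIRing R n c F ⧸ I.map (algebraMap R (Synt.RelGCIRing R n c F))) :=
        Ideal.Quotient.subsingleton_iff.2 htop
      exact Subsingleton.elim _ _
    obtain ⟨e⟩ := nonempty_away_equiv F (0 : MvPolynomial (Fin n) R)
    haveI : Subsingleton (Localization.Away (Ideal.Quotient.mk (Ideal.span (Set.range F)) (0 : MvPolynomial (Fin n) R))) :=
      IsLocalization.subsingleton (M := Submonoid.powers _) (show (0 : Synt.RelGCIRing R n c F) ∈ Submonoid.powers (Ideal.Quotient.mk (Ideal.span (Set.range F)) (0 : MvPolynomial (Fin n) R)) from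
        ⟨1, (pow_one _).trans (map_zero _)⟩)
    haveI : Subsingleton (Synt.RelGCIRing R (n + 1) (c + 1) (awaySeq F 0)) := e.symm.toEquiv.subsingleton
    intro hn
    have h1 : (1 : p.asIdeal.Fiber (Synt.RelGCIRing R (n + 1) (c + 1) (awaySeq F 0))) = 0 := by
      rw [Algebra.TensorProduct.one_def, Subsingleton.elim (1 : Synt.RelGCIRing R (n + 1) (c + 1) (awaySeq F 0)) 0,
        TensorProduct.tmul_zero]
    haveI := subsingleton_of_zero_eq_one (M₀ := p.asIdeal.Fiber (Synt.RelGCIRing R (n + 1) (c + 1) (awaySeq F 0))) h1.symm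
    exact not_nontrivial _ hn
  have hdim : ∀ (q : PrimeSpectrum (Synt.RelGCIRing R n c F)), I.map (algebraMap R (Synt.RelGCIRing R n c F)) ≤ q.asIdeal →
      c ≤ n ∧ Good (A := R) (n - c) q := by
    intro q hq
    have hIp : I ≤ q.asIdeal.comap (algebraMap R (Synt.RelGCIRing R n c F)) := Ideal.map_le_iff_le_comap.1 hq
    have hmap : ((q.asIdeal.comap (algebraMap R _)).map (Ideal.Quotient.mk I)).IsPrime :=
      Ideal.map_isPrime_of_surjective Ideal.Quotient.mk_surjective (by rw [Ideal.mk_ker]; exact hIp)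
    have heq : q.asIdeal.comap (algebraMap R _) =
        ((q.asIdeal.comap (algebraMap R _)).map (Ideal.Quotient.mk I)).comap (Ideal.Quotient.mk I) := by
      rw [Ideal.comap_map_of_surjective _ Ideal.Quotient.mk_surjective, ← RingHom.ker_eq_comap_bot, Ideal.mk_ker,
        sup_eq_left.2 hIp]
    obtain ⟨e⟩ := nonempty_fibre_equiv_reduction F I (q.asIdeal.comap (algebraMap R _)) _ heq
    haveI : Nontrivial ((q.asIdeal.comap (algebraMap R (Synt.RelGCIRing R n c F))).Fiber (Synt.RelGCIRing R n c F)) := by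
      rw [← PrimeSpectrum.nonempty_iff_nontrivial]
      exact ⟨PrimeSpectrum.preimageHomeomorphFiber R _ (PrimeSpectrum.comap (algebraMap R _) q) ⟨q, rfl⟩⟩
    obtain ⟨h1, h2⟩ := hI ⟨_, hmap⟩ e.symm.toEquiv.nontrivial
    exact ⟨h1, good_of_dim (n - c) _ ((ringKrullDim_eq_of_ringEquiv e).trans h2) q rfl⟩
  obtain ⟨M, hM, hle⟩ := Ideal.exists_le_maximal _ htop
  have hcn : c ≤ n := (hdim ⟨M, hM.isPrime⟩ hle).1
  have hsup : badIdeal R (Synt.RelGCIRing R n c F) (n - c) ⊔ I.map (algebraMap R (Synt.RelGCIRing R n c F)) = ⊤ := by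
    by_contra hne
    obtain ⟨M, hM, hle⟩ := Ideal.exists_le_maximal _ hne
    exact (good_iff (n - c) ⟨M, hM.isPrime⟩).1 (hdim ⟨M, hM.isPrime⟩ (le_sup_right.trans hle)).2 (le_sup_left.trans hle)
  obtain ⟨g, hg, i, hi, hgi⟩ := Submodule.mem_sup.1 ((Ideal.eq_top_iff_one _).1 hsup)
  obtain ⟨h, rfl⟩ := Ideal.Quotient.mk_surjective g
  refine ⟨h, ?_, isRelGCI_away F h hcn hg⟩
  rw [← map_one (Ideal.Quotient.mk (I.map (algebraMap R (Synt.RelGCIRing R n c F)))), Ideal.Quotient.eq]
  have h1 : Ideal.Quotient.mk (Ideal.span (Set.range F)) h - 1 = -i := by rw [← hgi]; abel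
  rw [h1]
  exact neg_mem hi

end Groth.Agent.RelGCILib
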