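import Groth.Agent.RelGCILib.Criterion
import Mathlib.RingTheory.Ideal.GoingUp
import Mathlib.RingTheory.HopkinsLevitzki
import Mathlib.RingTheory.Ideal.Quotient.Operations

/-!
# Finite syntomic algebras over a local ring have square presentations
-/

set_option autoImplicit false
set_option linter.style.haveILetI false
universe u

open TensorProduct MvPolynomial

namespace Groth.Agent.RelGCILib

variable {A B : Type u} [CommRing A] [IsLocalRing A] [CommRing B] [Algebra A B]

/-- Finitely many maximal ideals. -/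
theorem finite_maximal [Module.Finite A B] : {M : Ideal B | M.IsMaximal}.Finite := by
  haveI : Algebra.IsIntegral A B := Algebra.IsIntegral.of_finite A B
  let J := (IsLocalRing.maximalIdeal A).map (algebraMap A B)
  letI : Field (A ⧸ IsLocalRing.maximalIdeal A) := Ideal.Quotient.field _
  haveI : Module.Finite (A ⧸ IsLocalRing.maximalIdeal A) (B ⧸ J) :=
    Module.Finite.of_restrictScalars_finite A _ _
  haveI : IsArtinianRing (B ⧸ J) := IsArtinianRing.of_finite (A ⧸ IsLocalRing.maximalIdeal A) _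
  refine ((Set.toFinite (Set.univ : Set (PrimeSpectrum (B ⧸ J)))).image
    fun q => q.asIdeal.comap (Ideal.Quotient.mk J)).subset fun M hM => ?_
  haveI : M.IsMaximal := hM
  have hJM : J ≤ M := Ideal.map_le_iff_le_comap.2
    (IsLocalRing.eq_maximalIdeal (Ideal.isMaximal_comap_of_isIntegral_of_isMaximal M)).ge
  haveI : (M.map (Ideal.Quotient.mk J)).IsPrime :=
    Ideal.map_isPrime_of_surjective Ideal.Quotient.mk_surjective (by rw [Ideal.mk_ker]; exact hJM)
  refine ⟨⟨M.map (Ideal.Quotient.mk J), this⟩, trivial, ?_⟩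
  show (M.map _).comap _ = M
  rw [Ideal.comap_map_of_surjective _ Ideal.Quotient.mk_surjective, ← RingHom.ker_eq_comap_bot, Ideal.mk_ker,
    sup_eq_left.2 hJM]

/-- At most `n` local generators at a point of finite fibre. -/
theorem exists_generators {R S : Type u} [CommRing R] [CommRing S] [Algebra R S] {n : ℕ}
    (π : MvPolynomial (Fin n) R →ₐ[R] S) (hπ : Function.Surjective π) (h : Synt.IsSyntomic R S) (q : Ideal S) [q.IsPrime] :
    ∃ y : Fin n → MvPolynomial (Fin n) R, (∀ i, y i ∈ RingHom.ker π.toRingHom) ∧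
      ∀ a ∈ RingHom.ker π.toRingHom, ∃ s ∉ q.comap π.toRingHom, s * a ∈ Ideal.span (Set.range y) := by
  classical
  haveI := h.1
  haveI : Module.Flat R (MvPolynomial (Fin n) R ⧸ RingHom.ker π.toRingHom) :=
    Module.Flat.of_linearEquiv (Ideal.quotientKerAlgEquivOfSurjective hπ).toLinearEquiv
  obtain ⟨g, hg, r, f, hd⟩ := (KRIdeal.isKRI_iff _).1 (KRIdeal.isKRI_ker_of_isLCI (isLCI_of_isSyntomic R S h) π hπ)
    (q.comap π.toRingHom) fun a ha => by
      show π a ∈ q
      rw [show π a = 0 from ha]; exact zero_mem _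
  let p := q.comap (algebraMap R S)
  have hr : r ≤ n := by
    obtain ⟨α, -, -, hαmap⟩ := exists_fiber_pres p π hπ
    let pp : PrimeSpectrum R := ⟨p, inferInstance⟩
    let Q' := PrimeSpectrum.preimageOrderIsoFiber R S pp ⟨⟨q, inferInstance⟩, rfl⟩
    have hQ' : Q'.asIdeal.comap Algebra.TensorProduct.includeRight.toRingHom = q :=
      congrArg (fun w => w.1.asIdeal) ((PrimeSpectrum.preimageOrderIsoFiber R S pp).symm_apply_apply ⟨⟨q, inferInstance⟩, rfl⟩)
    let Q := Q'.asIdeal.comap α.toRingHom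
    haveI : Q.IsPrime := inferInstance
    set φ := MvPolynomial.map (σ := Fin n) (algebraMap R p.ResidueField) with hφ
    have hQ : ∀ z, φ z ∈ Q ↔ π z ∈ q := fun z => by
      show α (φ z) ∈ Q'.asIdeal ↔ _
      rw [hφ, hαmap]; exact SetLike.ext_iff.1 hQ' (π z)
    have hH1 := isH1Regular_residue p g f hd
    let K := Localization.Away (φ g)
    have hle : Submonoid.powers (φ g) ≤ Q.primeCompl := Submonoid.powers_le.2 (fun hh => hg ((hQ g).1 hh))
    letI := IsLocalization.localizationAlgebraOfSubmonoidLe K (Localization.AtPrime Q) _ _ hle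
    haveI := IsLocalization.localization_isScalarTower_of_submonoid_le K (Localization.AtPrime Q) _ _ hle
    haveI := IsLocalization.isLocalization_of_submonoid_le K (Localization.AtPrime Q) _ _ hle
    haveI : Module.Flat K (Localization.AtPrime Q) :=
      IsLocalization.flat _ (Q.primeCompl.map (algebraMap _ K))
    have hH1Q : CAlgX.IsH1Regular (algebraMap _ (Localization.AtPrime Q) ∘ fun i => φ (f i)) := by
      convert RegSeq.isH1Regular_of_flat (S := Localization.AtPrime Q) hH1 using 1
      funext i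
      exact IsScalarTower.algebraMap_apply _ K _ _
    haveI : IsNoetherianRing (Localization.AtPrime Q) := IsLocalization.isNoetherianRing Q.primeCompl _ inferInstance
    have hfQ : ∀ i, φ (f i) ∈ Q := fun i => (hQ _).2 (by
      rw [show π (f i) = 0 from hd.mem i]; exact zero_mem _)
    have hw := RegSeq.isWeaklyRegular_of_isQuasiRegular r _ (fun i => by
      rw [IsLocalRing.jacobson_eq_maximalIdeal ⊥ bot_ne_top]
      exact (IsLocalization.AtPrime.to_map_mem_maximal_iff _ Q _).2 (hfQ i)) (S2103.result _ hH1Q)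
    have h2 := le_height_of_ex Q _ hfQ ((KoszulLib.ex_iff _).2 (RegSeq.isKoszulRegularSeq_of_isWeaklyRegular hw))
    have h3 : (Q.height : WithBot ℕ∞) ≤ (n : WithBot ℕ∞) := by
      refine (Ideal.height_le_ringKrullDim_of_ne_top Ideal.IsPrime.ne_top').trans (le_of_eq ?_)
      rw [MvPolynomial.ringKrullDim_of_isNoetherianRing, ringKrullDim_eq_zero_of_field]; simp
    exact_mod_cast le_trans (WithBot.coe_le_coe.2 h2) h3
  refine ⟨fun i => if hi : (i : ℕ) < r then f ⟨i, hi⟩ else 0, fun i => ?_, fun a ha => ?_⟩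
  · by_cases hi : (i : ℕ) < r <;> simp only
    · rw [dif_pos hi]; exact hd.mem _
    · rw [dif_neg hi]; exact zero_mem _
  · have ha' := Ideal.mem_map_of_mem (algebraMap _ (Localization.Away g)) ha
    rw [hd.map_eq] at ha'
    obtain ⟨_, ⟨k, rfl⟩, hk⟩ := (IsLocalization.algebraMap_mem_map_algebraMap_iff (Submonoid.powers g) _ _ _).1 ha'
    refine ⟨g ^ k, fun hh => hg (Ideal.IsPrime.mem_of_pow_mem inferInstance k hh), Ideal.span_le.2 ?_ hk⟩
    rintro _ ⟨j, rfl⟩
    exact Ideal.subset_span ⟨⟨j, lt_of_lt_of_le j.2 hr⟩, dif_pos j.2⟩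

theorem exists_square_presentation [Module.Finite A B] (h : Synt.IsSyntomic A B) :
    ∃ (n : ℕ) (F : Fin n → MvPolynomial (Fin n) A), Nonempty (B ≃ₐ[A] Synt.RelGCIRing A n n F) := by
  classical
  haveI := h.2.1
  obtain ⟨n, π, hπ, hI⟩ := Algebra.FinitePresentation.out (R := A) (A := B)
  set I := RingHom.ker π.toRingHom with hIdef
  haveI : Finite {M : Ideal B | M.IsMaximal} := (finite_maximal (A := A) (B := B)).to_subtype
  let ι := {M : Ideal B | M.IsMaximal}
  haveI : Fintype ι := Fintype.ofFinite ι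
  let P : ι → Ideal (MvPolynomial (Fin n) A) := fun M => M.1.comap π.toRingHom
  haveI hP : ∀ M, (P M).IsMaximal := fun M => by
    haveI : M.1.IsMaximal := M.2
    exact Ideal.comap_isMaximal_of_surjective π.toRingHom hπ
  choose y hyI hy using fun M : ι => (haveI : M.1.IsMaximal := M.2; exists_generators π hπ h M.1)
  have hco : Pairwise (Function.onFun IsCoprime P) := fun M M' hne => by
    refine Ideal.isCoprime_iff_sup_eq.2 ((hP M).coprime_of_ne (hP M') fun he => hne (Subtype.ext ?_))
    exact Ideal.comap_injective_of_surjective π.toRingHom hπ he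
  choose e he using fun M : ι => Ideal.exists_forall_sub_mem_ideal hco (fun M' => if M' = M then 1 else 0)
  let f : Fin n → MvPolynomial (Fin n) A := fun i => ∑ M, e M * y M i
  have hfI : ∀ i, f i ∈ I := fun i => sum_mem fun M _ => I.mul_mem_left _ (hyI M i)
  have hmod : ∀ (M : ι) i, f i - y M i ∈ P M * I := fun M i => by
    have hh : f i - y M i = ∑ M', (e M' - if M = M' then 1 else 0) * y M' i := by
      simp [f, sub_mul, Finset.sum_sub_distrib]
    rw [hh]
    exact sum_mem fun M' _ => Ideal.mul_mem_mul (he M' M) (hyI M' i)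
  let J : Ideal (MvPolynomial (Fin n) A) := (Ideal.span (Set.range f)).colon (I : Set (MvPolynomial (Fin n) A))
  have hJtop : J ⊔ I = ⊤ := by
    by_contra hne
    obtain ⟨M₀, hM₀, hle⟩ := Ideal.exists_le_maximal _ hne
    have hker : RingHom.ker π.toRingHom ≤ M₀ := le_sup_right.trans hle
    have hmax : (M₀.map π.toRingHom).IsMaximal :=
      ((Ideal.map_eq_top_or_isMaximal_of_surjective π.toRingHom hπ hM₀).resolve_left fun ht => by
        have h1 := congrArg (Ideal.comap π.toRingHom) ht
        rw [Ideal.comap_map_of_surjective π.toRingHom hπ, ← RingHom.ker_eq_comap_bot, sup_eq_left.2 hker, Ideal.comap_top] at h1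
        exact hM₀.ne_top h1)
    let M : ι := ⟨_, hmax⟩
    have hPM : P M = M₀ := by
      show (M₀.map π.toRingHom).comap π.toRingHom = M₀
      rw [Ideal.comap_map_of_surjective π.toRingHom hπ, ← RingHom.ker_eq_comap_bot, sup_eq_left.2 hker]
    haveI : (P M).IsPrime := (hP M).isPrime
    set L := Localization.AtPrime (P M)
    have hloc : I.map (algebraMap _ L) ≤ (Ideal.span (Set.range f)).map (algebraMap _ L) := by
      refine Submodule.le_of_le_smul_of_le_jacobson_bot (I := (P M).map (algebraMap _ L)) (hI.map _) ?_ ?_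
      · rw [IsLocalRing.jacobson_eq_maximalIdeal ⊥ bot_ne_top, Localization.AtPrime.map_eq_maximalIdeal]
      · refine Ideal.map_le_iff_le_comap.2 fun a ha => ?_
        obtain ⟨s, hs, hsa⟩ := hy M a ha
        rw [Ideal.mem_comap, ← Ideal.unit_mul_mem_iff_mem _ (IsLocalization.map_units L (⟨s, hs⟩ : (P M).primeCompl)),
          ← map_mul, smul_eq_mul, ← Ideal.map_mul, ← Ideal.map_sup]
        refine Ideal.mem_map_of_mem _ ?_
        refine Ideal.span_le.2 (fun x hx => ?_) hsa
        obtain ⟨i, rfl⟩ := hx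
        rw [show y M i = f i - (f i - y M i) by ring]
        exact sub_mem (Ideal.mem_sup_left (Ideal.subset_span ⟨i, rfl⟩)) (Ideal.mem_sup_right (hmod M i))
    obtain ⟨s, hs⟩ := hI
    have hex : ∀ a ∈ s, ∃ t ∉ P M, t * a ∈ Ideal.span (Set.range f) := fun a ha => by
      have haI : a ∈ I := hs ▸ Ideal.subset_span ha
      obtain ⟨t, ht, h'⟩ := (IsLocalization.algebraMap_mem_map_algebraMap_iff (P M).primeCompl L _ _).1
        (hloc (Ideal.mem_map_of_mem _ haI))
      exact ⟨t, ht, h'⟩
    choose! t ht htm using hex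
    have hprod : ∏ a ∈ s, t a ∈ J := Submodule.mem_colon.2 fun a ha => by
      rw [← hs] at ha
      refine Submodule.span_induction (p := fun b _ => (∏ a ∈ s, t a) • b ∈ Ideal.span (Set.range f)) ?_ ?_ ?_ ?_ ha
      · intro b hb
        rw [smul_eq_mul, ← Finset.prod_erase_mul s t hb, mul_assoc]
        exact Ideal.mul_mem_left _ _ (htm b hb)
      · simp
      · intro u v _ _ hu hv; rw [smul_add]; exact add_mem hu hv
      · intro c v _ hv; rw [smul_comm]; exact Ideal.mul_mem_left _ _ hv
    have h2 : ∏ a ∈ s, t a ∈ P M := hPM ▸ (le_sup_left.trans hle) hprod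
    obtain ⟨a, ha, h3⟩ := (Ideal.IsPrime.prod_mem_iff (hp := inferInstance)).1 h2
    exact ht a ha h3
  obtain ⟨hh, hhJ, b, hb, hsum⟩ := Submodule.mem_sup.1 (hJtop ▸ Submodule.mem_top : (1 : MvPolynomial (Fin n) A) ∈ J ⊔ I)
  have hπh : π hh = 1 := by
    have := congrArg π hsum
    rwa [map_add, show π b = 0 from hb, add_zero, map_one] at this
  let σ : Synt.RelGCIRing A n n f →ₐ[A] B := Ideal.Quotient.liftₐ _ π fun a ha =>
    (Ideal.span_le.2 (Set.range_subset_iff.2 hfI) ha : a ∈ I)
  have hσ : ∀ z, σ (Ideal.Quotient.mk _ z) = π z := fun z => rfl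
  letI := σ.toRingHom.toAlgebra
  haveI : IsScalarTower A (Synt.RelGCIRing A n n f) B := IsScalarTower.of_algebraMap_eq fun r => (σ.commutes r).symm
  haveI : IsLocalization.Away (Ideal.Quotient.mk (Ideal.span (Set.range f)) hh) B := by
    refine ⟨?_, fun z => ?_, fun {x y} hxy => ?_⟩
    · rintro ⟨_, k, rfl⟩
      show IsUnit (σ _)
      rw [map_pow, hσ, hπh]; exact isUnit_one.pow k
    · obtain ⟨z, rfl⟩ := hπ z
      refine ⟨(Ideal.Quotient.mk _ z, 1), ?_⟩
      show _ * σ 1 = σ _
      rw [map_one, mul_one, hσ]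
    · obtain ⟨x, rfl⟩ := Ideal.Quotient.mk_surjective x
      obtain ⟨y, rfl⟩ := Ideal.Quotient.mk_surjective y
      refine ⟨⟨_, Submonoid.mem_powers _⟩, ?_⟩
      show Ideal.Quotient.mk _ hh * Ideal.Quotient.mk _ x = Ideal.Quotient.mk _ hh * Ideal.Quotient.mk _ y
      rw [← map_mul, ← map_mul, Ideal.Quotient.eq, ← mul_sub]
      have hxy' : x - y ∈ I := by
        show π (x - y) = 0
        rw [map_sub, sub_eq_zero]; exact hxy
      exact Submodule.mem_colon.1 hhJ _ hxy'
  obtain ⟨e₁⟩ := nonempty_away_equiv f hh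
  exact ⟨n + 1, awaySeq f hh,
    ⟨((IsLocalization.algEquiv (Submonoid.powers (Ideal.Quotient.mk (Ideal.span (Set.range f)) hh)) B
      (Localization.Away (Ideal.Quotient.mk (Ideal.span (Set.range f)) hh))).restrictScalars A).trans e₁⟩⟩

end Groth.Agent.RelGCILib
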